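import Mathlib

/-! Products of conjugates with no common subspace of equal action. -/

set_option autoImplicit false
set_option linter.unusedSectionVars false

namespace CfsgLib.PSLCover

open Module LinearMap

universe u v w

variable {K : Type u} [Field K] {V : Type v} [AddCommGroup V] [Module K V]

/-- Conjugate by a map with determinant in `H`. -/
def ConjIn (H : Set K) (x y : Module.End K V) : Prop :=
  ∃ e : V ≃ₗ[K] V, LinearMap.det (e : V →ₗ[K] V) ∈ H ∧ ∀ v, y (e v) = e (x v)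

theorem ConjIn.refl {H : Set K} (h : (1 : K) ∈ H) (x : Module.End K V) : ConjIn H x x :=
  ⟨LinearEquiv.refl K V, by simpa using h, fun _ => rfl⟩

theorem ConjIn.mono {H H' : Set K} (h : H ⊆ H') {x y : Module.End K V} (hc : ConjIn H x y) : ConjIn H' x y := by
  obtain ⟨e, he, hy⟩ := hc
  exact ⟨e, h he, hy⟩

theorem ConjIn.trans {x y z : Module.End K V} (h : ConjIn ({1} : Set K) x y) (h' : ConjIn ({1} : Set K) y z) :
    ConjIn ({1} : Set K) x z := by
  obtain ⟨e, he, hy⟩ := h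
  obtain ⟨c, hc, hz⟩ := h'
  refine ⟨e ≪≫ₗ c, ?_, fun v => ?_⟩
  · rw [Set.mem_singleton_iff] at *
    rw [show ((e ≪≫ₗ c : V ≃ₗ[K] V) : V →ₗ[K] V) = (c : V →ₗ[K] V) * (e : V →ₗ[K] V) from rfl, map_mul, hc, he,
      one_mul]
  · rw [LinearEquiv.trans_apply, LinearEquiv.trans_apply, hz, hy]

/-- Conjugation moves to any linearly equivalent space. -/
theorem ConjIn.transfer {W : Type w} [AddCommGroup W] [Module K W] {H : Set K} {x y : Module.End K V}
    (h : ConjIn H x y) (φ : V ≃ₗ[K] W) : ConjIn H (φ.conj x) (φ.conj y) := by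
  obtain ⟨e, he, hy⟩ := h
  refine ⟨φ.symm ≪≫ₗ e ≪≫ₗ φ, ?_, fun v => ?_⟩
  · have : ((φ.symm ≪≫ₗ e ≪≫ₗ φ : W ≃ₗ[K] W) : W →ₗ[K] W) =
        (φ : V →ₗ[K] W) ∘ₗ (e : V →ₗ[K] V) ∘ₗ (φ.symm : W →ₗ[K] V) := rfl
    rw [this, LinearMap.det_conj]
    exact he
  · simp [LinearEquiv.conj_apply, hy]

/-- No common eigenvector for values in `Λ`, and no common subspace of equal action free of eigenvectors. -/
def Div (Λ : Set K) (L : List (Module.End K V)) : Prop :=
  (∀ a ∈ Λ, ∀ v : V, (∀ f ∈ L, f v = a • v) → v = 0) ∧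
  ∀ S : Submodule K V, (∀ f ∈ L, ∀ v ∈ S, f v ∈ S) → (∀ f ∈ L, ∀ f' ∈ L, ∀ v ∈ S, f v = f' v) →
    (∀ a : K, ∀ v ∈ S, (∀ f ∈ L, f v = a • v) → v = 0) → S = ⊥

theorem Div.mono {Λ Λ' : Set K} (h : Λ ⊆ Λ') {L : List (Module.End K V)} (hd : Div Λ' L) : Div Λ L :=
  ⟨fun a ha => hd.1 a (h ha), hd.2⟩

/-- Extending a list keeps it diverse. -/
theorem Div.of_subset {Λ : Set K} {L L' : List (Module.End K V)} (h : ∀ f ∈ L, f ∈ L') (hd : Div Λ L) (hL : L ≠ []) :
    Div Λ L' := by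
  obtain ⟨f0, hf0⟩ : ∃ f0, f0 ∈ L := ⟨L.head hL, List.head_mem hL⟩
  refine ⟨fun a ha v hv => hd.1 a ha v fun f hf => hv f (h f hf), fun S hi he hn =>
    hd.2 S (fun f hf => hi f (h f hf)) (fun f hf f' hf' => he f (h f hf) f' (h f' hf')) fun a v hv hall => ?_⟩
  exact hn a v hv fun f hf => by rw [he f hf f0 (h f0 hf0) v hv]; exact hall f0 hf0

/-- `g` is a product of `m` conjugates of `x`, diversely. -/
def Good (H Λ : Set K) (x g : Module.End K V) (m : ℕ) : Prop :=
  ∃ L : List (Module.End K V), L.length = m ∧ (∀ f ∈ L, ConjIn H x f) ∧ L.prod = g ∧ Div Λ L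

theorem Good.mono {H H' Λ Λ' : Set K} (hH : H ⊆ H') (hΛ : Λ' ⊆ Λ) {x g : Module.End K V} {m : ℕ}
    (h : Good H Λ x g m) : Good H' Λ' x g m := by
  obtain ⟨L, h1, h2, h3, h4⟩ := h
  exact ⟨L, h1, fun f hf => (h2 f hf).mono hH, h3, h4.mono hΛ⟩

theorem Good.transfer {W : Type w} [AddCommGroup W] [Module K W] {H Λ : Set K} {x g : Module.End K V} {m : ℕ}
    (h : Good H Λ x g m) (φ : V ≃ₗ[K] W) : Good H Λ (φ.conj x) (φ.conj g) m := by
  obtain ⟨L, h1, h2, h3, h4, h5⟩ := h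
  have happ : ∀ (f : Module.End K V) (v : V), φ.conj f (φ v) = φ (f v) := fun f v => by
    simp [LinearEquiv.conj_apply]
  refine ⟨L.map φ.conj, by simp [h1], ?_, ?_, ?_, ?_⟩
  · intro f hf
    obtain ⟨f', hf', rfl⟩ := List.mem_map.1 hf
    exact (h2 f' hf').transfer φ
  · rw [← h3]
    exact (map_list_prod φ.conjRingEquiv L).symm
  · intro a ha v hv
    obtain ⟨v, rfl⟩ := φ.surjective v
    rw [h4 a ha v fun f hf => φ.injective (by rw [map_smul, ← happ, hv _ (List.mem_map_of_mem hf)]), map_zero]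
  · intro S hi he hn
    have hS := h5 (S.comap (φ : V →ₗ[K] W))
      (fun f hf v hv => by
        rw [Submodule.mem_comap, LinearEquiv.coe_coe, ← happ]
        exact hi _ (List.mem_map_of_mem hf) _ hv)
      (fun f hf f' hf' v hv => φ.injective (by
        rw [← happ, ← happ]; exact he _ (List.mem_map_of_mem hf) _ (List.mem_map_of_mem hf') _ hv))
      (fun a v hv hall => φ.injective (by
        rw [map_zero]
        refine hn a (φ v) hv fun f hf => ?_
        obtain ⟨f', hf', rfl⟩ := List.mem_map.1 hf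
        rw [happ, hall f' hf', map_smul]))
    refine (Submodule.eq_bot_iff S).2 fun w hw => ?_
    obtain ⟨v, rfl⟩ := φ.surjective w
    have : v ∈ S.comap (φ : V →ₗ[K] W) := hw
    rw [hS, Submodule.mem_bot] at this
    rw [this, map_zero]

end CfsgLib.PSLCover
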