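import Cfsg.Agent.Lib.PSLCover.Cyclic

/-! Invariant complements and centralisers on summands. -/

set_option autoImplicit false
set_option linter.unusedSectionVars false

namespace CfsgLib.PSLCover

open Module LinearMap Polynomial

universe u v

variable {K : Type u} [Field K] {V : Type v} [AddCommGroup V] [Module K V] [FiniteDimensional K V]

theorem aeval_invariant {x : Module.End K V} (p : K[X]) : ∀ v ∈ LinearMap.ker (aeval x p), x v ∈ LinearMap.ker (aeval x p) := by
  intro v hv
  rw [LinearMap.mem_ker] at hv ⊢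
  rw [show x v = aeval x (X : K[X]) v by rw [aeval_X], ← Module.End.mul_apply, ← map_mul, mul_comm, map_mul,
    Module.End.mul_apply, hv, map_zero]

theorem aeval_restrict {x : Module.End K V} {W : Submodule K V} (hW : ∀ w ∈ W, x w ∈ W) (p : K[X]) (w : W) :
    ((aeval (x.restrict hW) p w : W) : V) = aeval x p (w : V) := by
  induction p using Polynomial.induction_on' with
  | add p q hp hq => simp [map_add, hp, hq]
  | monomial n a =>
    simp only [aeval_monomial, Algebra.algebraMap_eq_smul_one, smul_mul_assoc, one_mul, LinearMap.smul_apply,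
      Submodule.coe_smul]
    congr 1
    induction n with
    | zero => simp
    | succ n ih => rw [pow_succ', pow_succ', Module.End.mul_apply, Module.End.mul_apply, LinearMap.coe_restrict_apply, ih]

theorem fullDet_of_summand {x : Module.End K V} {W C : Submodule K V} (hW : ∀ w ∈ W, x w ∈ W)
    (hC : ∀ w ∈ C, x w ∈ C) (h : IsCompl W C) (hF : FullDet (x.restrict hW)) : FullDet x := by
  intro ρ hρ
  obtain ⟨c, hc, hcd⟩ := hF ρ hρ
  let φ := Submodule.prodEquivOfIsCompl W C h
  refine ⟨φ.symm ≪≫ₗ LinearEquiv.prodCongr c (LinearEquiv.refl K C) ≪≫ₗ φ, fun v => ?_, ?_⟩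
  · obtain ⟨⟨w, q⟩, rfl⟩ := φ.surjective v
    have e : x (φ (w, q)) = φ (x.restrict hW w, x.restrict hC q) := by
      simp [φ, LinearMap.coe_restrict_apply]
    rw [e]
    simp only [LinearEquiv.trans_apply, LinearEquiv.symm_apply_apply, LinearEquiv.prodCongr_apply,
      LinearEquiv.refl_apply, ← hc]
    simp [φ, LinearMap.coe_restrict_apply]
  · rw [show ((φ.symm ≪≫ₗ LinearEquiv.prodCongr c (LinearEquiv.refl K C) ≪≫ₗ φ : V ≃ₗ[K] V) : V →ₗ[K] V) =
        (φ : (W × C) →ₗ[K] V) ∘ₗ ((LinearEquiv.prodCongr c (LinearEquiv.refl K C)) : (W × C) →ₗ[K] W × C) ∘ₗ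
          (φ.symm : V →ₗ[K] W × C) from rfl, LinearMap.det_conj, LinearEquiv.coe_prodCongr, LinearMap.det_prodMap,
      hcd, LinearEquiv.refl_toLinearMap, LinearMap.det_id, mul_one]

/-- An irreducible factor of multiplicity one frees the determinant. -/
theorem fullDet_of_simple_factor [Finite K] {x : Module.End K V} {f h : K[X]} (hf : Irreducible f)
    (hcop : IsCoprime f h) (hx : aeval x (f * h) = 0) (hne : aeval x h ≠ 0) : FullDet x := by
  set W := LinearMap.ker (aeval x f) with hWdef
  set C := LinearMap.ker (aeval x h) with hCdef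
  have hcompl : IsCompl W C := by
    refine ⟨Polynomial.disjoint_ker_aeval_of_isCoprime x hcop, ?_⟩
    rw [codisjoint_iff, hWdef, hCdef, Polynomial.sup_ker_aeval_eq_ker_aeval_mul_of_coprime x hcop, hx, LinearMap.ker_zero]
  have hW0 : W ≠ ⊥ := fun e => hne (LinearMap.ext fun v => by
    have : aeval x h v ∈ W := by
      rw [hWdef, LinearMap.mem_ker, ← Module.End.mul_apply, ← map_mul, hx, LinearMap.zero_apply]
    rw [e, Submodule.mem_bot] at this
    rw [this, LinearMap.zero_apply])
  haveI : Nontrivial W := Submodule.nontrivial_iff_ne_bot.2 hW0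
  refine fullDet_of_summand (aeval_invariant f) (aeval_invariant h) hcompl (fullDet_of_semisimple
    (Module.End.isSemisimple_of_squarefree_aeval_eq_zero hf.squarefree ?_))
  refine LinearMap.ext fun w => Subtype.ext ?_
  rw [aeval_restrict, LinearMap.zero_apply, Submodule.coe_zero]
  exact LinearMap.mem_ker.1 w.2

/-- A cyclic summand. -/
theorem exists_complement [Nontrivial V] (x : Module.End K V) :
    ∃ (v : V) (C : Submodule K V), (∀ p : K[X], aeval x p v = 0 → minpoly K x ∣ p) ∧ (∀ w ∈ C, x w ∈ C) ∧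
      IsCompl (Submodule.span K (Set.range fun i : Fin (minpoly K x).natDegree => (x ^ (i : ℕ)) v)) C ∧
      finrank K C + (minpoly K x).natDegree = finrank K V := by
  classical
  obtain ⟨v, hv⟩ := exists_vec x
  set D := (minpoly K x).natDegree with hD
  have hm := minpoly.monic (Algebra.IsIntegral.isIntegral (R := K) x)
  have hDpos : 0 < D := minpoly.natDegree_pos (Algebra.IsIntegral.isIntegral (R := K) x)
  have hli := orbit_independent hv
  set Z := Submodule.span K (Set.range fun i : Fin D => (x ^ (i : ℕ)) v) with hZ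
  let b := Basis.span hli
  let ψ : Z →ₗ[K] K := b.coord ⟨D - 1, by omega⟩
  obtain ⟨φ, hφ⟩ := ψ.exists_extend
  have hφv : ∀ i : Fin D, φ ((x ^ (i : ℕ)) v) = if (i : ℕ) = D - 1 then 1 else 0 := by
    intro i
    have e : ((b i : Z) : V) = (x ^ (i : ℕ)) v := by simp [b, Basis.span_apply]
    rw [← e, show φ ((b i : Z) : V) = ψ (b i) from LinearMap.congr_fun hφ (b i)]
    simp [ψ, Finsupp.single_apply, Fin.ext_iff]
  let Φ : V →ₗ[K] Fin D → K := LinearMap.pi fun i : Fin D => φ ∘ₗ (x ^ (i : ℕ))
  refine ⟨v, LinearMap.ker Φ, hv, fun w hw => ?_, ?_⟩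
  · rw [LinearMap.mem_ker] at hw ⊢
    funext i
    have hw' : ∀ j < D, φ ((x ^ j) w) = 0 := fun j hj => congrFun hw ⟨j, hj⟩
    show φ ((x ^ (i : ℕ)) (x w)) = 0
    rw [← Module.End.mul_apply, ← pow_succ]
    rcases Nat.lt_or_ge ((i : ℕ) + 1) D with h | h
    · exact hw' _ h
    · have e : (i : ℕ) + 1 = D := le_antisymm i.2 h
      have h0 := LinearMap.congr_fun (minpoly.aeval K x) w
      rw [aeval_eq_sum_range, Finset.sum_range_succ, LinearMap.add_apply, LinearMap.sum_apply, ← hD,
        hm.coeff_natDegree, one_smul, LinearMap.zero_apply] at h0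
      rw [e, eq_neg_of_add_eq_zero_right h0, map_neg, map_sum, Finset.sum_eq_zero, neg_zero]
      intro j hj
      rw [LinearMap.smul_apply, map_smul, hw' j (Finset.mem_range.1 hj), smul_zero]
  have hdis : Z ⊓ LinearMap.ker Φ = ⊥ := by
    rw [Submodule.eq_bot_iff]
    rintro w ⟨hwZ, hwk⟩
    obtain ⟨c, rfl⟩ := (Submodule.mem_span_range_iff_exists_fun K).1 hwZ
    have hw' : ∀ j < D, φ ((x ^ j) (∑ i, c i • (x ^ (i : ℕ)) v)) = 0 := fun j hj =>
      congrFun (LinearMap.mem_ker.1 hwk) ⟨j, hj⟩
    suffices ∀ k, ∀ i : Fin D, D - 1 - (i : ℕ) < k → c i = 0 by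
      exact Finset.sum_eq_zero fun i _ => by rw [this D i (by omega), zero_smul]
    intro k
    induction k with
    | zero => intro i hi; omega
    | succ k ih =>
      intro i hi
      have h := hw' (D - 1 - i) (by omega)
      rw [map_sum, map_sum, Finset.sum_eq_single i] at h
      · rw [map_smul, map_smul, ← Module.End.mul_apply, ← pow_add, show D - 1 - (i : ℕ) + i = D - 1 by omega,
          show φ ((x ^ (D - 1)) v) = 1 by simpa using hφv ⟨D - 1, by omega⟩, smul_eq_mul, mul_one] at h
        exact h
      · intro j _ hji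
        rcases Nat.lt_or_ge (j : ℕ) i with hlt | hge
        · rw [map_smul, map_smul, ← Module.End.mul_apply, ← pow_add,
            show φ ((x ^ (D - 1 - (i : ℕ) + j)) v) = 0 by
              have := hφv ⟨D - 1 - (i : ℕ) + j, by omega⟩
              rw [if_neg (show ¬ D - 1 - (i : ℕ) + (j : ℕ) = D - 1 by omega)] at this
              exact this, smul_zero]
        · rw [ih j (by
            have : (i : ℕ) ≠ j := fun e => hji (Fin.ext e.symm)
            omega), zero_smul, map_zero, map_zero]
      · simp
  have hZD : finrank K Z = D := by rw [hZ, finrank_span_eq_card hli, Fintype.card_fin]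
  have hk := LinearMap.finrank_range_add_finrank_ker Φ
  have hr : finrank K (LinearMap.range Φ) ≤ D := by
    have := Submodule.finrank_le (LinearMap.range Φ)
    rwa [Module.finrank_fin_fun] at this
  have hs := Submodule.finrank_sup_add_finrank_inf_eq Z (LinearMap.ker Φ)
  rw [hdis, finrank_bot] at hs
  have := Submodule.finrank_le (Z ⊔ LinearMap.ker Φ)
  exact ⟨⟨disjoint_iff.2 hdis, codisjoint_iff.2 (Submodule.eq_top_of_finrank_eq (by rw [← hZ]; omega))⟩, by omega⟩

/-- Annihilated by a split polynomial: some eigenvector. -/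
theorem eigen_of_roots [Nontrivial V] {y : Module.End K V} :
    ∀ R : List K, (R.map fun r => y - r • 1).prod = 0 → ∃ (r : K) (q : V), q ≠ 0 ∧ y q = r • q := by
  intro R
  induction R with
  | nil =>
    intro h
    obtain ⟨q, hq⟩ := exists_ne (0 : V)
    exact absurd (by simpa using LinearMap.congr_fun h q) hq
  | cons r R ih =>
    intro h
    by_cases h0 : (R.map fun r => y - r • 1).prod = 0
    · exact ih h0
    · obtain ⟨q, hq⟩ : ∃ q, (R.map fun r => y - r • 1).prod q ≠ 0 := by
        by_contra hc; push Not at hc; exact h0 (LinearMap.ext hc)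
      refine ⟨r, _, hq, RegUnipProd.mem_eigKer.1 (LinearMap.mem_ker.2 ?_)⟩
      have := LinearMap.congr_fun h q
      rwa [List.map_cons, List.prod_cons, Module.End.mul_apply, LinearMap.zero_apply] at this

end CfsgLib.PSLCover
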