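import Cfsg.Agent.Lib.PSLCover.Step

/-! Coordinates along an invariant subspace, and moving vectors with determinant one. -/

set_option autoImplicit false
set_option linter.unusedSectionVars false

namespace CfsgLib.PSLCover

open Module LinearMap

universe u v w

variable {K : Type u} [Field K] {V : Type v} [AddCommGroup V] [Module K V] [FiniteDimensional K V]

theorem exists_split (p : Submodule K V) :
    ∃ φ : V ≃ₗ[K] p × (V ⧸ p), (∀ w : p, φ w = (w, 0)) ∧ ∀ v, (φ v).2 = p.mkQ v := by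
  obtain ⟨π, hπ⟩ := p.subtype.exists_leftInverse_of_injective p.ker_subtype
  have hπ' : ∀ w : p, π w = w := fun w => LinearMap.congr_fun hπ w
  refine ⟨LinearEquiv.ofBijective (LinearMap.prod π p.mkQ) ⟨?_, ?_⟩, fun w => ?_, fun v => rfl⟩
  · rw [← LinearMap.ker_eq_bot, Submodule.eq_bot_iff]
    intro v hv
    rw [LinearMap.mem_ker, LinearMap.prod_apply, Function.prod_apply, Prod.mk_eq_zero, Submodule.mkQ_apply,
      Submodule.Quotient.mk_eq_zero] at hv
    have := hπ' ⟨v, hv.2⟩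
    exact congrArg Subtype.val (this.symm.trans hv.1)
  · rintro ⟨w, q⟩
    obtain ⟨v, rfl⟩ := p.mkQ_surjective q
    refine ⟨v + ((w - π v : p) : V), Prod.ext ?_ ?_⟩
    · simp [map_add, hπ']
    · simp [(Submodule.Quotient.mk_eq_zero p).2 w.2, (Submodule.Quotient.mk_eq_zero p).2 (π v).2]
  · exact Prod.ext (hπ' w) ((Submodule.Quotient.mk_eq_zero p).2 w.2)

/-- An invariant subspace gives a block triangular shape. -/
theorem conj_eq_blk {p : Submodule K V} (φ : V ≃ₗ[K] p × (V ⧸ p)) (hφ : ∀ w : p, φ w = (w, 0))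
    (hφ' : ∀ v, (φ v).2 = p.mkQ v) (F : Module.End K V) (hF : ∀ v ∈ p, F v ∈ p) :
    ∃ r, φ.conj F = blk (F.restrict hF) r (p.mapQ p F hF) := by
  refine ⟨LinearMap.fst K p (V ⧸ p) ∘ₗ φ.conj F ∘ₗ LinearMap.inr K p (V ⧸ p), LinearMap.ext fun a => ?_⟩
  have h1 : φ.conj F (a.1, 0) = (F.restrict hF a.1, 0) := by
    rw [← hφ, LinearEquiv.conj_apply_apply, LinearEquiv.symm_apply_apply, ← hφ]; rfl
  have h2 : ∀ b, (φ.conj F b).2 = p.mapQ p F hF b.2 := fun b => by
    obtain ⟨v, rfl⟩ := φ.surjective b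
    rw [LinearEquiv.conj_apply_apply, LinearEquiv.symm_apply_apply, hφ', hφ', Submodule.mkQ_apply,
      Submodule.mkQ_apply, Submodule.mapQ_apply]
  refine Prod.ext ?_ (by rw [h2]; rfl)
  have hd : a = (a.1, 0) + (0, a.2) := by simp
  conv_lhs => rw [hd, map_add, h1]
  simp

/-- Conjugating the target by a map of determinant one. -/
theorem Good.conj_target {H Λ : Set K} {x g : Module.End K V} {m : ℕ} (h : Good H Λ x g m) (c : V ≃ₗ[K] V)
    (hc : LinearMap.det (c : V →ₗ[K] V) = 1) : Good H Λ x (c.conj g) m := by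
  obtain ⟨L, h1, h2, h3, h4⟩ := h.transfer c
  refine ⟨L, h1, fun f hf => ?_, h3, h4⟩
  obtain ⟨e, he, hy⟩ := h2 f hf
  refine ⟨c ≪≫ₗ e, ?_, fun v => ?_⟩
  · rw [show ((c ≪≫ₗ e : V ≃ₗ[K] V) : V →ₗ[K] V) = (e : V →ₗ[K] V) * (c : V →ₗ[K] V) from rfl, map_mul, hc, mul_one]
    exact he
  · rw [LinearEquiv.trans_apply, hy, LinearEquiv.conj_apply_apply, LinearEquiv.symm_apply_apply]
    rfl

/-- Moving an independent family of fewer than `finrank` vectors with determinant one. -/
theorem exists_move {j : ℕ} (hj : j < finrank K V) {a b : Fin j → V} (ha : LinearIndependent K a)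
    (hb : LinearIndependent K b) :
    ∃ e : V ≃ₗ[K] V, LinearMap.det (e : V →ₗ[K] V) = 1 ∧ ∀ i, e (a i) = b i := by
  classical
  obtain ⟨r, hr⟩ : ∃ r, finrank K V = j + (r + 1) := ⟨finrank K V - j - 1, by omega⟩
  have ext : ∀ {f : Fin j → V}, LinearIndependent K f →
      ∃ B : Basis (Fin j ⊕ Fin (r + 1)) K V, ∀ i, B (Sum.inl i) = f i := fun {f} hf => by
    obtain ⟨C, hC⟩ := (Submodule.span K (Set.range f)).exists_isCompl
    have hdim : finrank K C = r + 1 := by
      have h1 := Submodule.finrank_add_eq_of_isCompl hC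
      rw [finrank_span_eq_card hf, Fintype.card_fin] at h1
      omega
    refine ⟨((Basis.span hf).prod (Module.finBasisOfFinrankEq K C hdim)).map
      (Submodule.prodEquivOfIsCompl _ C hC), fun i => ?_⟩
    simp [Basis.span_apply]
  obtain ⟨A, hA⟩ := ext ha
  obtain ⟨B, hB⟩ := ext hb
  set e0 := A.equiv B (Equiv.refl _) with he0
  set δ := LinearMap.det (e0 : V →ₗ[K] V) with hδ
  have hδ0 : δ ≠ 0 := (LinearEquiv.isUnit_det' e0).ne_zero
  let last : Fin j ⊕ Fin (r + 1) := Sum.inr 0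
  let wt : Fin j ⊕ Fin (r + 1) → Kˣ := fun i => if i = last then (Units.mk0 δ hδ0)⁻¹ else 1
  set e1 := B.equiv (B.unitsSMul wt) (Equiv.refl _) with he1
  refine ⟨e0 ≪≫ₗ e1, ?_, fun i => ?_⟩
  · have h1 : LinearMap.det (e1 : V →ₗ[K] V) = δ⁻¹ := by
      rw [← LinearMap.det_toMatrix B, show LinearMap.toMatrix B B (e1 : V →ₗ[K] V) =
        Matrix.diagonal fun i => ((wt i : Kˣ) : K) from ?_, Matrix.det_diagonal, Finset.prod_eq_single last]
      · simp [wt]
      · intro i _ hi; simp [wt, hi]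
      · simp
      · ext s t
        rw [LinearMap.toMatrix_apply, LinearEquiv.coe_coe, he1, Basis.equiv_apply, Equiv.refl_apply,
          Basis.unitsSMul_apply, Units.smul_def, map_smul, Finsupp.smul_apply, Basis.repr_self, Finsupp.single_apply,
          Matrix.diagonal_apply]
        by_cases h : s = t
        · simp [h]
        · simp [h, Ne.symm h]
    rw [show ((e0 ≪≫ₗ e1 : V ≃ₗ[K] V) : V →ₗ[K] V) = (e1 : V →ₗ[K] V) * (e0 : V →ₗ[K] V) from rfl, map_mul, h1, ← hδ,
      inv_mul_cancel₀ hδ0]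
  · rw [← hA, ← hB, LinearEquiv.trans_apply, he0, Basis.equiv_apply, Equiv.refl_apply, he1, Basis.equiv_apply,
      Equiv.refl_apply, Basis.unitsSMul_apply]
    simp [wt, last]

end CfsgLib.PSLCover
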