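import Cfsg.Agent.Lib.PSLCover.LUOne

/-! Factorisations with spectrum `(s, s, s⁻¹, s⁻¹)` in dimension four. -/

set_option autoImplicit false
set_option linter.unusedSectionVars false

namespace CfsgLib.PSLCover

open Module LinearMap
open scoped Matrix

universe u v

variable {K : Type u} [Field K] {V : Type v} [AddCommGroup V] [Module K V] [FiniteDimensional K V]

theorem regL_smulMatrix {ι : Type} [Fintype ι] [DecidableEq ι] {A : Matrix ι ι K} {l : List K}
    (h : RegL (Matrix.toLinAlgEquiv' A) l) {c : K} (hc : c ≠ 0) :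
    RegL (Matrix.toLinAlgEquiv' (c • A)) (l.map fun r => c * r) := by
  rw [map_smul]; exact h.smul hc

set_option maxHeartbeats 1000000 in
theorem lu_quad (h4 : ∃ k : Fin 4 → K, Function.Injective k) (hn : finrank K V = 2 + 2) {s : K} (hs0 : s ≠ 0)
    (hs : s * s ≠ 1) {M : Module.End K V} (hdet : LinearMap.det M = 1) (hns : ∀ c : K, M ≠ c • 1) :
    ∃ L U : Module.End K V, M = L * U ∧ RegL L [s, s, s⁻¹, s⁻¹] ∧ RegL U [s, s, s⁻¹, s⁻¹] := by
  have hne : s⁻¹ ≠ s := fun e => hs (by nth_rw 1 [← e]; exact inv_mul_cancel₀ hs0)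
  have hsi : s⁻¹ ≠ 0 := inv_ne_zero hs0
  rcases Nat.lt_or_ge (finrank K (LinearMap.range (M - 1))) 2 with hr | hr
  · obtain ⟨φ, z, hz0, hφ0, hM, hd⟩ := rank_one_form hr hns
    have hφz : φ z = 0 := by rw [hdet] at hd; linear_combination -hd
    let C0 := Module.finBasisOfFinrankEq K V hn
    obtain ⟨ε, hez, heφ⟩ := exists_frame (by omega) hz0 (C0.ne_zero 0) hφ0 (φ' := C0.coord 2)
      (fun h => by have := LinearMap.congr_fun h (C0 2); simp at this) (by rw [hφz]; simp [Fin.ext_iff])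
    obtain ⟨T, T', h1, h2, hreg, hT⟩ := exists_triangular hn (C0.map ε) (fun i => if i < 2 then s else s⁻¹)
      (fun i _ => by split_ifs; exacts [hs0, hsi]) (fun i => i = 1 ∨ i = 3) (by omega) (fun i hi => by
        obtain rfl | rfl | rfl : i = 0 ∨ i = 1 ∨ i = 2 := by omega
        · exact Or.inr ⟨rfl, Or.inl rfl⟩
        · exact Or.inl fun k hk => by simp [show k < 2 by omega, hne.symm]
        · exact Or.inr ⟨rfl, Or.inr rfl⟩)
    have hlist : (List.range (2 + 2)).map (fun i => if i < 2 then s else s⁻¹) = [s, s, s⁻¹, s⁻¹] := by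
      simp [List.range_succ]
    rw [hlist] at hreg
    have hl0 : ∀ r ∈ [s, s, s⁻¹, s⁻¹], r ≠ 0 := by
      intro r h; simp at h; rcases h with rfl | rfl <;> assumption
    have t0 : T z = s • z := by
      have := hT 0 (by omega)
      simpa [hez] using this
    have hU := transvection_factor h1 h2 hreg hl0 hz0 t0 (φ := φ) (fun v a hv => by
      set B := C0.map ε with hB
      have hz : z = B 0 := by rw [hB, Basis.map_apply, hez]
      have hTv : T v = (B.repr v 0 * s + B.repr v 1) • B 0 + (B.repr v 1 * s) • B 1 +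
          (B.repr v 2 * s⁻¹ + B.repr v 3) • B 2 + (B.repr v 3 * s⁻¹) • B 3 := by
        conv_lhs => rw [← B.sum_repr v]
        rw [Fin.sum_univ_four, map_add, map_add, map_add, map_smul, map_smul, map_smul, map_smul,
          show (0 : Fin (2 + 2)) = ⟨0, by omega⟩ from rfl, show (1 : Fin (2 + 2)) = ⟨1, by omega⟩ from rfl,
          show (2 : Fin (2 + 2)) = ⟨2, by omega⟩ from rfl, show (3 : Fin (2 + 2)) = ⟨3, by omega⟩ from rfl,
          hT 0 (by omega), hT 1 (by omega), hT 2 (by omega), hT 3 (by omega)]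
        simp
        module
      rw [hTv, hz] at hv
      have e := congrArg B.repr hv
      simp only [map_add, map_sub, map_smul, Basis.repr_self] at e
      have e2 := DFunLike.congr_fun e 2
      have e3 := DFunLike.congr_fun e 3
      simp [Finsupp.single_apply, Fin.ext_iff] at e2 e3
      have v3 : B.repr v 3 = 0 := by
        have : (s⁻¹ - s) * B.repr v 3 = 0 := by linear_combination e3
        exact (mul_eq_zero.1 this).resolve_left (sub_ne_zero.2 hne)
      have v2 : B.repr v 2 = 0 := by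
        have : (s⁻¹ - s) * B.repr v 2 = 0 := by linear_combination e2 - v3
        exact (mul_eq_zero.1 this).resolve_left (sub_ne_zero.2 hne)
      have : v = ε (ε.symm v) := (ε.apply_symm_apply v).symm
      rw [this, heφ]
      simpa [hB] using v2)
    rw [← hM] at hU
    refine ⟨T, T' * M, ?_, hreg, hU.perm ?_⟩
    · rw [← mul_assoc, show T * T' = 1 from LinearMap.ext h1, one_mul]
    · simp only [List.map_cons, List.map_nil, inv_inv]
      exact List.perm_append_comm (l₁ := [s⁻¹, s⁻¹]) (l₂ := [s, s])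
  · have hns' : ¬ ∃ c : K, M = c • 1 := fun ⟨c, hc⟩ => hns c hc
    haveI : Nontrivial V := Module.nontrivial_of_finrank_pos (R := K) (by omega)
    obtain ⟨c, hc⟩ := exists_ne (0 : V)
    obtain ⟨b, hb, -⟩ := RegUnipProd.sep (p := (⊥ : Submodule K V)) (x := c) (by simpa using hc)
    obtain ⟨ι, _, _, Φ, L, U, Q, R, E, hcard, hΦ, hL, hU, -, -, hend, hEd, hEs, hEt⟩ :=
      SLCommutator.generic_split h4 2 M hn hdet hr hns' c b hc (fun e => by simp [e] at hb)
    obtain ⟨hLe, x, hx⟩ := hend (by omega)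
    have hβ0 : E.trace - 2 ≠ 0 := sub_ne_zero.2 hEt
    obtain ⟨β, hβ⟩ : ∃ β, β = E.trace - 2 := ⟨_, rfl⟩
    rw [← hβ] at hβ0
    obtain ⟨A1, hA1⟩ : ∃ A : Matrix (Fin 2) (Fin 2) K, A = !![1, 0; 1, 1] := ⟨_, rfl⟩
    obtain ⟨A2, hA2⟩ : ∃ A : Matrix (Fin 2) (Fin 2) K, A = !![1, β; 0, 1] := ⟨_, rfl⟩
    obtain ⟨P, hP⟩ := two_sim (C := A1 * A2) hEs (fun x hx' => by
        have := congrFun (congrFun hx' 1) 0
        simp [hA1, hA2, Matrix.mul_apply] at this)
      (by rw [hEd, Matrix.det_mul, hA1, hA2]; simp [Matrix.det_fin_two_of])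
      (by simp [hA1, hA2, Matrix.trace_fin_two, Matrix.mul_apply, hβ]; ring)
    have hE : E = (P.1 * A1 * (↑P⁻¹ : Matrix (Fin 2) (Fin 2) K)) * (P.1 * A2 * (↑P⁻¹ : Matrix (Fin 2) (Fin 2) K)) := by
      calc E = E * P.1 * (↑P⁻¹ : Matrix (Fin 2) (Fin 2) K) := by rw [mul_assoc, Units.mul_inv, mul_one]
        _ = _ := by rw [hP]; simp only [mul_assoc, Units.inv_mul_cancel_left]
    have r1 : RegL (Matrix.toLinAlgEquiv' A1) [1, 1] := by
      refine regL_scaled_end (f0 := ![0, 1]) (f1 := ![1, 0]) (li_two (by simp)) ?_ ?_ <;>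
        (ext i; fin_cases i <;> simp [hA1, Matrix.mulVec, dotProduct, Fin.sum_univ_two])
    have r2 : RegL (Matrix.toLinAlgEquiv' A2) [1, 1] := by
      refine regL_scaled_end (f0 := ![1, 0]) (f1 := ![0, β⁻¹]) (li_two (by simp [hβ0])) ?_ ?_ <;>
        (ext i; fin_cases i <;> simp [hA2, Matrix.mulVec, dotProduct, Fin.sum_univ_two, hβ0]) <;> ring
    have rU0 := regL_matrix hcard hU fun h0 e => hx (by
      rw [e, Matrix.zero_mulVec, show (Sum.elim (0 : ι → K) (0 : Fin 2 → K)) = 0 from by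
        funext i; rcases i with i | i <;> rfl, map_zero, map_zero])
    have rL0 := regL_matrix hcard hL fun h0 e => hLe (by rw [e, Matrix.zero_mulVec])
    have g1 := regL_smulMatrix rL0 hs0
    have g2 := regL_smulMatrix rU0 hsi
    have g3 := regL_smulMatrix (regL_matConj r1 P) hsi
    have g4 := regL_smulMatrix (regL_matConj r2 P) hs0
    simp only [List.map_replicate, List.map_cons, List.map_nil, mul_one] at g1 g2 g3 g4
    obtain ⟨Lf, Uf, hprod, rL, rU, -, -⟩ := split_factors (M := M) Φ (L := s • L) (U := s⁻¹ • U) (Q := s⁻¹ • Q)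
      (R := s • R) (EL := s⁻¹ • (P.1 * A1 * (↑P⁻¹ : Matrix (Fin 2) (Fin 2) K)))
      (EU := s • (P.1 * A2 * (↑P⁻¹ : Matrix (Fin 2) (Fin 2) K))) (fun v => by
        rw [hΦ v, hE]
        simp only [Matrix.smul_mul, Matrix.mul_smul, smul_smul, inv_mul_cancel₀ hs0, mul_inv_cancel₀ hs0, one_smul])
      g1 g2 g3 g4
      (fun r p q hp hp0 hq => by
        by_contra hq0
        have m1 := List.eq_of_mem_replicate (g1.eig_mem (r := r) (v := p) (by rw [Matrix.toLinAlgEquiv'_apply]; exact hp) hp0)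
        have m2 := g3.eig_mem (r := r) (v := q) (by rw [Matrix.toLinAlgEquiv'_apply]; exact hq) hq0
        simp at m2
        exact hne (m2.symm.trans m1))
      (fun r p q hq hq0 hp => by
        by_contra hp0
        have m1 := List.eq_of_mem_replicate (g2.eig_mem (r := r) (v := p) (by rw [Matrix.toLinAlgEquiv'_apply]; exact hp) hp0)
        have m2 := g4.eig_mem (r := r) (v := q) (by rw [Matrix.toLinAlgEquiv'_apply]; exact hq) hq0
        simp at m2
        exact hne (m1.symm.trans m2))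
    exact ⟨Lf, Uf, hprod, rL.perm (List.perm_append_comm (l₁ := [s⁻¹, s⁻¹]) (l₂ := [s, s])),
      rU.perm (List.perm_append_comm (l₁ := [s⁻¹, s⁻¹]) (l₂ := [s, s]))⟩

end CfsgLib.PSLCover
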