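import Cfsg.Agent.Lib.PSLCover.Cyclic
import Cfsg.Agent.Lib.PSLCover.LUQuad

/-! Four factors from a pair with a split cyclic product. -/

set_option autoImplicit false
set_option linter.unusedSectionVars false

namespace CfsgLib.PSLCover

open Module LinearMap
open CfsgLib.SLCommutator (Cyc)

universe u v

variable {K : Type u} [Field K] {V : Type v} [AddCommGroup V] [Module K V] [FiniteDimensional K V]

/-- Every non-scalar target of the right determinant is a product of two maps with eigenvalues `l`. -/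
def Cover (V : Type v) [AddCommGroup V] [Module K V] (l : List K) : Prop :=
  ∀ M : Module.End K V, LinearMap.det M = l.prod * l.prod → (∀ s : K, M ≠ s • 1) →
    ∃ L U : Module.End K V, M = L * U ∧ RegL L l ∧ RegL U l

theorem cover_one (h4 : ∃ k : Fin 4 → K, Function.Injective k) {j : ℕ} (hn : finrank K V = j + 1) (hj : 3 ≤ j)
    {e : K} (he0 : e ≠ 0) (he1 : e ≠ 1) : Cover V (e :: List.replicate j 1) := fun M hdet hns =>
  lu_one h4 hn hj he0 he1 (by simpa using hdet) hns

theorem cover_smul {l : List K} (h : Cover V l) {c : K} (hc : c ≠ 0) (hn : l.length = finrank K V) :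
    Cover V (l.map fun r => c * r) := by
  intro M hdet hns
  have hcc : c * c ≠ 0 := mul_ne_zero hc hc
  have hprod : ∀ m : List K, (m.map fun r => c * r).prod = c ^ m.length * m.prod := by
    intro m
    induction m with
    | nil => simp
    | cons r m ih => simp [ih, pow_succ]; ring
  obtain ⟨L, U, h1, h2, h3⟩ := h ((c * c)⁻¹ • M) (by
    rw [LinearMap.det_smul, hdet, hprod, hn, inv_pow, mul_pow]
    field_simp) fun s hs => hns (c * c * s) (by
      rw [mul_smul, ← hs, smul_smul, mul_inv_cancel₀ hcc, one_smul])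
  refine ⟨c • L, c • U, ?_, h2.smul hc, h3.smul hc⟩
  rw [smul_mul_smul_comm, ← h1, smul_smul, mul_inv_cancel₀ hcc, one_smul]

theorem cover_eta (h4 : ∃ k : Fin 4 → K, Function.Injective k) {j : ℕ} (hj : 1 ≤ j) (hn : finrank K V = j + 2)
    {η c : K} (hc : c ≠ 0) (hη0 : η ≠ 0) (hη1 : η ≠ 1) (hη2 : η * η ≠ 1) :
    Cover V (c * η :: c * η⁻¹ :: List.replicate j c) := by
  have : Cover V (η :: η⁻¹ :: List.replicate j 1) := fun M hdet hns => by
    obtain ⟨L, U, h1, h2, h3, -⟩ := lu_eta h4 hj hn hη0 hη1 hη2 (by simpa [hη0] using hdet) hns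
    exact ⟨L, U, h1, h2, h3⟩
  simpa using cover_smul this hc (by simp [hn])

theorem cover_quad (h4 : ∃ k : Fin 4 → K, Function.Injective k) (hn : finrank K V = 2 + 2) {s c : K} (hc : c ≠ 0)
    (hs0 : s ≠ 0) (hs : s * s ≠ 1) : Cover V [c * s, c * s, c * s⁻¹, c * s⁻¹] := by
  have : Cover V [s, s, s⁻¹, s⁻¹] := fun M hdet hns => lu_quad h4 hn hs0 hs (by
    rw [hdet]; simp [hs0]) hns
  simpa using cover_smul this hc (by simp [hn])

theorem Cover.perm {l l' : List K} (h : Cover V l) (hp : l.Perm l') : Cover V l' := fun M hdet hns => by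
  obtain ⟨L, U, h1, h2, h3⟩ := h M (by rw [hp.prod_eq]; exact hdet) hns
  exact ⟨L, U, h1, h2.perm hp, h3.perm hp⟩

/-- Conjugators with determinant in `H`. -/
def Closed (H : Set K) : Prop := (1 : K) ∈ H ∧ ∀ a ∈ H, ∀ b ∈ H, a * b ∈ H

theorem closed_univ : Closed (Set.univ : Set K) := ⟨trivial, fun _ _ _ _ => trivial⟩

theorem closed_one : Closed ({1} : Set K) := ⟨rfl, fun a ha b hb => by simp at ha hb; simp [ha, hb]⟩

theorem ConjIn.comp {H : Set K} (hH : Closed H) {x y z : Module.End K V} (h : ConjIn H x y) (h' : ConjIn H y z) :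
    ConjIn H x z := by
  obtain ⟨e, he, hy⟩ := h
  obtain ⟨c, hc, hz⟩ := h'
  refine ⟨e ≪≫ₗ c, ?_, fun v => by rw [LinearEquiv.trans_apply, LinearEquiv.trans_apply, hz, hy]⟩
  rw [show ((e ≪≫ₗ c : V ≃ₗ[K] V) : V →ₗ[K] V) = (c : V →ₗ[K] V) * (e : V →ₗ[K] V) from rfl, map_mul]
  exact hH.2 _ hc _ he

/-- Four factors. -/
theorem pair_cover {H : Set K} (hH : Closed H) {x y : Module.End K V} (hy : ConjIn H x y) {l : List K}
    (hr : RegL (x * y) l) (hcov : Cover V l) (hl : l.prod = LinearMap.det x * LinearMap.det x)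
    (hT : H = Set.univ ∨ FullDet (x * y)) {g : Module.End K V} (hdet : LinearMap.det g = LinearMap.det x ^ 4)
    (hns : ∀ s : K, g ≠ s • 1) :
    IsProd H x g 4 ∧ ((∀ (a : K) (v : V), x v = a • v → v = 0) → Good H Set.univ x g 4) := by
  obtain ⟨L, U, hLU, hL, hU⟩ := hcov g (by rw [hdet, hl]; ring) hns
  have mk : ∀ L : Module.End K V, RegL L l → ∃ a b : Module.End K V, ConjIn H x a ∧ ConjIn H x b ∧ a * b = L ∧
      ((∀ (r : K) (v : V), x v = r • v → v = 0) → Div Set.univ [a, b]) := by
    intro L hL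
    have hc : ConjIn H (x * y) L := by
      rcases hT with rfl | hT
      · exact hr.isConj hL (List.Perm.refl l)
      · refine (ConjIn.of_full hT (hr.isConj hL (List.Perm.refl l))).mono ?_
        rintro a rfl; exact hH.1
    obtain ⟨e, he, hLe⟩ := hc
    have hL' : L = e.conj (x * y) := LinearMap.ext fun v => by
      obtain ⟨w, rfl⟩ := e.surjective v
      simp [LinearEquiv.conj_apply, hLe]
    refine ⟨e.conj x, e.conj y, ⟨e, he, fun v => by simp [LinearEquiv.conj_apply]⟩,
      hy.comp hH ⟨e, he, fun v => by simp [LinearEquiv.conj_apply]⟩, ?_, fun hno => ?_⟩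
    · rw [hL']; exact (LinearEquiv.conj_comp e y x).symm
    · have hd : Div Set.univ [x, y] := div_pair l hr.2.1 hr.2.2 fun a v h1 _ => hno a v h1
      obtain ⟨L', -, -, -, hd'⟩ : Good (Set.univ : Set K) Set.univ x (x * y) 2 :=
        ⟨[x, y], rfl, fun f hf => by
          rcases List.mem_cons.1 hf with rfl | hf
          · exact ConjIn.refl (Set.mem_univ _) _
          · rw [List.mem_singleton] at hf; exact hf ▸ hy.mono (Set.subset_univ H), by simp, hd⟩
      refine ⟨fun a _ v hv => ?_, fun S hi he' hn => ?_⟩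
      · have h1 := hv (e.conj x) (by simp)
        rw [LinearEquiv.conj_apply_apply, ← LinearEquiv.eq_symm_apply, map_smul] at h1
        simpa using congrArg e (hno a _ h1)
      · have := hd.2 (S.comap (e : V →ₗ[K] V)) (fun f hf v hv => by
          have := hi (e.conj f) (by simp at hf; rcases hf with rfl | rfl <;> simp) (e v) hv
          simpa [LinearEquiv.conj_apply] using this)
          (fun f hf f' hf' v hv => e.injective (by
            have := he' (e.conj f) (by simp at hf; rcases hf with rfl | rfl <;> simp) (e.conj f')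
              (by simp at hf'; rcases hf' with rfl | rfl <;> simp) (e v) hv
            simpa [LinearEquiv.conj_apply] using this))
          (fun a v hv hall => hno a v (hall x (by simp)))
        refine (Submodule.eq_bot_iff S).2 fun w hw => ?_
        obtain ⟨v, rfl⟩ := e.surjective w
        have hv : v ∈ S.comap (e : V →ₗ[K] V) := hw
        rw [this, Submodule.mem_bot] at hv
        rw [hv, map_zero]
  obtain ⟨a, b, ha, hb, hab, hd⟩ := mk L hL
  obtain ⟨a', b', ha', hb', hab', -⟩ := mk U hU
  have hmem : ∀ f ∈ [a, b, a', b'], ConjIn H x f := by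
    intro f hf
    simp at hf
    rcases hf with rfl | rfl | rfl | rfl <;> assumption
  have hp : [a, b, a', b'].prod = g := by rw [hLU, ← hab, ← hab']; simp [mul_assoc]
  exact ⟨⟨_, rfl, hmem, hp⟩, fun hno => ⟨_, rfl, hmem, hp,
    (hd hno).of_subset (fun f hf => by simp at hf ⊢; tauto) (by simp)⟩⟩

theorem list_eta (η : K) (j : ℕ) :
    (List.range (j + 2)).map (fun i => if i < j then (1 : K) else if i = j then η else η⁻¹) =
      List.replicate j 1 ++ [η, η⁻¹] := by
  rw [List.range_succ, List.range_succ, List.map_append, List.map_append, List.append_assoc]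
  congr 1
  · refine List.eq_replicate_iff.2 ⟨by simp, fun b hb => ?_⟩
    obtain ⟨i, hi, rfl⟩ := List.mem_map.1 hb
    simp [List.mem_range.1 hi]
  · simp

theorem list_last (e : K) (j : ℕ) :
    (List.range (j + 1)).map (fun i => if i < j then (1 : K) else e) = List.replicate j 1 ++ [e] := by
  rw [List.range_succ, List.map_append]
  congr 1
  · refine List.eq_replicate_iff.2 ⟨by simp, fun b hb => ?_⟩
    obtain ⟨i, hi, rfl⟩ := List.mem_map.1 hb
    simp [List.mem_range.1 hi]
  · simp

/-- The two spectra used for a cyclic map, with the first conjugator. -/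
theorem cyclic_pair_one (h4 : ∃ k : Fin 4 → K, Function.Injective k) {x : Module.End K V} {v0 : V} (hx : Cyc x v0)
    (hdx : LinearMap.det x ≠ 0) {j : ℕ} (hn : finrank K V = j + 1) (hj : 3 ≤ j)
    (hd : LinearMap.det x * LinearMap.det x ≠ 1) :
    ∃ (y : Module.End K V) (l : List K), ConjIn (Set.univ : Set K) x y ∧ RegL (x * y) l ∧ Cover V l ∧
      l.prod = LinearMap.det x * LinearMap.det x ∧ FullDet (x * y) ∧ (j = 3 → ConjIn ({1} : Set K) x y) := by
  set e := LinearMap.det x * LinearMap.det x with he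
  have he0 : e ≠ 0 := mul_ne_zero hdx hdx
  obtain ⟨y, u, g, hg, hgd, hr, -⟩ := exists_ky hx hdx (by omega) hn (fun i => if i < j then 1 else e)
    (by
      rw [Finset.prod_range_succ, Finset.prod_eq_one fun i hi => by rw [if_pos (Finset.mem_range.1 hi)],
        if_neg (lt_irrefl j), one_mul])
    (fun i hi => by rw [if_pos hi, if_neg (lt_irrefl j)]; exact hd.symm)
    (fun i hi => Or.inr (by rw [if_pos (by omega), if_pos hi]))
  rw [list_last] at hr
  have hp : (List.replicate j 1 ++ [e]).Perm (e :: List.replicate j 1) := List.perm_append_singleton _ _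
  refine ⟨y, e :: List.replicate j 1, ⟨g, trivial, hg⟩, hr.perm hp, cover_one h4 hn hj he0 hd, by simp,
    hr.fullDet hp (fun h => hd (List.eq_of_mem_replicate h)), fun h3 => ⟨g, ?_, hg⟩⟩
  subst h3
  rw [Set.mem_singleton_iff, hgd rfl]
  simp [Finset.prod_range_succ]

theorem cyclic_pair_eta (h4 : ∃ k : Fin 4 → K, Function.Injective k) {x : Module.End K V} {v0 : V} (hx : Cyc x v0)
    {j : ℕ} (hn : finrank K V = j + 2) (hj : 2 ≤ j)
    (hd : LinearMap.det x * LinearMap.det x = 1) {η : K} (hη0 : η ≠ 0) (hη1 : η ≠ 1) (hη2 : η * η ≠ 1) :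
    ∃ (y : Module.End K V) (g : V ≃ₗ[K] V), (∀ p, y (g p) = g (x p)) ∧
      RegL (x * y) (η :: η⁻¹ :: List.replicate j 1) ∧ Cover V (η :: η⁻¹ :: List.replicate j 1) ∧
      FullDet (x * y) ∧ (j = 2 → LinearMap.det (g : V →ₗ[K] V) = η) := by
  have hinv : η⁻¹ ≠ 1 := fun e => hη1 (by simpa using congrArg Inv.inv e)
  have hne : η ≠ η⁻¹ := fun e => hη2 (by nth_rw 2 [e]; exact mul_inv_cancel₀ hη0)
  have hdx : LinearMap.det x ≠ 0 := fun e => by rw [e, mul_zero] at hd; exact zero_ne_one hd
  obtain ⟨y, u, g, hg, hgd, hr, -⟩ := exists_ky hx hdx (by omega) hn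
    (fun i => if i < j then 1 else if i = j then η else η⁻¹)
    (by
      rw [Finset.prod_range_succ, Finset.prod_range_succ,
        Finset.prod_eq_one fun i hi => by rw [if_pos (Finset.mem_range.1 hi)], if_neg (lt_irrefl j), if_pos rfl,
        if_neg (by omega), if_neg (by omega), one_mul, mul_inv_cancel₀ hη0, hd])
    (fun i hi => by
      rw [if_neg (show ¬ j + 1 < j by omega), if_neg (show ¬ j + 1 = j by omega)]
      split_ifs with h1 h2
      · exact hinv.symm
      · exact hne
      · omega)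
    (fun i hi => by
      by_cases h : i + 1 < j
      · exact Or.inr (by rw [if_pos (by omega), if_pos h])
      · refine Or.inl fun k hk => ?_
        rw [if_pos (by omega), if_neg h, if_pos (by omega)]
        exact hη1.symm)
  rw [list_eta] at hr
  have hp : (List.replicate j 1 ++ [η, η⁻¹]).Perm (η :: η⁻¹ :: List.replicate j 1) := List.perm_append_comm
  have hcov := cover_eta (V := V) h4 (show 1 ≤ j by omega) hn one_ne_zero hη0 hη1 hη2
  simp only [one_mul] at hcov
  refine ⟨y, g, hg, hr.perm hp, hcov, hr.fullDet hp (fun h => ?_), fun h2 => ?_⟩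
  · rcases List.mem_cons.1 h with h | h
    · exact hne h
    · exact hη1 (List.eq_of_mem_replicate h)
  · subst h2
    rw [hgd rfl]
    simp [Finset.prod_range_succ]

end CfsgLib.PSLCover
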