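import Cfsg.Agent.Lib.PSLCover.Line

/-! Descent along eigenvectors. -/

set_option autoImplicit false
set_option linter.unusedSectionVars false

namespace CfsgLib.PSLCover

open Module LinearMap

universe u v

variable {K : Type u} [Field K] {V : Type v} [AddCommGroup V] [Module K V] [FiniteDimensional K V]

/-- A scalar plus a map of rank at most one. -/
def Pseudo (x : Module.End K V) : Prop := ∃ b : K, finrank K (LinearMap.range (x - b • 1)) ≤ 1

/-- Four dimensional, annihilated by a split quadratic. -/
def Quad (x : Module.End K V) : Prop := finrank K V = 4 ∧ ∃ c d : K, (x - c • 1) * (x - d • 1) = 0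

theorem exists_not_eigen {g : Module.End K V} (h : ∀ s : K, g ≠ s • 1) : ∃ v, g v ∉ Submodule.span K {v} := by
  by_contra hc
  push Not at hc
  obtain ⟨a, ha⟩ := LinearMap.exists_eq_smul_id_of_forall_notLinearIndependent (f := g) (fun v => by
    intro hli
    rw [LinearIndependent.pair_iff] at hli
    obtain ⟨c, hc⟩ := Submodule.mem_span_singleton.1 (hc v)
    exact one_ne_zero (hli (-c) 1 (by rw [← hc]; simp)).2)
  exact h a ha

theorem det_quot {x : Module.End K V} {u : V} (hu : u ≠ 0) {a : K} (hxu : x u = a • u) :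
    LinearMap.det x = a * LinearMap.det ((Submodule.span K {u}).mapQ (Submodule.span K {u}) x (invariant_line hxu)) := by
  obtain ⟨φ, hφ, hφ'⟩ := exists_split (Submodule.span K ({u} : Set V))
  obtain ⟨r, hr⟩ := conj_eq_blk φ hφ hφ' x (invariant_line hxu)
  rw [← LinearMap.det_conj x φ]
  show LinearMap.det (φ.conj x) = _
  rw [hr, det_blk, restrict_line hxu, LinearMap.det_smul, finrank_span_singleton hu, map_one, pow_one, mul_one]

theorem finrank_quot_line {u : V} (hu : u ≠ 0) :
    finrank K (V ⧸ Submodule.span K ({u} : Set V)) + 1 = finrank K V := by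
  have := Submodule.finrank_quotient_add_finrank (Submodule.span K ({u} : Set V))
  rwa [finrank_span_singleton hu] at this

theorem range_quot {x : Module.End K V} {u : V} {a : K} (hxu : x u = a • u) (b : K) :
    LinearMap.range ((Submodule.span K {u}).mapQ (Submodule.span K {u}) x (invariant_line hxu) - b • 1) =
      (LinearMap.range (x - b • 1)).map (Submodule.span K ({u} : Set V)).mkQ := by
  rw [← LinearMap.range_comp]
  have h : ((Submodule.span K {u}).mapQ (Submodule.span K {u}) x (invariant_line hxu) - b • 1) ∘ₗ (Submodule.span K ({u} : Set V)).mkQ =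
      (Submodule.span K ({u} : Set V)).mkQ ∘ₗ (x - b • 1) := LinearMap.ext fun v => by simp
  rw [← h, LinearMap.range_comp_of_range_eq_top _ (Submodule.range_mkQ _)]

/-- An eigenvector leaving a quotient which is not pseudo. -/
theorem exists_good_eigen (hn : 4 ≤ finrank K V) {x : Module.End K V} (hp : ¬ Pseudo x) (hq : ¬ Quad x)
    (he : ∃ (a : K) (u : V), u ≠ 0 ∧ x u = a • u) :
    ∃ (a : K) (u : V) (hu : x u = a • u), u ≠ 0 ∧
      ¬ Pseudo ((Submodule.span K {u}).mapQ (Submodule.span K {u}) x (invariant_line hu)) := by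
  have h2 : ∀ b : K, 2 ≤ finrank K (LinearMap.range (x - b • 1)) := fun b => by
    by_contra h; exact hp ⟨b, by omega⟩
  have low : ∀ (u : V) (p : Submodule K V),
      finrank K p ≤ finrank K (p.map (Submodule.span K ({u} : Set V)).mkQ) + 1 := fun u p => by
    have := RegUnipProd.finrank_comap_le (Submodule.span K ({u} : Set V)).mkQ
      (p.map (Submodule.span K ({u} : Set V)).mkQ)
    rw [Submodule.ker_mkQ] at this
    have h1 := Submodule.finrank_mono (Submodule.le_comap_map (Submodule.span K ({u} : Set V)).mkQ p)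
    have := RegUnipProd.finrank_span_singleton_le (K := K) u
    omega
  have same : ∀ (u : V) (p : Submodule K V), u ≠ 0 → u ∉ p →
      finrank K (p.map (Submodule.span K ({u} : Set V)).mkQ) = finrank K p := fun u p hu h => by
    rw [← LinearMap.range_domRestrict]
    refine LinearMap.finrank_range_of_inj (LinearMap.ker_eq_bot.1 ((Submodule.eq_bot_iff _).2 fun v hv => ?_))
    rw [LinearMap.mem_ker, LinearMap.domRestrict_apply, Submodule.mkQ_apply, Submodule.Quotient.mk_eq_zero] at hv
    obtain ⟨c, hc⟩ := Submodule.mem_span_singleton.1 hv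
    by_contra hv0
    have hc0 : c ≠ 0 := fun e => hv0 (Subtype.ext (by rw [← hc, e, zero_smul]; rfl))
    exact h ((Submodule.smul_mem_iff p hc0).1 (hc ▸ v.2))
  by_cases hc : ∃ c : K, finrank K (LinearMap.range (x - c • 1)) = 2
  swap
  · obtain ⟨a, u, hu0, hu⟩ := he
    refine ⟨a, u, hu, hu0, fun ⟨b, hb⟩ => hc ⟨b, ?_⟩⟩
    rw [range_quot hu] at hb
    have := low u (LinearMap.range (x - b • 1))
    have := h2 b
    omega
  obtain ⟨c, hc⟩ := hc
  have hk := LinearMap.finrank_range_add_finrank_ker (x - c • 1)
  by_cases hle : LinearMap.ker (x - c • 1) ≤ LinearMap.range (x - c • 1)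
  · exfalso
    have := Submodule.finrank_mono hle
    have heq := Submodule.eq_of_le_of_finrank_eq hle (by omega)
    refine hq ⟨by omega, c, c, LinearMap.ext fun v => ?_⟩
    have : (x - c • 1) v ∈ LinearMap.ker (x - c • 1) := heq ▸ LinearMap.mem_range_self _ v
    exact LinearMap.mem_ker.1 this
  obtain ⟨u, huk, hur⟩ := SetLike.not_le_iff_exists.1 hle
  have hu0 : u ≠ 0 := fun e => hur (e ▸ zero_mem _)
  have hu : x u = c • u := RegUnipProd.mem_eigKer.1 huk
  refine ⟨c, u, hu, hu0, fun ⟨b, hb⟩ => ?_⟩
  rw [range_quot hu] at hb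
  by_cases hbc : b = c
  · rw [hbc, same u _ hu0 hur, hc] at hb
    omega
  have hb2 : finrank K (LinearMap.range (x - b • 1)) = 2 := by
    have := low u (LinearMap.range (x - b • 1)); have := h2 b; omega
  -- two values of rank two
  have hkb := LinearMap.finrank_range_add_finrank_ker (x - b • 1)
  have hinf : LinearMap.ker (x - c • 1) ⊓ LinearMap.ker (x - b • 1) = ⊥ := by
    rw [Submodule.eq_bot_iff]
    rintro v ⟨h1, h1'⟩
    have e1 := RegUnipProd.mem_eigKer.1 h1
    have e2 := RegUnipProd.mem_eigKer.1 h1'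
    rw [e2, ← sub_eq_zero, ← sub_smul, smul_eq_zero, sub_eq_zero] at e1
    exact e1.resolve_left hbc
  have hs := Submodule.finrank_sup_add_finrank_inf_eq (LinearMap.ker (x - c • 1)) (LinearMap.ker (x - b • 1))
  rw [hinf, finrank_bot] at hs
  have := Submodule.finrank_le (LinearMap.ker (x - c • 1) ⊔ LinearMap.ker (x - b • 1))
  have htop : LinearMap.ker (x - c • 1) ⊔ LinearMap.ker (x - b • 1) = ⊤ :=
    Submodule.eq_top_of_finrank_eq (by omega)
  refine hq ⟨by omega, c, b, LinearMap.ext fun v => ?_⟩
  obtain ⟨p, hp', r, hr, rfl⟩ := Submodule.mem_sup.1 (htop ▸ Submodule.mem_top : v ∈ LinearMap.ker (x - c • 1) ⊔ LinearMap.ker (x - b • 1))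
  have e1 := RegUnipProd.mem_eigKer.1 hp'
  have e2 := RegUnipProd.mem_eigKer.1 hr
  simp [Module.End.mul_apply, map_add, map_smul, e1, e2, smul_sub, smul_smul, mul_comm]

/-- The eigen world, given the bases. -/
theorem eigen_induction
    (hne : ∀ {V : Type v} [AddCommGroup V] [Module K V] [FiniteDimensional K V] (x g : Module.End K V),
      3 ≤ finrank K V → LinearMap.det x ≠ 0 → (∀ (a : K) (v : V), x v = a • v → v = 0) → (∀ s : K, g ≠ s • 1) →
      LinearMap.det g = LinearMap.det x ^ finrank K V → Good ({1} : Set K) Set.univ x g (finrank K V))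
    (hthree : ∀ {V : Type v} [AddCommGroup V] [Module K V] [FiniteDimensional K V] (x g : Module.End K V),
      finrank K V = 3 → LinearMap.det x ≠ 0 → ¬ Pseudo x → (∀ s : K, g ≠ s • 1) →
      LinearMap.det g = LinearMap.det x ^ finrank K V → Good ({1} : Set K) Set.univ x g (finrank K V))
    (hquad : ∀ {V : Type v} [AddCommGroup V] [Module K V] [FiniteDimensional K V] (x g : Module.End K V),
      Quad x → LinearMap.det x ≠ 0 → ¬ Pseudo x → (∀ s : K, g ≠ s • 1) →
      LinearMap.det g = LinearMap.det x ^ finrank K V → Good ({1} : Set K) Set.univ x g (finrank K V)) :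
    ∀ (n : ℕ) {V : Type v} [AddCommGroup V] [Module K V] [FiniteDimensional K V] (x g : Module.End K V),
      finrank K V = n → 3 ≤ n → LinearMap.det x ≠ 0 → ¬ Pseudo x → (∀ s : K, g ≠ s • 1) →
      LinearMap.det g = LinearMap.det x ^ n → Good ({1} : Set K) Set.univ x g n := by
  intro n
  induction n with
  | zero => intros; omega
  | succ n ih =>
    intro V _ _ _ x g hn h3 hdx hp hg hdet
    by_cases hnoe : ∀ (a : K) (v : V), x v = a • v → v = 0
    · exact hn ▸ hne x g (hn ▸ h3) hdx hnoe hg (hn ▸ hdet)
    push Not at hnoe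
    obtain ⟨a0, v0, hv0, hv0'⟩ := hnoe
    rcases Nat.lt_or_ge n 3 with hlt | hge
    · exact hn ▸ hthree x g (by omega) hdx hp hg (hn ▸ hdet)
    by_cases hq : Quad x
    · exact hn ▸ hquad x g hq hdx hp hg (hn ▸ hdet)
    obtain ⟨a, u, hu, hu0, hp'⟩ := exists_good_eigen (by omega) hp hq ⟨a0, v0, hv0', hv0⟩
    have ha : a ≠ 0 := fun e => by
      obtain ⟨x', -, hx'⟩ := exists_inverse hdx
      rw [e, zero_smul] at hu
      exact hu0 (by rw [← hx' u, hu, map_zero])
    obtain ⟨v, hv⟩ := exists_not_eigen hg
    have hdg : LinearMap.det g ≠ 0 := by rw [hdet]; exact pow_ne_zero _ hdx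
    have hv0n : v ≠ 0 := fun e => hv (by rw [e, map_zero]; exact zero_mem _)
    -- move the target
    obtain ⟨c, hcd, hcv⟩ := exists_move (K := K) (V := V) (j := 1) (by omega) (a := ![v]) (b := ![u])
      (LinearIndependent.of_subsingleton 0 hv0n) (LinearIndependent.of_subsingleton 0 hu0)
    have hcu : c v = u := hcv 0
    have hgu : c.conj g u ∉ Submodule.span K {u} := fun h => hv (by
      rw [← hcu, LinearEquiv.conj_apply_apply, LinearEquiv.symm_apply_apply] at h
      obtain ⟨t, ht⟩ := Submodule.mem_span_singleton.1 h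
      exact Submodule.mem_span_singleton.2 ⟨t, c.injective (by rw [map_smul, ht])⟩)
    have hxp : ∃ p, x p ∉ Submodule.span K {p} := exists_not_eigen fun s hs => hp ⟨s, by
      rw [show x - s • (1 : Module.End K V) = 0 from sub_eq_zero.2 hs, LinearMap.range_zero, finrank_bot]; exact Nat.zero_le _⟩
    obtain ⟨x1, h, hh, hc1, hgh, hmove, hns⟩ := exists_first (by omega) hxp hdx
      (g := c.conj g) (by rwa [show LinearMap.det (c.conj g) = LinearMap.det g from LinearMap.det_conj g c]) hgu
      (pow_ne_zero n ha)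
    have hq' := finrank_quot_line (K := K) hu0
    have hrec := ih ((Submodule.span K {u}).mapQ (Submodule.span K {u}) x (invariant_line hu))
      ((Submodule.span K {u}).mapQ (Submodule.span K {u}) h (invariant_line hh)) (by omega) hge
      (fun e => hdx (by rw [det_quot hu0 hu, e, mul_zero])) hp' hns (by
        have e1 : LinearMap.det (c.conj g) = LinearMap.det x * LinearMap.det h := by
          rw [hgh, map_mul, hc1.det_eq]
        rw [show LinearMap.det (c.conj g) = LinearMap.det g from LinearMap.det_conj g c, hdet, pow_succ'] at e1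
        have e2 := mul_left_cancel₀ hdx e1
        rw [det_quot hu0 hh, det_quot hu0 hu, mul_pow] at e2
        exact (mul_left_cancel₀ (pow_ne_zero n ha) e2).symm)
    have key := step_line hu0 ha (by omega : 1 ≤ n) hu hc1 hgh hh hmove (Λ := Set.univ) (Set.subset_univ _)
      (Set.mem_univ a) hrec
    have := key.conj_target c.symm (by
      have h1 : ((c.symm : V ≃ₗ[K] V) : V →ₗ[K] V) * (c : V →ₗ[K] V) = 1 := LinearMap.ext fun w => c.symm_apply_apply w
      have h2 := congrArg LinearMap.det h1
      rwa [map_mul, hcd, mul_one, map_one] at h2)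
    have e : c.symm.conj (c.conj g) = g := LinearMap.ext fun w => by simp [LinearEquiv.conj_apply]
    rwa [e] at this

end CfsgLib.PSLCover
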