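import Cfsg.Agent.Lib.PSLCover.Basic
import Cfsg.Agent.Lib.RegUnipProd.Matrix
import Cfsg.Agent.Lib.CentralizerDet

/-! Split regular products of two conjugates; centralisers of full determinant. -/

set_option autoImplicit false
set_option linter.unusedSectionVars false

namespace CfsgLib.PSLCover

open Module LinearMap

universe u v

variable {K : Type u} [Field K] {V : Type v} [AddCommGroup V] [Module K V] [FiniteDimensional K V]

/-- Determinants of the centraliser are everything. -/
def FullDet (x : Module.End K V) : Prop :=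
  ∀ ρ : K, ρ ≠ 0 → ∃ c : V ≃ₗ[K] V, (∀ v, x (c v) = c (x v)) ∧ LinearMap.det (c : V →ₗ[K] V) = ρ

theorem ConjIn.of_full {H : Set K} {x y : Module.End K V} (hx : FullDet x) (h : ConjIn H x y) :
    ConjIn ({1} : Set K) x y := by
  obtain ⟨e, -, hy⟩ := h
  obtain ⟨c, hc, hcd⟩ := hx _ (inv_ne_zero (LinearEquiv.isUnit_det' e).ne_zero)
  refine ⟨c ≪≫ₗ e, ?_, fun v => ?_⟩
  · rw [show ((c ≪≫ₗ e : V ≃ₗ[K] V) : V →ₗ[K] V) = (e : V →ₗ[K] V) * (c : V →ₗ[K] V) from rfl, map_mul, hcd,
      Set.mem_singleton_iff, mul_inv_cancel₀ (LinearEquiv.isUnit_det' e).ne_zero]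
  · rw [LinearEquiv.trans_apply, LinearEquiv.trans_apply, hy, hc]

theorem Good.of_full {H Λ : Set K} {x g : Module.End K V} {m : ℕ} (hx : FullDet x) (h : Good H Λ x g m) :
    Good ({1} : Set K) Λ x g m := by
  obtain ⟨L, h1, h2, h3, h4⟩ := h
  exact ⟨L, h1, fun f hf => (h2 f hf).of_full hx, h3, h4⟩

theorem fullDet_of_semisimple [Finite K] [Nontrivial V] {x : Module.End K V} (h : x.IsSemisimple) : FullDet x := by
  intro ρ hρ
  obtain ⟨g, hg, hgd⟩ := CentralizerDet.exists_det_of_semisimple x h (Units.mk0 ρ hρ)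
  have hu : IsUnit g := (LinearMap.isUnit_iff_isUnit_det g).2 (by rw [hgd]; exact Units.isUnit _)
  refine ⟨LinearMap.GeneralLinearGroup.toLinearEquiv hu.unit, fun v => ?_, ?_⟩
  · exact (LinearMap.congr_fun hg.eq v).symm
  · exact hgd

/-- An eigenvector outside the range of `x - a` frees the determinant. -/
theorem fullDet_of_eigen {x : Module.End K V} {a : K} {u : V} (hu : x u = a • u)
    (hur : u ∉ LinearMap.range (x - a • 1)) : FullDet x := by
  intro ρ hρ
  obtain ⟨ψ, hψu, hψ⟩ := RegUnipProd.sep hur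
  have hψx : ∀ v, ψ (x v) = a * ψ v := fun v => by
    have := hψ ((x - a • 1) v) (LinearMap.mem_range_self _ v)
    simpa [sub_eq_zero] using this
  obtain ⟨c, hc⟩ := RegUnipProd.perturb_equiv ((ρ - 1) • ψ) u (by simp [hψu, hρ])
  refine ⟨c, fun v => ?_, ?_⟩
  · simp only [hc, map_add, map_smul, hu, LinearMap.smul_apply, smul_eq_mul, hψx, smul_smul]
    ring_nf
  · let S : V ≃ₗ[K] (Fin (finrank K V) → K) := (Module.finBasis K V).equivFun
    clear_value S
    have e : (c : V →ₗ[K] V) = 1 + ((ρ - 1) • ψ).smulRight u := LinearMap.ext fun v => by simp [hc]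
    rw [e, ← LinearMap.det_conj _ S,
      show (S : V →ₗ[K] (Fin (finrank K V) → K)) ∘ₗ (1 + ((ρ - 1) • ψ).smulRight u) ∘ₗ
          (S.symm : (Fin (finrank K V) → K) →ₗ[K] V) =
        1 + (((ρ - 1) • ψ) ∘ₗ (S.symm : (Fin (finrank K V) → K) →ₗ[K] V)).smulRight (S u) from
          LinearMap.ext fun v => by simp,
      RegUnipProd.det_one_add_smulRight]
    simp [hψu]

/-- A product of two with one-dimensional eigenspaces, split, and no common eigenvector is diverse. -/
theorem div_pair {x y : Module.End K V} (roots : List K)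
    (hann : (roots.map fun r => x * y - r • 1).prod = 0)
    (heig : ∀ (r : K) (v w : V), (x * y) v = r • v → (x * y) w = r • w → w ≠ 0 → v ∈ Submodule.span K {w})
    (hcom : ∀ (a : K) (v : V), x v = a • v → y v = a • v → v = 0) : Div Set.univ [x, y] := by
  refine ⟨fun a _ v hv => hcom a v (hv x (by simp)) (hv y (by simp)), fun S hi he hn => ?_⟩
  by_contra hS
  obtain ⟨w0, hw0S, hw0⟩ := Submodule.exists_mem_ne_zero_of_ne_bot hS
  have hiS : ∀ v ∈ S, (x * y) v ∈ S := fun v hv => hi x (by simp) _ (hi y (by simp) v hv)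
  have key : ∀ l : List K, (∀ w : V, ((l.map fun r => x * y - r • 1).prod) w = 0 → w ∈ S → w ≠ 0 →
      ∃ (r : K) (w' : V), w' ∈ S ∧ w' ≠ 0 ∧ (x * y) w' = r • w') := by
    intro l
    induction l with
    | nil => intro w h _ hw; exact absurd (by simpa using h) hw
    | cons r l ih =>
      intro w h hwS hw
      rw [List.map_cons, List.prod_cons, Module.End.mul_apply] at h
      set w' := (l.map fun r => x * y - r • 1).prod w with hw'
      by_cases h0 : w' = 0
      · exact ih w h0 hwS hw
      refine ⟨r, w', ?_, h0, RegUnipProd.mem_eigKer.1 (LinearMap.mem_ker.2 h)⟩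
      have : ∀ l : List K, ∀ w ∈ S, (l.map fun r => x * y - r • 1).prod w ∈ S := by
        intro l
        induction l with
        | nil => intro w hw; simpa using hw
        | cons r l ih2 =>
          intro w hw
          rw [List.map_cons, List.prod_cons, Module.End.mul_apply, RegUnipProd.sub_smul_one_apply]
          exact S.sub_mem (hiS _ (ih2 w hw)) (S.smul_mem r (ih2 w hw))
      exact this l w hwS
  obtain ⟨r, w, hwS, hw, hwe⟩ := key roots w0 (by rw [hann, LinearMap.zero_apply]) hw0S hw0
  have hxy : ∀ v ∈ S, x v = y v := fun v hv => he x (by simp) y (by simp) v hv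
  have hxw : (x * y) (x w) = r • x w := by
    rw [Module.End.mul_apply, ← hxy _ (hi x (by simp) w hwS)]
    have : x (x w) = r • w := by rw [hxy w hwS]; exact hwe
    rw [this, map_smul]
  obtain ⟨a, ha⟩ := Submodule.mem_span_singleton.1 (heig r (x w) w hxw hwe hw)
  exact hw (hn a w hwS fun f hf => by
    rcases List.mem_cons.1 hf with rfl | hf
    · exact ha.symm
    · rw [List.mem_singleton] at hf; subst hf; rw [← hxy w hwS]; exact ha.symm)

end CfsgLib.PSLCover
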