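import Cfsg.Agent.Lib.PSLCover.KY
import Cfsg.Agent.Lib.PSLCover.Pair
import Cfsg.Agent.Lib.PSLCover.Eigen

/-! Cyclic vectors, products of conjugates, splitting off a factor. -/

set_option autoImplicit false
set_option linter.unusedSectionVars false

namespace CfsgLib.PSLCover

open Module LinearMap Polynomial
open CfsgLib.SLCommutator (Cyc)

universe u v

variable {K : Type u} [Field K] {V : Type v} [AddCommGroup V] [Module K V] [FiniteDimensional K V]

/-- A vector whose annihilator is the minimal polynomial. -/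
theorem exists_vec (x : Module.End K V) : ∃ v : V, ∀ p : K[X], aeval x p v = 0 → minpoly K x ∣ p := by
  haveI : Module.Finite K[X] (Module.AEval' x) := inferInstance
  obtain ⟨w, hw⟩ := Module.exists_ker_toSpanSingleton_eq_annihilator (R := K[X]) (M := Module.AEval' x)
  obtain ⟨v, rfl⟩ := (Module.AEval'.of x).surjective w
  refine ⟨v, fun p hp => ?_⟩
  have : p ∈ LinearMap.ker (LinearMap.toSpanSingleton K[X] (Module.AEval' x) (Module.AEval'.of x v)) := by
    rw [LinearMap.mem_ker, LinearMap.toSpanSingleton_apply]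
    have := (Module.AEval.of_aeval_smul (R := K) (M := V) x p v).symm
    rw [show Module.AEval'.of x v = Module.AEval.of K V x v from rfl, this]
    rw [show (aeval x p • v : V) = aeval x p v from rfl, hp, map_zero]
  rw [hw, ← span_minpoly_eq_annihilator, Ideal.mem_span_singleton] at this
  exact this

/-- Orbit vectors below the degree of the minimal polynomial are independent. -/
theorem orbit_independent {x : Module.End K V} {v : V} (hv : ∀ p : K[X], aeval x p v = 0 → minpoly K x ∣ p) :
    LinearIndependent K fun i : Fin (minpoly K x).natDegree => (x ^ (i : ℕ)) v := by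
  rw [Fintype.linearIndependent_iff]
  intro c hc
  set p : K[X] := ∑ i : Fin (minpoly K x).natDegree, C (c i) * X ^ (i : ℕ) with hp
  have h0 : aeval x p v = 0 := by
    rw [hp, map_sum, LinearMap.sum_apply, ← hc]
    refine Finset.sum_congr rfl fun i _ => ?_
    simp [Algebra.algebraMap_eq_smul_one]
  have hz : p = 0 := by
    by_contra hne
    have h1 := natDegree_le_of_dvd (hv p h0) hne
    have h2 : p.natDegree < (minpoly K x).natDegree := by
      rcases Nat.eq_zero_or_pos (minpoly K x).natDegree with e | e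
      · exfalso
        haveI : IsEmpty (Fin (minpoly K x).natDegree) := by rw [e]; infer_instance
        exact hne (by simp [hp])
      refine (natDegree_sum_le _ _).trans_lt ?_
      rw [Finset.fold_max_lt]
      exact ⟨e, fun i _ => (natDegree_C_mul_X_pow_le _ _).trans_lt i.2⟩
    omega
  intro i
  have := congrArg (fun q : K[X] => q.coeff i) hz
  simp only [hp, finsetSum_coeff, coeff_C_mul_X_pow, coeff_zero] at this
  rw [Finset.sum_eq_single i] at this
  · simpa using this
  · intro k _ hk; rw [if_neg]; exact fun e => hk (Fin.ext e.symm)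
  · simp

theorem natDegree_minpoly_le (x : Module.End K V) : (minpoly K x).natDegree ≤ finrank K V := by
  rw [← LinearMap.charpoly_natDegree x]
  exact natDegree_le_of_dvd (LinearMap.minpoly_dvd_charpoly x) (LinearMap.charpoly_monic x).ne_zero

theorem cyc_of_degree {x : Module.End K V} (h : (minpoly K x).natDegree = finrank K V) : ∃ v, Cyc x v := by
  obtain ⟨v, hv⟩ := exists_vec x
  refine ⟨v, fun p hp hvp => ?_⟩
  rw [eq_top_iff, ← (orbit_independent hv).span_eq_top_of_card_eq_finrank' (by simp [h]), Submodule.span_le]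
  rintro _ ⟨⟨i, hi⟩, rfl⟩
  simp only [SetLike.mem_coe]
  clear hi
  induction i with
  | zero => simpa using hvp
  | succ i ih => rw [pow_succ', Module.End.mul_apply]; exact hp _ ih

theorem cyc_of_irr [Nontrivial V] {x : Module.End K V}
    (h : ∀ W : Submodule K V, (∀ w ∈ W, x w ∈ W) → W = ⊥ ∨ W = ⊤) : ∃ v, Cyc x v := by
  obtain ⟨v, hv⟩ := exists_ne (0 : V)
  exact ⟨v, fun p hp hvp => (h p hp).resolve_left fun e => hv (by rw [e] at hvp; simpa using hvp)⟩

theorem fullDet_of_irr [Finite K] [Nontrivial V] {x : Module.End K V}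
    (h : ∀ W : Submodule K V, (∀ w ∈ W, x w ∈ W) → W = ⊥ ∨ W = ⊤) : FullDet x := by
  refine fullDet_of_semisimple (Module.End.isSemisimple_iff.2 fun p hp => ?_)
  rcases h p hp with rfl | rfl
  · exact ⟨⊤, fun w _ => Submodule.mem_top, isCompl_bot_top⟩
  · exact ⟨⊥, fun w hw => by simp [(Submodule.mem_bot K).1 hw], isCompl_top_bot⟩

/-- A product of `m` conjugates. -/
def IsProd (H : Set K) (x g : Module.End K V) (m : ℕ) : Prop :=
  ∃ L : List (Module.End K V), L.length = m ∧ (∀ f ∈ L, ConjIn H x f) ∧ L.prod = g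

theorem Good.isProd {H Λ : Set K} {x g : Module.End K V} {m : ℕ} (h : Good H Λ x g m) : IsProd H x g m := by
  obtain ⟨L, h1, h2, h3, -⟩ := h
  exact ⟨L, h1, h2, h3⟩

theorem IsProd.of_full {H : Set K} {x g : Module.End K V} {m : ℕ} (hx : FullDet x) (h : IsProd H x g m) :
    IsProd ({1} : Set K) x g m := by
  obtain ⟨L, h1, h2, h3⟩ := h
  exact ⟨L, h1, fun f hf => (h2 f hf).of_full hx, h3⟩

theorem isProd_cons {H : Set K} {x g h y : Module.End K V} {m : ℕ} (hy : ConjIn H x y) (hh : IsProd H x h m)
    (hg : g = y * h) : IsProd H x g (m + 1) := by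
  obtain ⟨L, h1, h2, h3⟩ := hh
  exact ⟨y :: L, by simp [h1], fun f hf => by
    rcases List.mem_cons.1 hf with rfl | hf
    exacts [hy, h2 f hf], by rw [List.prod_cons, h3, hg]⟩

theorem good_cons {H Λ : Set K} {x g h y : Module.End K V} {m : ℕ} (hy : ConjIn H x y) (hh : Good H Λ x h (m + 1))
    (hg : g = y * h) : Good H Λ x g (m + 2) := by
  obtain ⟨L, h1, h2, h3, h4⟩ := hh
  refine ⟨y :: L, by simp [h1], fun f hf => ?_, by rw [List.prod_cons, h3, hg],
    h4.of_subset (fun f hf => List.mem_cons_of_mem _ hf) fun e => by rw [e] at h1; simp at h1⟩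
  rcases List.mem_cons.1 hf with rfl | hf
  exacts [hy, h2 f hf]

/-- One conjugate can be split off leaving a non-scalar rest. -/
theorem split_off {x g : Module.End K V} (hdx : LinearMap.det x ≠ 0) (hdg : LinearMap.det g ≠ 0)
    (hns : ∀ s : K, x ≠ s • 1) :
    ∃ y h : Module.End K V, ConjIn ({1} : Set K) x y ∧ g = y * h ∧ LinearMap.det g = LinearMap.det x * LinearMap.det h ∧
      ∀ s : K, h ≠ s • 1 := by
  have key : ∀ y : Module.End K V, ConjIn ({1} : Set K) x y → (∀ ν : K, g ≠ ν • y) →
      ∃ y h : Module.End K V, ConjIn ({1} : Set K) x y ∧ g = y * h ∧ LinearMap.det g = LinearMap.det x * LinearMap.det h ∧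
        ∀ s : K, h ≠ s • 1 := by
    intro y hy hne
    obtain ⟨e, -, he⟩ := id hy
    have hdy : LinearMap.det y = LinearMap.det x := by
      rw [← LinearMap.det_conj x e]
      congr 1
      exact LinearMap.ext fun v => by simpa using he (e.symm v)
    obtain ⟨y', h1, -⟩ := exists_inverse (f := y) (by rwa [hdy])
    refine ⟨y, y' * g, hy, by rw [← mul_assoc, show y * y' = 1 from LinearMap.ext h1, one_mul], ?_, fun s hs => hne s ?_⟩
    · have := congrArg LinearMap.det (show g = y * (y' * g) by rw [← mul_assoc, show y * y' = 1 from LinearMap.ext h1, one_mul])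
      rwa [map_mul, hdy] at this
    · have := congrArg (fun f => y * f) hs
      simp only [← mul_assoc, show y * y' = 1 from LinearMap.ext h1, one_mul, mul_smul_comm, mul_one] at this
      exact this
  by_cases h0 : ∀ ν : K, g ≠ ν • x
  · exact key x (ConjIn.refl (H := ({1} : Set K)) (Set.mem_singleton 1) x) h0
  push Not at h0
  obtain ⟨ν, hν⟩ := h0
  obtain ⟨u, hu⟩ := exists_not_eigen hns
  obtain ⟨φ, hφ1, hφ⟩ := RegUnipProd.sep hu
  have hφu : φ u = 0 := hφ u (Submodule.mem_span_singleton_self u)
  let N : V ≃ₗ[K] V := LinearEquiv.ofLinearMap (1 + φ.smulRight u) (1 - φ.smulRight u)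
    (LinearMap.ext fun v => by simp [hφu, sub_eq_add_neg]) (LinearMap.ext fun v => by simp [hφu, sub_eq_add_neg])
  have hNd : LinearMap.det (N : V →ₗ[K] V) = 1 := by
    show LinearMap.det (1 + φ.smulRight u) = 1
    exact RegUnipProd.det_one_add_sq_zero _ (LinearMap.ext fun v => by simp [hφu])
  refine key (N.conj x) ⟨N, hNd, fun v => by simp [LinearEquiv.conj_apply]⟩ fun μ hμ => ?_
  have hu0 : u ≠ 0 := fun e => hu (by rw [e, map_zero]; exact zero_mem _)
  have h1 : N.conj x u = x u + u := by
    have : N.symm u = u := by show u - φ u • u = u; rw [hφu, zero_smul, sub_zero]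
    rw [LinearEquiv.conj_apply_apply, this]
    show x u + φ (x u) • u = _
    rw [hφ1, one_smul]
  have h2 := LinearMap.congr_fun (hν.symm.trans hμ) u
  rw [LinearMap.smul_apply, LinearMap.smul_apply, h1, smul_add] at h2
  have hν0 : ν ≠ 0 := fun e => hdg (by
    rw [hν, e, zero_smul, LinearMap.det_zero, zero_pow]
    intro e0
    exact hu0 (finrank_zero_iff_forall_zero.1 e0 u))
  by_cases hμν : ν - μ = 0
  · rw [sub_eq_zero.1 hμν] at h2
    have : μ • u = 0 := by simpa using h2.symm
    exact hu0 ((smul_eq_zero.1 this).resolve_left (sub_eq_zero.1 hμν ▸ hν0))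
  · refine hu (Submodule.mem_span_singleton.2 ⟨(ν - μ)⁻¹ * μ, ?_⟩)
    rw [mul_smul, eq_comm, eq_inv_smul_iff₀ hμν, sub_smul, h2, add_sub_cancel_left]

end CfsgLib.PSLCover
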