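import Cfsg.Agent.Lib.PSLCover.LUTwo
import Cfsg.Agent.Lib.RegUnipProd.Main

/-! Factorisations with spectrum `(e, 1, …, 1)`. -/

set_option autoImplicit false
set_option linter.unusedSectionVars false

namespace CfsgLib.PSLCover

open Module LinearMap
open CfsgLib.RegUnipProd (proj coe_proj proj_self proj_coe ext ext_apply det_ext)

universe u v

variable {K : Type u} [Field K] {V : Type v} [AddCommGroup V] [Module K V] [FiniteDimensional K V]

/-- A triangular map in a given basis. -/
theorem exists_triangular {n : ℕ} (hn : finrank K V = n) (C : Basis (Fin n) K V) (l : ℕ → K) (hl : ∀ i < n, l i ≠ 0)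
    (link : ℕ → Prop) [DecidablePred link] (h0 : ¬ link 0)
    (hcond : ∀ i, i + 1 < n → (∀ k, k ≤ i → l k ≠ l (i + 1)) ∨ (l i = l (i + 1) ∧ link (i + 1))) :
    ∃ T T' : Module.End K V, (∀ v, T (T' v) = v) ∧ (∀ v, T' (T v) = v) ∧ RegL T ((List.range n).map l) ∧
      ∀ (i : ℕ) (hi : i < n), T (C ⟨i, hi⟩) = l i • C ⟨i, hi⟩ + if link i then C ⟨i - 1, by omega⟩ else 0 := by
  let f : ℕ → V := fun i => if h : i < n then C ⟨i, h⟩ else 0
  let T : Module.End K V := C.constr K fun i : Fin n =>
    l i • C i + if link i then C ⟨(i : ℕ) - 1, by omega⟩ else 0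
  have hT : ∀ i (hi : i < n), T (f i) = l i • f i + if link i then f (i - 1) else 0 := fun i hi => by
    simp only [T, f, dif_pos hi, Basis.constr_basis, dif_pos (show i - 1 < n by omega)]
  have hreg : RegL T ((List.range n).map l) := by
    refine regL_triangular f l hn ?_ (fun i hi => ?_) (fun i hi => ?_)
    · rw [eq_top_iff, ← C.span_eq, Submodule.span_le]
      rintro _ ⟨i, rfl⟩
      exact Submodule.subset_span ⟨i, i.2, by simp [f, i.2]⟩
    · rw [hT i hi, add_sub_cancel_left]
      split_ifs with h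
      · have : i ≠ 0 := fun e => h0 (e ▸ h)
        exact Submodule.subset_span ⟨i - 1, by simp; omega, rfl⟩
      · exact zero_mem _
    · rcases hcond i hi with h | ⟨h, hk⟩
      · exact Or.inl h
      · refine Or.inr ⟨h, ?_⟩
        rw [hT (i + 1) hi, if_pos hk, add_sub_cancel_left, Nat.add_sub_cancel, sub_self]
        exact zero_mem _
  obtain ⟨T', h1, h2⟩ := exists_inverse (f := T) (isUnit_of_regL hreg fun r hr => by
    obtain ⟨i, hi, rfl⟩ := List.mem_map.1 hr
    exact hl i (List.mem_range.1 hi))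
  refine ⟨T, T', h1, h2, hreg, fun i hi => ?_⟩
  have := hT i hi
  simpa [f, hi, show i - 1 < n by omega] using this

theorem det_rankOne (φ : V →ₗ[K] K) (z : V) : LinearMap.det (1 + φ.smulRight z : Module.End K V) = 1 + φ z := by
  let S : V ≃ₗ[K] (Fin (finrank K V) → K) := (Module.finBasis K V).equivFun
  clear_value S
  rw [← LinearMap.det_conj _ S,
    show (S : V →ₗ[K] (Fin (finrank K V) → K)) ∘ₗ (1 + φ.smulRight z) ∘ₗ
        (S.symm : (Fin (finrank K V) → K) →ₗ[K] V) =
      1 + (φ ∘ₗ (S.symm : (Fin (finrank K V) → K) →ₗ[K] V)).smulRight (S z) from LinearMap.ext fun v => by simp,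
    RegUnipProd.det_one_add_smulRight]
  simp

theorem list_one_head (a : K) (j : ℕ) :
    (List.range (j + 1)).map (fun i => if i = 0 then a else (1 : K)) = a :: List.replicate j 1 := by
  rw [List.range_succ_eq_map, List.map_cons, List.map_map]
  congr 1
  refine List.eq_replicate_iff.2 ⟨by simp, fun b hb => ?_⟩
  obtain ⟨i, -, rfl⟩ := List.mem_map.1 hb
  simp

/-- The rank one targets. -/
theorem lu_one_small {j : ℕ} (hj : 1 ≤ j) (hn : finrank K V = j + 1) {e : K} (he0 : e ≠ 0) (he1 : e ≠ 1)
    {M : Module.End K V} (hdet : LinearMap.det M = e * e) (hns : ∀ s : K, M ≠ s • 1)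
    (hr : finrank K (LinearMap.range (M - 1)) < 2) :
    ∃ L U : Module.End K V, M = L * U ∧ RegL L (e :: List.replicate j 1) ∧ RegL U (e :: List.replicate j 1) := by
  classical
  obtain ⟨φ, z, hz0, hφ0, hM, hd⟩ := rank_one_form hr hns
  rw [hdet] at hd
  let C0 := Module.finBasisOfFinrankEq K V hn
  have hrep : (List.replicate j (1 : K)).map (fun r => r⁻¹) = List.replicate j 1 := by simp
  have mk : ∀ (C : Basis (Fin (j + 1)) K V) (a : K), a ≠ 0 → a ≠ 1 → ∃ T T' : Module.End K V,
      (∀ v, T (T' v) = v) ∧ (∀ v, T' (T v) = v) ∧ RegL T (a :: List.replicate j 1) ∧ T (C 0) = a • C 0 ∧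
      ∀ (i : ℕ) (hi : i < j + 1), 1 ≤ i → T (C ⟨i, hi⟩) = C ⟨i, hi⟩ + if 2 ≤ i then C ⟨i - 1, by omega⟩ else 0 := by
    intro C a ha0 ha1
    obtain ⟨T, T', h1, h2, hreg, hT⟩ := exists_triangular hn C (fun i => if i = 0 then a else 1)
      (fun i _ => by split_ifs; exacts [ha0, one_ne_zero]) (fun i => 2 ≤ i) (by omega) (fun i _ => by
        rcases Nat.eq_zero_or_pos i with rfl | h
        · exact Or.inl fun k hk => by simp [show k = 0 by omega, ha1]
        · exact Or.inr ⟨by simp [h.ne'], by omega⟩)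
    rw [list_one_head] at hreg
    refine ⟨T, T', h1, h2, hreg, by simpa using hT 0 (by omega), fun i hi h => ?_⟩
    have := hT i hi
    rwa [if_neg (show i ≠ 0 by omega), one_smul] at this
  by_cases hφz : φ z = 0
  · -- a transvection
    obtain ⟨ε, hez, heφ⟩ := exists_frame (by omega) hz0 (C0.ne_zero 0) hφ0
      (φ' := C0.coord ⟨1, by omega⟩) (fun h => by
        have := LinearMap.congr_fun h (C0 ⟨1, by omega⟩); simp at this)
      (by rw [hφz]; simp [Fin.ext_iff])
    obtain ⟨T, T', h1, h2, hreg, hT0, -⟩ := mk (C0.map ε) e he0 he1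
    simp only [Basis.map_apply, hez] at hT0
    obtain ⟨u, hu0, hu, hur⟩ := hreg.exists_simple (by simp [he1])
    have hl0 : ∀ r ∈ e :: List.replicate j (1 : K), r ≠ 0 := by
      intro r h; simp only [List.mem_cons, List.mem_replicate] at h
      rcases h with rfl | ⟨-, rfl⟩
      exacts [he0, one_ne_zero]
    have hU := transvection_factor h1 h2 hreg hl0 hz0 hT0 (φ := φ) (fun v a hv => by
      obtain ⟨c, hc⟩ := Submodule.mem_span_singleton.1 (hreg.2.2 e z u hT0 hu hu0)
      have hc0 : c ≠ 0 := fun e => hz0 (by rw [← hc, e, zero_smul])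
      have ha : a = 0 := by
        by_contra ha
        refine hur ⟨(a * c)⁻¹ • v, ?_⟩
        rw [map_smul, RegUnipProd.sub_smul_one_apply, hv, ← hc, smul_smul, smul_smul, mul_assoc,
          inv_mul_cancel₀ (mul_ne_zero ha hc0), one_smul]
      rw [ha, zero_smul, sub_eq_zero] at hv
      obtain ⟨k, hk⟩ := Submodule.mem_span_singleton.1 (hreg.2.2 e v z hv hT0 hz0)
      rw [← hk, map_smul, hφz, smul_zero])
    have hinv : e⁻¹ = e := by
      rw [hφz, add_zero] at hd
      exact inv_eq_of_mul_eq_one_left hd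
    rw [← hM, List.map_cons, hrep, hinv] at hU
    exact ⟨T, T' * M, by rw [← mul_assoc, show T * T' = 1 from LinearMap.ext h1, one_mul], hreg, hU⟩
  · -- a diagonalisable one
    obtain ⟨ε, hez, heφ⟩ := exists_frame (by omega) hz0 (C0.ne_zero 0) hφ0
      (φ' := φ z • C0.coord 0) (fun h => by
        have := LinearMap.congr_fun h (C0 0); simp at this; exact hφz this)
      (by simp)
    have he2 : e⁻¹ ≠ 1 := fun h => he1 (by simpa using congrArg Inv.inv h)
    obtain ⟨T, T', h1, h2, hreg, hT0, hTi⟩ := mk (C0.map ε) e he0 he1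
    obtain ⟨S, S', k1, k2, hregS, hS0, hSi⟩ := mk (C0.map ε) e⁻¹ (inv_ne_zero he0) he2
    have hl0 : ∀ r ∈ e⁻¹ :: List.replicate j (1 : K), r ≠ 0 := by
      intro r h; simp only [List.mem_cons, List.mem_replicate] at h
      rcases h with rfl | ⟨-, rfl⟩
      exacts [inv_ne_zero he0, one_ne_zero]
    have hU := hregS.inv k1 k2 hl0
    rw [List.map_cons, inv_inv, hrep] at hU
    have hMS : M * S = T := (C0.map ε).ext fun i => by
      rcases Nat.eq_zero_or_pos (i : ℕ) with h | h
      · obtain rfl : i = 0 := Fin.ext h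
        rw [Module.End.mul_apply, hS0, hT0, map_smul, hM]
        simp only [Basis.map_apply, hez, LinearMap.add_apply, Module.End.one_apply, LinearMap.smulRight_apply]
        rw [show φ z = e * e - 1 by linear_combination -hd, show z + (e * e - 1) • z = (e * e) • z by module, smul_smul]
        congr 1
        field_simp
      · have key : ∀ (k : ℕ) (hk : k < j + 1), 1 ≤ k → M ((C0.map ε) ⟨k, hk⟩) = (C0.map ε) ⟨k, hk⟩ := fun k hk h1 => by
          rw [hM, LinearMap.add_apply, Module.End.one_apply, LinearMap.smulRight_apply, Basis.map_apply, heφ]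
          simp [Finsupp.single_apply, Fin.ext_iff, show k ≠ 0 by omega]
        rw [Module.End.mul_apply, show i = ⟨(i : ℕ), i.2⟩ from rfl, hSi i i.2 h, hTi i i.2 h, map_add, key i i.2 h]
        split_ifs with h2'
        · rw [key _ _ (by omega)]
        · rw [map_zero]
    refine ⟨T, S', ?_, hreg, hU⟩
    rw [← hMS, mul_assoc, show S * S' = 1 from LinearMap.ext k1, mul_one]

/-- Spectrum `(e, 1, …, 1)`. -/
theorem lu_one (h4 : ∃ k : Fin 4 → K, Function.Injective k) {j : ℕ} (hn : finrank K V = j + 1) (hj : 3 ≤ j) {e : K}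
    (he0 : e ≠ 0) (he1 : e ≠ 1) {M : Module.End K V} (hdet : LinearMap.det M = e * e) (hns : ∀ s : K, M ≠ s • 1) :
    ∃ L U : Module.End K V, M = L * U ∧ RegL L (e :: List.replicate j 1) ∧ RegL U (e :: List.replicate j 1) := by
  classical
  rcases Nat.lt_or_ge (finrank K (LinearMap.range (M - 1))) 2 with hr | hr
  · exact lu_one_small (by omega) hn he0 he1 hdet hns hr
  set E1 := LinearMap.ker (M - 1) with hE1
  set I := LinearMap.range (M - 1) with hI
  have hrn := LinearMap.finrank_range_add_finrank_ker (M - 1)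
  rw [← hI, ← hE1, hn] at hrn
  have hns' : ¬ ∃ s : K, M = s • 1 := fun ⟨s, hs⟩ => hns s hs
  -- the vector
  obtain ⟨p, hp, hpI⟩ : ∃ p, (∀ a : K, M p ≠ a • p) ∧ (1 ≤ finrank K E1 → p ∉ I) := by
    obtain ⟨χ, hχ, hχ'⟩ : ∃ χ : V →ₗ[K] K, χ ≠ 0 ∧ (1 ≤ finrank K E1 → ∀ y ∈ I, χ y = 0) := by
      rcases Nat.eq_zero_or_pos (finrank K E1) with h | h
      · haveI : Nontrivial V := Module.nontrivial_of_finrank_pos (R := K) (by omega)
        obtain ⟨c, hc⟩ := exists_ne (0 : V)
        obtain ⟨χ, hχ, -⟩ := RegUnipProd.sep (p := (⊥ : Submodule K V)) (x := c) (by simpa using hc)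
        exact ⟨χ, fun e => by simp [e] at hχ, fun h' => by omega⟩
      · obtain ⟨χ, hχ, hχ'⟩ := RegUnipProd.sep_proper (p := I) fun e => by rw [e, finrank_top, hn] at hrn; omega
        exact ⟨χ, hχ, fun _ => hχ'⟩
    obtain ⟨p, hp1, -, hp⟩ := RegUnipProd.exists_noneigen h4 M hns' hχ hχ
    exact ⟨p, hp, fun h hI' => hp1 (hχ' h p hI')⟩
  set q := (e * e)⁻¹ • M p with hq
  have hee : e * e ≠ 0 := mul_ne_zero he0 he0
  have hMq : M p = (e * e) • q := by rw [hq, smul_smul, mul_inv_cancel₀ hee, one_smul]
  have hind : ∀ a d : K, a • p + d • q = 0 → a = 0 ∧ d = 0 := by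
    intro a d h
    have hd : d = 0 := by
      by_contra hd
      refine hp (-(e * e * (d⁻¹ * a))) ?_
      have h' : d • q = -(a • p) := eq_neg_of_add_eq_zero_right h
      have : q = d⁻¹ • (d • q) := by rw [smul_smul, inv_mul_cancel₀ hd, one_smul]
      rw [hMq, this, h']
      module
    rw [hd, zero_smul, add_zero] at h
    exact ⟨(smul_eq_zero.1 h).resolve_right fun h0 => hp 0 (by simp [h0]), hd⟩
  obtain ⟨hbase, hval⟩ := RegUnipProd.exists_value hind
  -- the vectors to avoid
  let Bad : K → Prop := fun s => s ≠ 1 ∧ j ≤ finrank K (RegUnipProd.eigKer M s) + 1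
  have off : ∀ {P : Submodule K V}, 2 ≤ finrank K P → ∃ x ∈ P, x ∉ Submodule.span K {q - p} := fun h =>
    RegUnipProd.exists_off_line_of_two h _
  have h1eq : E1 = RegUnipProd.eigKer M 1 := by simp [hE1, RegUnipProd.eigKer]
  obtain ⟨l, hlen, hladm, hlE, hlB⟩ : ∃ l : List V, l.length ≤ 3 ∧ (∀ v ∈ l, v ∉ Submodule.span K {q - p}) ∧
      (j ≤ finrank K E1 + 1 → ∃ x ∈ E1, x ∈ l) ∧ ∀ s, Bad s → ∃ x ∈ RegUnipProd.eigKer M s, x ∈ l := by
    by_cases hk : j ≤ finrank K E1 + 1
    · obtain ⟨x, hx, hx'⟩ := off (P := E1) (by omega)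
      by_cases hs : ∃ s, Bad s
      · obtain ⟨s, hs⟩ := hs
        obtain ⟨y, hy, hy'⟩ := off (P := RegUnipProd.eigKer M s) (by have := hs.2; omega)
        refine ⟨[x, y], by simp, by simp [hx', hy'], fun _ => ⟨x, hx, by simp⟩, fun t ht => ⟨y, ?_, by simp⟩⟩
        by_cases hts : t = s
        · exact hts ▸ hy
        · exfalso
          have := RegUnipProd.eigKer_three M (Ne.symm hs.1) (Ne.symm ht.1) (Ne.symm hts)
          rw [← h1eq, hn] at this
          have := hs.2; have := ht.2
          omega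
      · exact ⟨[x], by simp, by simp [hx'], fun _ => ⟨x, hx, by simp⟩, fun s h => absurd ⟨s, h⟩ hs⟩
    · by_cases hs : ∃ s, Bad s
      · obtain ⟨s, hs⟩ := hs
        obtain ⟨y, hy, hy'⟩ := off (P := RegUnipProd.eigKer M s) (by have := hs.2; omega)
        by_cases ht : ∃ t, Bad t ∧ t ≠ s
        · obtain ⟨t, ht, hts⟩ := ht
          obtain ⟨y2, hy2, hy2'⟩ := off (P := RegUnipProd.eigKer M t) (by have := ht.2; omega)
          refine ⟨[y, y2], by simp, by simp [hy', hy2'], fun h => absurd h hk, fun r hr => ?_⟩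
          by_cases h1 : r = s
          · exact ⟨y, h1 ▸ hy, by simp⟩
          by_cases h2 : r = t
          · exact ⟨y2, h2 ▸ hy2, by simp⟩
          exfalso
          have := RegUnipProd.eigKer_three M (Ne.symm hts) (Ne.symm h1) (Ne.symm h2)
          rw [hn] at this
          have := hs.2; have := ht.2; have := hr.2
          omega
        · push Not at ht
          exact ⟨[y], by simp, by simp [hy'], fun h => absurd h hk, fun r hr => ⟨y, (ht r hr) ▸ hy, by simp⟩⟩
      · exact ⟨[], by simp, by simp, fun h => absurd h hk, fun s h => absurd ⟨s, h⟩ hs⟩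
  obtain ⟨f, hfp, hfq, hf⟩ := RegUnipProd.avoid_affine h4 p q hbase l hlen fun v hv => hval v (hladm v hv)
  have hfM : f (M p) = e * e := by rw [hMq, map_smul, hfq, smul_eq_mul, mul_one]
  set W := LinearMap.ker f with hW
  set π := proj p f hfp with hπ
  have hfW : ∀ w : W, f w = 0 := fun w => LinearMap.mem_ker.1 w.2
  let β : W →ₗ[K] K := (e * e)⁻¹ • ((f ∘ₗ M) ∘ₗ W.subtype)
  let G : Module.End K W := LinearMap.codRestrict W (M ∘ₗ W.subtype - β.smulRight (M p)) fun w => by
    simp [hW, β, hfM]; field_simp; simp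
  have hG : ∀ w : W, (G w : V) = M w - β w • M p := fun w => rfl
  have hWfin : finrank K W = j := by
    have h := LinearMap.finrank_range_add_finrank_ker f
    rw [LinearMap.range_eq_top.2 (fun t => ⟨t • p, by simp [hfp]⟩), finrank_top, finrank_self, hn] at h
    rw [hW]; omega
  have hπp : π p = 0 := proj_self p f hfp
  have hπw : ∀ w : W, π w = w := proj_coe p f hfp
  have hv : ∀ v, v = f v • p + (π v : V) := fun v => by rw [hπ, RegUnipProd.coe_proj]; abel
  have hdec : M = (1 + f.smulRight (M p - p)) * ext p f hfp G p * (1 + (β ∘ₗ π).smulRight p) := by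
    refine LinearMap.ext fun v => ?_
    have e1 : (1 + (β ∘ₗ π).smulRight p) v = v + β (π v) • p := by simp
    have e2 : ext p f hfp G p (v + β (π v) • p) = (f v + β (π v)) • p + (G (π v) : V) := by
      rw [ext_apply, show proj p f hfp = π from rfl, map_add, map_add, map_smul, map_smul, hπp, smul_zero, add_zero,
        hfp, smul_eq_mul, mul_one]
    rw [Module.End.mul_apply, Module.End.mul_apply, e1, e2]
    simp only [LinearMap.add_apply, Module.End.one_apply, LinearMap.smulRight_apply, map_add, map_smul, hfW, hfp,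
      smul_eq_mul, mul_one, add_zero]
    rw [hG]
    conv_lhs => rw [hv v, map_add, map_smul]
    module
  have hdetG : LinearMap.det G = 1 := by
    have h := congrArg LinearMap.det hdec
    rw [map_mul, map_mul, det_ext, det_rankOne, det_rankOne, hdet, map_sub, hfM, hfp,
      LinearMap.comp_apply, hπp, map_zero, add_zero, mul_one, add_sub_cancel] at h
    exact mul_left_cancel₀ hee (h.symm.trans (mul_one _).symm)
  -- the comparison with eigenspaces
  have hcomap : ∀ (s : K) (w : W), G w = s • w → M w - s • (w : V) ∈ Submodule.span K {M p} := fun s w h => by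
    have := congrArg Subtype.val h
    rw [hG, Submodule.coe_smul, sub_eq_iff_eq_add] at this
    exact Submodule.mem_span_singleton.2 ⟨β w, by rw [this]; abel⟩
  set P := (Submodule.span K {M p}).comap (M - 1) with hP
  have hPle : finrank K P ≤ finrank K E1 + 1 :=
    (RegUnipProd.finrank_comap_le _ _).trans (Nat.add_le_add_left (RegUnipProd.finrank_span_singleton_le _) _)
  have hPE : 1 ≤ finrank K E1 → P = E1 := fun hk => by
    refine le_antisymm (fun x hx => ?_) (fun x hx => by
      rw [hP, Submodule.mem_comap, LinearMap.mem_ker.1 hx]; exact Submodule.zero_mem _)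
    obtain ⟨μ, hμ⟩ := Submodule.mem_span_singleton.1 (Submodule.mem_comap.1 hx)
    by_cases h0 : μ = 0
    · rw [h0, zero_smul] at hμ
      exact LinearMap.mem_ker.2 hμ.symm
    · exfalso
      refine hpI hk ?_
      have h1 : M p ∈ I := ⟨μ⁻¹ • x, by rw [map_smul, ← hμ, smul_smul, inv_mul_cancel₀ h0, one_smul]⟩
      have h2 : M p - p ∈ I := ⟨p, by simp⟩
      have := I.sub_mem h1 h2
      rwa [sub_sub_cancel] at this
  have hPW : finrank K (P ⊓ W : Submodule K V) + 2 ≤ j := by
    have hle := Submodule.finrank_mono (inf_le_left : P ⊓ W ≤ P)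
    rcases Nat.eq_zero_or_pos (finrank K E1) with h | h
    · omega
    rw [hPE h] at hle ⊢
    by_cases hk : j ≤ finrank K E1 + 1
    · obtain ⟨x, hx, hxl⟩ := hlE hk
      have hlt : E1 ⊓ W < E1 := lt_of_le_of_ne inf_le_left fun e => by
        rw [← e] at hx
        exact hf x hxl (LinearMap.mem_ker.1 hx.2)
      have := Submodule.finrank_lt_finrank_of_lt hlt
      omega
    · omega
  have hrG : 2 ≤ finrank K (LinearMap.range (G - 1)) := by
    have h := LinearMap.finrank_range_add_finrank_ker (G - 1)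
    have : finrank K (LinearMap.ker (G - 1)) ≤ finrank K (P ⊓ W : Submodule K V) := by
      rw [← Submodule.finrank_map_subtype_eq]
      refine Submodule.finrank_mono ?_
      rintro _ ⟨w, hw, rfl⟩
      refine ⟨Submodule.mem_comap.2 ?_, w.2⟩
      have hw' : G w = (1 : K) • w := by simpa [sub_eq_zero] using hw
      simpa using hcomap 1 w hw'
    omega
  have hGns : ¬ ∃ s : K, G = s • 1 := by
    rintro ⟨s, hs⟩
    by_cases hs1 : s = 1
    · rw [hs, hs1, one_smul, sub_self, LinearMap.range_zero, finrank_bot] at hrG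
      omega
    have hs0 : s ≠ 0 := fun h0 => by
      rw [hs, h0, zero_smul, LinearMap.det_zero, zero_pow (by omega)] at hdetG
      exact zero_ne_one hdetG
    have hle : W ≤ (Submodule.span K {M p}).comap (M - s • 1) := fun w hw => by
      rw [Submodule.mem_comap, RegUnipProd.sub_smul_one_apply]
      exact hcomap s ⟨w, hw⟩ (by rw [hs]; rfl)
    have hne : (Submodule.span K {M p}).comap (M - s • 1) ≠ ⊤ := fun h => by
      have hp' : p ∈ (Submodule.span K {M p}).comap (M - s • 1) := h ▸ Submodule.mem_top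
      obtain ⟨a, ha⟩ := Submodule.mem_span_singleton.1 (Submodule.mem_comap.1 hp')
      rw [RegUnipProd.sub_smul_one_apply, hMq, smul_smul] at ha
      have := (hind s (a * (e * e) - e * e) (by rw [sub_smul, ha]; abel)).1
      exact hs0 this
    have heq : W = (Submodule.span K {M p}).comap (M - s • 1) := by
      refine Submodule.eq_of_le_of_finrank_le hle ?_
      have := Submodule.finrank_lt hne
      omega
    have hbad : Bad s := by
      refine ⟨hs1, ?_⟩
      have h1 := RegUnipProd.finrank_comap_le (M - s • 1) (Submodule.span K {M p})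
      rw [← heq, hWfin] at h1
      have := RegUnipProd.finrank_span_singleton_le (K := K) (M p)
      show j ≤ finrank K (LinearMap.ker (M - s • 1)) + 1
      omega
    obtain ⟨x, hx, hxl⟩ := hlB s hbad
    refine hf x hxl (LinearMap.mem_ker.1 ?_)
    show x ∈ W
    rw [heq, Submodule.mem_comap, LinearMap.mem_ker.1 hx]
    exact Submodule.zero_mem _
  haveI : Nontrivial W := Module.nontrivial_of_finrank_pos (R := K) (by omega)
  obtain ⟨c, hc⟩ := exists_ne (0 : W)
  obtain ⟨b, hb, -⟩ := RegUnipProd.sep (p := (⊥ : Submodule K W)) (x := c) (by simpa using hc)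
  obtain ⟨i, hi⟩ : ∃ i, j = i + 1 := ⟨j - 1, by omega⟩
  obtain ⟨L', U', hLU, hL', hU', hLc, v', hUv⟩ := RegUnipProd.factor_aux h4 i G (hWfin.trans hi) hdetG
    (Or.inr ⟨hrG, hGns⟩) c b hc (fun h => by simp [h] at hb)
  have rL' : RegL L' (List.replicate j 1) := regL_unipotent hWfin (hi ▸ hL') fun _ h => hLc (by
    rw [show i = j - 1 by omega, h, LinearMap.zero_apply])
  have rU' : RegL U' (List.replicate j 1) := regL_unipotent hWfin (hi ▸ hU') fun _ h => hUv (by
    rw [show i = j - 1 by omega, h, LinearMap.zero_apply, map_zero])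
  let L : Module.End K V := f.smulRight (e⁻¹ • M p) + W.subtype ∘ₗ L' ∘ₗ π
  let U : Module.End K V := (e • f + e • (β ∘ₗ π)).smulRight p + W.subtype ∘ₗ U' ∘ₗ π
  have rline : RegL (e • 1 : Module.End K K) [e] := by
    refine ⟨by simp, by simp, fun r v w _ _ hw => Submodule.mem_span_singleton.2 ⟨v / w, ?_⟩⟩
    rw [smul_eq_mul, div_mul_cancel₀ v hw]
  have one_of : ∀ {X : Module.End K W}, RegL X (List.replicate j 1) →
      ∀ (s : K) (w : W), X w = s • w → w ≠ 0 → s = 1 := fun hX s w h hw =>
    List.eq_of_mem_replicate (hX.eig_mem h hw)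
  refine ⟨L, U, LinearMap.ext fun v => ?_, ?_, ?_⟩
  · have hfU : f (U v) = e * f v + e * β (π v) := by simp [U, hfp, hfW]
    have hπU : π (U v) = U' (π v) := by simp [U, hπp, hπw]
    show M v = L (U v)
    simp only [L, LinearMap.add_apply, LinearMap.smulRight_apply, LinearMap.comp_apply, Submodule.coe_subtype, hfU, hπU]
    rw [← Module.End.mul_apply L' U', ← hLU, hG, smul_smul]
    conv_lhs => rw [hv v, map_add, map_smul]
    rw [show (e * f v + e * β (π v)) * e⁻¹ = f v + β (π v) by field_simp]
    module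
  · refine (RegL.glue rL' rline W.subtype f (Submodule.injective_subtype W) (fun t => ⟨t • p, by simp [hfp]⟩)
      (by rw [Submodule.range_subtype, hW]) (fun w => ?_) (fun v => ?_) ?_).perm (List.perm_append_singleton _ _)
    · simp [L, hfW, hπw]
    · simp [L, hfM, hfW]; field_simp
    · intro s v w hLv hπv hw
      by_contra hw0
      obtain rfl := one_of rL' s w hw hw0
      have := congrArg f hLv
      simp [L, hfM, hfW] at this
      field_simp at this
      exact he1 this
  · refine (RegL.glue rline rU' (LinearMap.toSpanSingleton K V p) π (fun a b h => ?_)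
      (fun w => ⟨w, hπw w⟩) ?_ (fun a => ?_) (fun v => ?_) ?_).perm (by simp)
    · have := congrArg f h; simpa [hfp] using this
    · refine le_antisymm (by rintro _ ⟨a, rfl⟩; simp [hπp]) fun v hv' => ⟨f v, ?_⟩
      have := hv v
      rw [LinearMap.mem_ker.1 hv', Submodule.coe_zero, add_zero] at this
      simpa using this.symm
    · simp [U, hfp, hπp, smul_smul, mul_comm]
    · simp [U, hπp, hπw]
    · intro s v a hUv' hπv ha
      by_contra ha0
      obtain rfl : s = e := by
        have := ha
        simp at this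
        rcases this with h | h
        · exact h.symm
        · exact absurd h ha0
      have := congrArg π hUv'
      simp [U, hπp, hπw] at this
      exact he1 (one_of rU' _ (π v) this hπv)

end CfsgLib.PSLCover
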