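import Cfsg.Agent.Lib.PSLCover.Coord
import Cfsg.Agent.Lib.PSLCover.Eigen
import Cfsg.Agent.Lib.PSLCover.LUOne

/-! Two conjugates carrying one subspace to another. -/

set_option autoImplicit false
set_option linter.unusedSectionVars false

namespace CfsgLib.PSLCover

open Module LinearMap

universe u v

variable {K : Type u} [Field K] {V : Type v} [AddCommGroup V] [Module K V] [FiniteDimensional K V]

theorem exists_off_two {S T : Submodule K V} (hS : S ≠ ⊤) (hT : T ≠ ⊤) : ∃ v, v ∉ S ∧ v ∉ T := by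
  obtain ⟨a, ha⟩ : ∃ a, a ∉ S := by by_contra h; push Not at h; exact hS (Submodule.eq_top_iff'.2 h)
  obtain ⟨b, hb⟩ : ∃ b, b ∉ T := by by_contra h; push Not at h; exact hT (Submodule.eq_top_iff'.2 h)
  by_cases ha' : a ∈ T
  · by_cases hb' : b ∈ S
    · exact ⟨a + b, fun h => ha (by simpa using sub_mem h hb'), fun h => hb (by simpa using sub_mem h ha')⟩
    · exact ⟨b, hb', hb⟩
  · exact ⟨a, ha, ha'⟩

/-- Without eigenvalues some vector and its image are independent modulo a small subspace. -/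
theorem exists_indep_image {x : Module.End K V} (hno : ∀ (a : K) (v : V), x v = a • v → v = 0) {S : Submodule K V}
    (hS : finrank K S + 2 ≤ finrank K V) : ∃ v, ∀ a b : K, a • v + b • x v ∈ S → a = 0 ∧ b = 0 := by
  have hsum := Submodule.finrank_quotient_add_finrank S
  have hQ : 2 ≤ finrank K (V ⧸ S) := by omega
  set α := S.mkQ with hα
  by_contra hc
  push Not at hc
  have dep : ∀ v, α v ≠ 0 → α (x v) ∈ Submodule.span K {α v} := fun v hv => by
    obtain ⟨a, b, hab, hne⟩ := hc v
    have h0 : a • α v + b • α (x v) = 0 := by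
      rw [← map_smul, ← map_smul, ← map_add]
      exact (Submodule.Quotient.mk_eq_zero S).2 hab
    have hb : b ≠ 0 := fun e => by
      rw [e, zero_smul, add_zero, smul_eq_zero] at h0
      exact hne (h0.resolve_right hv) e
    refine Submodule.mem_span_singleton.2 ⟨-(b⁻¹ * a), ?_⟩
    rw [neg_smul, mul_smul, eq_neg_of_add_eq_zero_left h0, smul_neg, neg_neg, smul_smul, inv_mul_cancel₀ hb, one_smul]
  have hker : ∀ k, α k = 0 → α (x k) = 0 := fun k hk => by
    by_contra hne
    obtain ⟨q, hq⟩ : ∃ q, q ∉ Submodule.span K {α (x k)} := by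
      by_contra h; push Not at h
      have := finrank_span_singleton (K := K) hne
      rw [Submodule.eq_top_iff'.2 h, finrank_top] at this
      omega
    obtain ⟨v, rfl⟩ := S.mkQ_surjective q
    have hv : α v ≠ 0 := fun e => hq (by rw [← hα, e]; exact zero_mem _)
    have h1 := dep v hv
    have h2 := dep (v + k) (by rwa [map_add, hk, add_zero])
    rw [map_add, hk, add_zero, map_add, map_add] at h2
    obtain ⟨c, hc⟩ := Submodule.mem_span_singleton.1 ((Submodule.add_mem_iff_right _ h1).1 h2)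
    rcases eq_or_ne c 0 with rfl | hc0
    · exact hne (by rw [← hc, zero_smul])
    · exact hq (Submodule.mem_span_singleton.2 ⟨c⁻¹, by rw [← hc, smul_smul, inv_mul_cancel₀ hc0, one_smul]⟩)
  let y : Module.End K (V ⧸ S) := S.mapQ S x fun v hv =>
    (Submodule.Quotient.mk_eq_zero S).1 (hker v ((Submodule.Quotient.mk_eq_zero S).2 hv))
  obtain ⟨c, hc'⟩ := LinearMap.exists_eq_smul_id_of_forall_notLinearIndependent (f := y) (fun q hli => by
    obtain ⟨v, rfl⟩ := S.mkQ_surjective q
    rw [LinearIndependent.pair_iff] at hli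
    by_cases hv : α v = 0
    · exact one_ne_zero (hli 1 0 (by rw [← hα, hv]; simp)).1
    obtain ⟨a, ha⟩ := Submodule.mem_span_singleton.1 (dep v hv)
    have hy : y (S.mkQ v) = a • α v := by rw [ha]; rfl
    exact one_ne_zero (hli (-a) 1 (by rw [hy]; simp [hα])).2)
  have hsurj : Function.Surjective (x - c • (1 : Module.End K V) : Module.End K V) :=
    LinearMap.injective_iff_surjective.1 ((injective_iff_map_eq_zero _).2 fun z hz =>
      hno c z (RegUnipProd.mem_eigKer.1 (LinearMap.mem_ker.2 hz)))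
  obtain ⟨q, hq⟩ : ∃ q, q ∉ S := by
    by_contra h; push Not at h
    have := congrArg (fun p : Submodule K V => finrank K p) (Submodule.eq_top_iff'.2 h)
    simp at this
    omega
  obtain ⟨v, rfl⟩ := hsurj q
  refine hq ((Submodule.Quotient.mk_eq_zero S).1 ?_)
  rw [RegUnipProd.sub_smul_one_apply, Submodule.Quotient.mk_sub, Submodule.Quotient.mk_smul]
  have := LinearMap.congr_fun hc' (S.mkQ v)
  rw [show y (S.mkQ v) = S.mkQ (x v) from rfl] at this
  simp only [Submodule.mkQ_apply, LinearMap.smul_apply, Module.End.one_apply, LinearMap.id_apply] at this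
  rw [this, sub_self]

theorem exists_P {x : Module.End K V} (hno : ∀ (a : K) (v : V), x v = a • v → v = 0) :
    ∀ d : ℕ, d + d ≤ finrank K V → ∃ p : Fin d → V, LinearIndependent K (Sum.elim p fun i => x (p i)) := by
  classical
  intro d
  induction d with
  | zero => exact fun _ => ⟨Fin.elim0, linearIndependent_empty_type⟩
  | succ d ih =>
    intro hd
    obtain ⟨p, hp⟩ := ih (by omega)
    obtain ⟨v, hv⟩ := exists_indep_image hno (S := Submodule.span K (Set.range (Sum.elim p fun i => x (p i)))) (by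
      rw [finrank_span_eq_card hp]
      simp; omega)
    refine ⟨Fin.cons v p, ?_⟩
    rw [Fintype.linearIndependent_iff]
    intro g hg
    rw [Fintype.sum_sum_type, Fin.sum_univ_succ, Fin.sum_univ_succ] at hg
    simp only [Sum.elim_inl, Sum.elim_inr, Fin.cons_zero, Fin.cons_succ] at hg
    set R := (∑ i : Fin d, g (Sum.inl i.succ) • p i) + ∑ i : Fin d, g (Sum.inr i.succ) • x (p i) with hR
    have hmem : R ∈ Submodule.span K (Set.range (Sum.elim p fun i => x (p i))) :=
      add_mem (sum_mem fun i _ => Submodule.smul_mem _ _ (Submodule.subset_span ⟨Sum.inl i, rfl⟩))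
        (sum_mem fun i _ => Submodule.smul_mem _ _ (Submodule.subset_span ⟨Sum.inr i, rfl⟩))
    have e : g (Sum.inl 0) • v + g (Sum.inr 0) • x v = -R := by rw [hR]; linear_combination (norm := module) hg
    obtain ⟨h0, h0'⟩ := hv _ _ (e ▸ neg_mem hmem)
    rw [h0, h0', zero_smul, zero_smul, add_zero, zero_eq_neg] at e
    have := Fintype.linearIndependent_iff.1 hp (fun i => Sum.elim (fun j => g (Sum.inl j.succ)) (fun j => g (Sum.inr j.succ)) i)
      (by rw [Fintype.sum_sum_type]; exact e)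
    rintro (i | i) <;> refine Fin.cases ?_ (fun j => ?_) i
    exacts [h0, this (Sum.inl j), h0', this (Sum.inr j)]

theorem exists_common {d : ℕ} (hd : d + d ≤ finrank K V) {w z : Fin d → V} (hw : LinearIndependent K w)
    (hz : LinearIndependent K z) :
    ∃ u : Fin d → V, LinearIndependent K (Sum.elim w u) ∧ LinearIndependent K (Sum.elim u z) := by
  classical
  suffices ∀ j ≤ d, ∃ u : Fin j → V, LinearIndependent K (Sum.elim w u) ∧ LinearIndependent K (Sum.elim z u) by
    obtain ⟨u, h1, h2⟩ := this d le_rfl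
    refine ⟨u, h1, ?_⟩
    rw [show Sum.elim u z = Sum.elim z u ∘ Equiv.sumComm (Fin d) (Fin d) by funext i; cases i <;> rfl]
    exact h2.comp _ (Equiv.injective _)
  intro j
  induction j with
  | zero =>
    intro _
    have key : ∀ {a : Fin d → V}, LinearIndependent K a → LinearIndependent K (Sum.elim a (Fin.elim0 : Fin 0 → V)) := by
      intro a ha
      rw [show Sum.elim a (Fin.elim0 : Fin 0 → V) = a ∘ Equiv.sumEmpty (Fin d) (Fin 0) by
        funext i; rcases i with i | i; rfl; exact i.elim0]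
      exact ha.comp _ (Equiv.injective _)
    exact ⟨Fin.elim0, key hw, key hz⟩
  | succ j ih =>
    intro hj
    obtain ⟨u, h1, h2⟩ := ih (by omega)
    have hne : ∀ {a : Fin d → V}, LinearIndependent K (Sum.elim a u) →
        Submodule.span K (Set.range (Sum.elim a u)) ≠ ⊤ := fun {a} h e => by
      have := finrank_span_eq_card h
      rw [e, finrank_top] at this
      simp at this
      omega
    obtain ⟨v, hv1, hv2⟩ := exists_off_two (hne h1) (hne h2)
    have ext : ∀ {a : Fin d → V}, LinearIndependent K (Sum.elim a u) → v ∉ Submodule.span K (Set.range (Sum.elim a u)) →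
        LinearIndependent K (Sum.elim a (Fin.cons v u : Fin (j + 1) → V)) := by
      intro a h hv
      rw [Fintype.linearIndependent_iff]
      intro g hg
      rw [Fintype.sum_sum_type, Fin.sum_univ_succ] at hg
      simp only [Sum.elim_inl, Sum.elim_inr, Fin.cons_zero, Fin.cons_succ] at hg
      have h0 : g (Sum.inr 0) = 0 := by
        by_contra h0
        refine hv ((Submodule.smul_mem_iff _ h0).1 ?_)
        rw [show g (Sum.inr 0) • v = -((∑ i, g (Sum.inl i) • a i) + ∑ i : Fin j, g (Sum.inr i.succ) • u i) by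
          linear_combination (norm := module) hg]
        exact neg_mem (add_mem (sum_mem fun i _ => Submodule.smul_mem _ _ (Submodule.subset_span ⟨Sum.inl i, rfl⟩))
          (sum_mem fun i _ => Submodule.smul_mem _ _ (Submodule.subset_span ⟨Sum.inr i, rfl⟩)))
      rw [h0, zero_smul, zero_add] at hg
      have := Fintype.linearIndependent_iff.1 h (fun i => Sum.elim (fun i => g (Sum.inl i)) (fun i => g (Sum.inr i.succ)) i)
        (by rw [Fintype.sum_sum_type]; exact hg)
      rintro (i | i)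
      · exact this (Sum.inl i)
      · exact Fin.cases h0 (fun i => this (Sum.inr i)) i
    exact ⟨Fin.cons v u, ext h1 hv1, ext h2 hv2⟩

theorem bump {ι : Type*} [Fintype ι] [DecidableEq ι] (B : Basis ι K V) (e : V ≃ₗ[K] V) (i : ι) (v : V)
    (h : 1 + B.repr (e.symm v) i ≠ 0) :
    ∃ e' : V ≃ₗ[K] V, (∀ j, e' (B j) = e (B j) + if j = i then v else 0) ∧
      LinearMap.det (e' : V →ₗ[K] V) = LinearMap.det (e : V →ₗ[K] V) * (1 + B.repr (e.symm v) i) := by
  let T : Module.End K V := 1 + (B.coord i).smulRight (e.symm v)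
  have hT : LinearMap.det T = 1 + B.repr (e.symm v) i := by rw [det_rankOne]; rfl
  obtain ⟨c, hc⟩ := (LinearMap.isUnit_iff_isUnit_det T).2 (isUnit_iff_ne_zero.2 (by rwa [hT]))
  let ce : V ≃ₗ[K] V := LinearMap.GeneralLinearGroup.toLinearEquiv c
  have hce : (ce : V →ₗ[K] V) = T := LinearMap.ext fun p => by
    show (c : Module.End K V) p = _
    rw [hc]
  refine ⟨ce ≪≫ₗ e, fun j => ?_, ?_⟩
  · rw [LinearEquiv.trans_apply, show ce (B j) = T (B j) from LinearMap.congr_fun hce (B j)]
    by_cases hji : j = i <;> simp [T, hji, Finsupp.single_apply]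
  · rw [show ((ce ≪≫ₗ e : V ≃ₗ[K] V) : V →ₗ[K] V) = (e : V →ₗ[K] V) * (ce : V →ₗ[K] V) from rfl, map_mul, hce, hT]

/-- Two maps of determinant one through a common middle space. -/
theorem exists_route {d : ℕ} (hd0 : 1 ≤ d) (hd : d + d ≤ finrank K V) {x : Module.End K V} {p w z : Fin d → V}
    (hp : LinearIndependent K (Sum.elim p fun i => x (p i))) (hw : LinearIndependent K w) (hz : LinearIndependent K z)
    (hgen : d + d < finrank K V ∨ Submodule.span K (Set.range w) ≠ Submodule.span K (Set.range z)) :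
    ∃ e1 e2 : V ≃ₗ[K] V, LinearMap.det (e1 : V →ₗ[K] V) = 1 ∧ LinearMap.det (e2 : V →ₗ[K] V) = 1 ∧
      (∀ i, e1 (p i) = w i) ∧ (∀ i, e2 (x (p i)) = z i) ∧ ∀ i, e1 (x (p i)) = e2 (p i) := by
  classical
  obtain ⟨u, hwu, huz⟩ := exists_common hd hw hz
  rcases Nat.lt_or_ge (d + d) (finrank K V) with hlt | hge
  · have hsum : ∀ {a : Fin d ⊕ Fin d → V}, LinearIndependent K a → LinearIndependent K (a ∘ finSumFinEquiv.symm) :=
      fun h => h.comp _ (Equiv.injective _)
    obtain ⟨e1, hd1, he1⟩ := exists_move hlt (hsum hp) (hsum hwu)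
    obtain ⟨e2, hd2, he2⟩ := exists_move hlt (hsum hp) (hsum huz)
    have g1 : ∀ s, e1 (Sum.elim p (fun i => x (p i)) s) = Sum.elim w u s := fun s => by
      simpa using he1 (finSumFinEquiv s)
    have g2 : ∀ s, e2 (Sum.elim p (fun i => x (p i)) s) = Sum.elim u z s := fun s => by
      simpa using he2 (finSumFinEquiv s)
    exact ⟨e1, e2, hd1, hd2, fun i => g1 (Sum.inl i), fun i => g2 (Sum.inr i),
      fun i => (g1 (Sum.inr i)).trans (g2 (Sum.inl i)).symm⟩
  replace hgen := hgen.resolve_left (not_lt.2 hge)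
  haveI : Nonempty (Fin d ⊕ Fin d) := ⟨Sum.inl ⟨0, hd0⟩⟩
  have hcard : Fintype.card (Fin d ⊕ Fin d) = finrank K V := by simp; omega
  let B := basisOfLinearIndependentOfCardEqFinrank hp hcard
  have hB : ∀ s, B s = Sum.elim p (fun i => x (p i)) s := fun s => by simp [B]
  let e1 := B.equiv (basisOfLinearIndependentOfCardEqFinrank hwu hcard) (Equiv.refl _)
  let e2 := B.equiv (basisOfLinearIndependentOfCardEqFinrank huz hcard) (Equiv.refl _)
  have g1 : ∀ s, e1 (B s) = Sum.elim w u s := fun s => by simp [e1]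
  have g2 : ∀ s, e2 (B s) = Sum.elim u z s := fun s => by simp [e2]
  obtain ⟨i0⟩ : Nonempty (Fin d) := ⟨⟨0, hd0⟩⟩
  set D1 := LinearMap.det (e1 : V →ₗ[K] V) with hD1
  have hD10 : D1 ≠ 0 := (LinearEquiv.isUnit_det' e1).ne_zero
  have hs1 : B.repr (e1.symm ((D1⁻¹ - 1) • u i0)) (Sum.inr i0) = D1⁻¹ - 1 := by
    rw [map_smul, show e1.symm (u i0) = B (Sum.inr i0) by rw [LinearEquiv.symm_apply_eq, g1]; rfl]
    simp
  have hs2 : B.repr (e2.symm ((D1⁻¹ - 1) • u i0)) (Sum.inl i0) = D1⁻¹ - 1 := by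
    rw [map_smul, show e2.symm (u i0) = B (Sum.inl i0) by rw [LinearEquiv.symm_apply_eq, g2]; rfl]
    simp
  obtain ⟨f1, hf1, hf1d⟩ := bump B e1 (Sum.inr i0) ((D1⁻¹ - 1) • u i0) (by rw [hs1]; simpa using hD10)
  obtain ⟨f2, hf2, hf2d⟩ := bump B e2 (Sum.inl i0) ((D1⁻¹ - 1) • u i0) (by rw [hs2]; simpa using hD10)
  rw [hs1, add_sub_cancel, mul_inv_cancel₀ hD10] at hf1d
  have k1 : ∀ i, f1 (B (Sum.inl i)) = w i := fun i => by simp [hf1, g1]
  have k2 : ∀ i, f2 (B (Sum.inr i)) = z i := fun i => by simp [hf2, g2]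
  have k3 : ∀ i, f1 (B (Sum.inr i)) = f2 (B (Sum.inl i)) := fun i => by simp [hf1, hf2, g1, g2]
  obtain ⟨i, j, hij⟩ : ∃ i j, B.repr (f2.symm (w j)) (Sum.inl i) ≠ 0 := by
    by_contra h
    push Not at h
    refine hgen (Submodule.eq_of_le_of_finrank_eq (Submodule.span_le.2 ?_)
      (by rw [finrank_span_eq_card hw, finrank_span_eq_card hz]))
    rintro _ ⟨j, rfl⟩
    rw [SetLike.mem_coe, show w j = f2 (f2.symm (w j)) by simp, ← B.sum_repr (f2.symm (w j)), map_sum,
      Fintype.sum_sum_type]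
    refine add_mem (sum_mem fun i _ => by rw [h i j, zero_smul, map_zero]; exact zero_mem _) (sum_mem fun i _ => ?_)
    rw [map_smul, k2]
    exact Submodule.smul_mem _ _ (Submodule.subset_span ⟨i, rfl⟩)
  set D2 := LinearMap.det (f2 : V →ₗ[K] V) with hD2
  have hD20 : D2 ≠ 0 := (LinearEquiv.isUnit_det' f2).ne_zero
  set t := (D2⁻¹ - 1) / B.repr (f2.symm (w j)) (Sum.inl i) with ht
  have ht1 : B.repr (f1.symm (t • w j)) (Sum.inr i) = 0 := by
    rw [map_smul, show f1.symm (w j) = B (Sum.inl j) by rw [LinearEquiv.symm_apply_eq, k1]]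
    simp
  have ht2 : B.repr (f2.symm (t • w j)) (Sum.inl i) = D2⁻¹ - 1 := by
    rw [map_smul, map_smul, Finsupp.smul_apply, smul_eq_mul, ht, div_mul_cancel₀ _ hij]
  obtain ⟨h1, hh1, hh1d⟩ := bump B f1 (Sum.inr i) (t • w j) (by rw [ht1]; simp)
  obtain ⟨h2, hh2, hh2d⟩ := bump B f2 (Sum.inl i) (t • w j) (by rw [ht2]; simpa using hD20)
  refine ⟨h1, h2, by rw [hh1d, hf1d, ht1, add_zero, mul_one], by rw [hh2d, ht2, add_sub_cancel, ← hD2, mul_inv_cancel₀ hD20],
    fun k => ?_, fun k => ?_, fun k => ?_⟩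
  · have := hh1 (Sum.inl k); rw [k1] at this; simpa [hB] using this
  · have := hh2 (Sum.inr k); rw [k2] at this; simpa [hB] using this
  · have h1' := hh1 (Sum.inr k); have h2' := hh2 (Sum.inl k)
    rw [k3] at h1'
    simp [hB] at h1' h2' ⊢
    rw [h1', h2']

end CfsgLib.PSLCover
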