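import Cfsg.Agent.Lib.PSLCover.QuadFour

/-! Dimension four, annihilated by a split quadratic. -/

set_option autoImplicit false
set_option linter.unusedSectionVars false

namespace CfsgLib.PSLCover

open Module LinearMap

universe u v

variable {K : Type u} [Field K] {V : Type v} [AddCommGroup V] [Module K V] [FiniteDimensional K V]

theorem quad_frame (hn : finrank K V = 4) {x : Module.End K V} {c d : K}
    (hq : (x - c • 1) * (x - d • 1) = 0) (hp : ¬ Pseudo x) :
    ∃ B : Basis (Fin 4) K V, x (B 0) = B 1 ∧ x (B 2) = B 3 := by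
  classical
  set C : Module.End K V := x - c • 1 with hC
  set D : Module.End K V := x - d • 1 with hD
  have hCD : ∀ v, C (D v) = 0 := fun v => LinearMap.congr_fun hq v
  have hDC : ∀ v, D (C v) = 0 := fun v => by
    rw [← hCD v, hC, hD]; simp only [RegUnipProd.sub_smul_one_apply, map_sub, map_smul]; module
  have r2 : ∀ b : K, 2 ≤ finrank K (LinearMap.range (x - b • 1)) := fun b => by
    by_contra h; exact hp ⟨b, by omega⟩
  have hk : ∀ {S T : Module.End K V}, (∀ v, S (T v) = 0) → 2 ≤ finrank K (LinearMap.range S) →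
      2 ≤ finrank K (LinearMap.range T) → LinearMap.range T = LinearMap.ker S ∧ finrank K (LinearMap.range T) = 2 := by
    intro S T h hS hT
    have hle : LinearMap.range T ≤ LinearMap.ker S := by rintro _ ⟨v, rfl⟩; exact LinearMap.mem_ker.2 (h v)
    have := LinearMap.finrank_range_add_finrank_ker S
    have := Submodule.finrank_mono hle
    exact ⟨Submodule.eq_of_le_of_finrank_eq hle (by omega), by omega⟩
  obtain ⟨hkerC, hD2⟩ := hk hCD (r2 c) (r2 d)
  obtain ⟨hkerD, hC2⟩ := hk hDC (r2 d) (r2 c)
  let bC := Module.finBasisOfFinrankEq K _ hC2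
  let bD := Module.finBasisOfFinrankEq K _ hD2
  -- preimages
  obtain ⟨p, hp0, hp1⟩ : ∃ p : Fin 2 → V, LinearIndependent K (fun i => C (p i)) ∧
      (c ≠ d → LinearIndependent K fun i => D (p i)) := by
    have hbC : LinearIndependent K fun i => (bC i : V) :=
      bC.linearIndependent.map' (LinearMap.range C).subtype (Submodule.ker_subtype _)
    by_cases hcd : c = d
    · choose p hp using fun i => LinearMap.mem_range.1 (bC i).2
      exact ⟨p, by simp only [hp]; exact hbC, fun h => absurd hcd h⟩
    · have hbD : LinearIndependent K fun i => (bD i : V) :=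
        bD.linearIndependent.map' (LinearMap.range D).subtype (Submodule.ker_subtype _)
      have hne : d - c ≠ 0 := sub_ne_zero.2 (Ne.symm hcd)
      have e1 : ∀ i, C (bD i : V) = 0 := fun i => LinearMap.mem_ker.1 (hkerC ▸ (bD i).2)
      have e2 : ∀ i, D (bC i : V) = 0 := fun i => LinearMap.mem_ker.1 (hkerD ▸ (bC i).2)
      refine ⟨fun i => (bC i : V) + (bD i : V), ?_, fun _ => ?_⟩
      · have : (fun i => C ((bC i : V) + (bD i : V))) = fun i => (d - c) • (bC i : V) := funext fun i => by
          have := e2 i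
          rw [hD, RegUnipProd.sub_smul_one_apply, sub_eq_zero] at this
          rw [map_add, e1, add_zero]
          show (x - c • (1 : Module.End K V)) _ = _
          rw [RegUnipProd.sub_smul_one_apply, this, sub_smul]
        rw [this]
        exact hbC.units_smul (fun _ => Units.mk0 _ hne)
      · have : (fun i => D ((bC i : V) + (bD i : V))) = fun i => (c - d) • (bD i : V) := funext fun i => by
          have := e1 i
          rw [hC, RegUnipProd.sub_smul_one_apply, sub_eq_zero] at this
          rw [map_add, e2, zero_add]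
          show (x - d • (1 : Module.End K V)) _ = _
          rw [RegUnipProd.sub_smul_one_apply, this, sub_smul]
        rw [this]
        exact hbD.units_smul (fun _ => Units.mk0 _ (sub_ne_zero.2 hcd))
  have pairli : ∀ {h : Fin 2 → V}, LinearIndependent K h → ∀ a b : K, a • h 0 + b • h 1 = 0 → a = 0 ∧ b = 0 :=
    fun {h} hh a b e => by
      have := Fintype.linearIndependent_iff.1 hh ![a, b] (by simpa [Fin.sum_univ_two] using e)
      exact ⟨this 0, this 1⟩
  have li : LinearIndependent K ![p 0, x (p 0), p 1, x (p 1)] := by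
    rw [Fintype.linearIndependent_iff]
    intro g hg
    simp [Fin.sum_univ_four] at hg
    have hx : ∀ v, x v = C v + c • v := fun v => by rw [hC, RegUnipProd.sub_smul_one_apply, sub_add_cancel]
    -- apply `D`
    have hDx : ∀ v, D (x v) = c • D v := fun v => by rw [hx, map_add, map_smul, hDC, zero_add]
    have h1 := congrArg D hg
    simp only [map_add, map_smul, hDx, map_zero] at h1
    have h1' : (g 0 + g 1 * c) • D (p 0) + (g 2 + g 3 * c) • D (p 1) = 0 := by
      linear_combination (norm := module) h1
    have hz : g 0 + g 1 * c = 0 ∧ g 2 + g 3 * c = 0 := by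
      by_cases hcd : c = d
      · have e : ∀ v, D v = C v := fun v => by rw [hC, hD, hcd]
        rw [e, e] at h1'
        exact pairli hp0 _ _ h1'
      · exact pairli (hp1 hcd) _ _ h1'
    have h2 : g 1 • C (p 0) + g 3 • C (p 1) = 0 := by
      rw [show g 0 = -(g 1 * c) by linear_combination hz.1, show g 2 = -(g 3 * c) by linear_combination hz.2,
        hx (p 0), hx (p 1)] at hg
      linear_combination (norm := module) hg
    obtain ⟨h3, h4⟩ : g 1 = 0 ∧ g 3 = 0 :=
      pairli hp0 _ _ h2
    intro i
    fin_cases i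
    exacts [by simpa [h3] using hz.1, h3, by simpa [h4] using hz.2, h4]
  exact ⟨basisOfLinearIndependentOfCardEqFinrank li (by simpa using hn.symm), by simp, by simp⟩

/-- Four conjugates with one regular pair and no common eigenvector. -/
theorem div_four {a b a' b' : Module.End K V} (roots : List K) (hr : RegL (a * b) roots)
    (hcom : ∀ (r : K) (v : V), a v = r • v → b v = r • v → a' v = r • v → b' v = r • v → v = 0) :
    Div Set.univ [a, b, a', b'] := by
  refine ⟨fun r _ v hv => hcom r v (hv a (by simp)) (hv b (by simp)) (hv a' (by simp)) (hv b' (by simp)),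
    fun S hi he hn => ?_⟩
  by_contra hS
  obtain ⟨w0, hw0S, hw0⟩ := Submodule.exists_mem_ne_zero_of_ne_bot hS
  have hiS : ∀ v ∈ S, (a * b) v ∈ S := fun v hv => hi a (by simp) _ (hi b (by simp) v hv)
  have iter : ∀ l : List K, ∀ w ∈ S, (l.map fun r => a * b - r • 1).prod w ∈ S := by
    intro l
    induction l with
    | nil => intro w hw; simpa using hw
    | cons r l ih =>
      intro w hw
      rw [List.map_cons, List.prod_cons, Module.End.mul_apply, RegUnipProd.sub_smul_one_apply]
      exact S.sub_mem (hiS _ (ih w hw)) (S.smul_mem r (ih w hw))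
  have key : ∀ l : List K, ∀ w : V, ((l.map fun r => a * b - r • 1).prod) w = 0 → w ∈ S → w ≠ 0 →
      ∃ (r : K) (w' : V), w' ∈ S ∧ w' ≠ 0 ∧ (a * b) w' = r • w' := by
    intro l
    induction l with
    | nil => intro w h _ hw; exact absurd (by simpa using h) hw
    | cons r l ih =>
      intro w h hwS hw
      rw [List.map_cons, List.prod_cons, Module.End.mul_apply] at h
      by_cases h0 : (l.map fun r => a * b - r • 1).prod w = 0
      · exact ih w h0 hwS hw
      exact ⟨r, _, iter l w hwS, h0, RegUnipProd.mem_eigKer.1 (LinearMap.mem_ker.2 h)⟩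
  obtain ⟨r, w, hwS, hw, hwe⟩ := key roots w0 (by rw [hr.2.1, LinearMap.zero_apply]) hw0S hw0
  have hab : ∀ v ∈ S, a v = b v := fun v hv => he a (by simp) b (by simp) v hv
  have haw : (a * b) (a w) = r • a w := by
    rw [Module.End.mul_apply, ← hab _ (hi a (by simp) w hwS)]
    have : a (a w) = r • w := by rw [hab w hwS]; exact hwe
    rw [this, map_smul]
  obtain ⟨s, hs⟩ := Submodule.mem_span_singleton.1 (hr.2.2 r (a w) w haw hwe hw)
  exact hw (hn s w hwS fun f hf => (he f hf a (by simp) w hwS).trans hs.symm)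

/-- The split quadratic case. -/
theorem good_quad (h4 : ∃ k : Fin 4 → K, Function.Injective k) {x g : Module.End K V} (hQ : Quad x)
    (hdx : LinearMap.det x ≠ 0) (hp : ¬ Pseudo x) (hg : ∀ s : K, g ≠ s • 1)
    (hdet : LinearMap.det g = LinearMap.det x ^ finrank K V) :
    Good ({1} : Set K) Set.univ x g (finrank K V) := by
  classical
  obtain ⟨hn, c, d, hq⟩ := hQ
  rw [hn] at hdet ⊢
  obtain ⟨B, b01, b23⟩ := quad_frame hn hq hp
  have hx : ∀ v, x (x v) = (c + d) • x v - (c * d) • v := fun v => by
    have := LinearMap.congr_fun hq v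
    simp only [Module.End.mul_apply, RegUnipProd.sub_smul_one_apply, map_sub, map_smul, LinearMap.zero_apply] at this
    linear_combination (norm := module) this
  set p1 := B 0 with hp1
  set q1 := B 1 with hq1
  set p2 := B 2 with hp2
  set q2 := B 3 with hq2
  have x1 : x q1 = (c + d) • q1 - (c * d) • p1 := by rw [← b01, hx]
  have x3 : x q2 = (c + d) • q2 - (c * d) • p2 := by rw [← b23, hx]
  have hdetx : LinearMap.det x = c * d * (c * d) := by
    have hm : LinearMap.toMatrix B B x = !![0, -(c * d), 0, 0; 1, c + d, 0, 0; 0, 0, 0, -(c * d); 0, 0, 1, c + d] := by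
      ext i j
      rw [LinearMap.toMatrix_apply]
      fin_cases j <;> simp [← hp1, ← hq1, ← hp2, ← hq2, b01, b23, x1, x3] <;> fin_cases i <;>
        simp [hp1, hq1, hp2, hq2, Finsupp.single_apply]
    rw [← LinearMap.det_toMatrix B, hm, Matrix.det_succ_row_zero]
    simp [Fin.sum_univ_succ, Matrix.det_fin_three, Fin.succAbove]
  have hc : c ≠ 0 := fun e => hdx (by rw [hdetx, e]; ring)
  have hd : d ≠ 0 := fun e => hdx (by rw [hdetx, e]; ring)
  have hcd : c * d ≠ 0 := mul_ne_zero hc hd
  obtain ⟨η, hη0, hη1, hη2, hηc⟩ : ∃ η : K, η ≠ 0 ∧ η ≠ 1 ∧ η * η ≠ 1 ∧ (c * c ≠ d * d → c * d * η = c * c) := by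
    by_cases h : c * c = d * d
    · obtain ⟨s, hs0, hs⟩ := exists_ne_four h4 (1 : K)
      exact ⟨s, hs0, fun e => hs (by rw [e, one_mul]), hs, fun h' => absurd h h'⟩
    · refine ⟨c / d, div_ne_zero hc hd, fun e => h (by rw [div_eq_one_iff_eq hd] at e; rw [e]), fun e => h ?_,
        fun _ => by field_simp⟩
      field_simp at e
      linear_combination e
  have hinv : η⁻¹ ≠ η := fun e => hη2 (by nth_rw 1 [← e]; exact inv_mul_cancel₀ hη0)
  have hinv1 : η⁻¹ ≠ 1 := fun e => hη1 (by simpa using congrArg Inv.inv e)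
  -- the second member of the pair
  obtain ⟨k, hk⟩ : ∃ k, k = η⁻¹ := ⟨_, rfl⟩
  obtain ⟨ν, hν⟩ : ∃ ν, ν = d * (1 - k) := ⟨_, rfl⟩
  have hν0 : ν ≠ 0 := hν ▸ mul_ne_zero hd (sub_ne_zero.2 (hk ▸ hinv1.symm))
  have hk0 : k ≠ 0 := hk ▸ inv_ne_zero hη0
  let P : Fin 4 → V := ![p1, ((c + d) * η) • p1 - η • q1, p2, (k * (c + d) + ν) • p2 - k • q2]
  let E0 : Module.End K V := B.constr K P
  have hE0 : ∀ i, E0 (B i) = P i := fun i => B.constr_basis K P i
  have hdE : LinearMap.det E0 = 1 := by
    rw [det_triangular B ![1, -η, 1, -k] fun i => ?_, Fin.prod_univ_four]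
    · simp [hk, hη0]
    · fin_cases i <;> simp only [hE0, P] <;> simp [← hp1, ← hq1, ← hp2, ← hq2]
      · exact Submodule.smul_mem _ _ (Submodule.mem_span_singleton_self _)
      · exact Submodule.smul_mem _ _ (Submodule.subset_span ⟨2, by simp, hp2.symm⟩)
  obtain ⟨Eu, hEu⟩ := (LinearMap.isUnit_iff_isUnit_det E0).2 (by rw [hdE]; exact isUnit_one)
  let E : V ≃ₗ[K] V := LinearMap.GeneralLinearGroup.toLinearEquiv Eu
  have hE : (E : V →ₗ[K] V) = E0 := LinearMap.ext fun v => by
    show (Eu : Module.End K V) v = _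
    rw [hEu]
  let y : Module.End K V := E.conj x
  have hyE : ∀ v, y (E v) = E (x v) := fun v => by simp [y, LinearEquiv.conj_apply]
  have hEP : ∀ i, E (B i) = P i := fun i => (LinearMap.congr_fun hE (B i)).trans (hE0 i)
  have hy : ConjIn ({1} : Set K) x y := ⟨E, by rw [Set.mem_singleton_iff, hE, hdE], hyE⟩
  have y0 : y (P 0) = P 1 := by rw [← hEP, hyE, ← hp1, b01, hq1, hEP]
  have y2 : y (P 2) = P 3 := by rw [← hEP, hyE, ← hp2, b23, hq2, hEP]
  have y1 : y (P 1) = (c + d) • P 1 - (c * d) • P 0 := by
    rw [← hEP 1, hyE, ← hq1, x1, map_sub, map_smul, map_smul, hq1, hp1, hEP, hEP]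
  have y3 : y (P 3) = (c + d) • P 3 - (c * d) • P 2 := by
    rw [← hEP 3, hyE, ← hq2, x3, map_sub, map_smul, map_smul, hq2, hp2, hEP, hEP]
  simp only [P, Matrix.cons_val_zero, Matrix.cons_val_one, Matrix.cons_val] at y0 y1 y2 y3
  have T0 : x (y p1) = (c * d * η) • p1 := by
    rw [y0, map_sub, map_smul, map_smul, b01, x1]
    match_scalars <;> ring
  have T1 : x (y q1) = ((c + d) * (c * d * η - c * d)) • p1 + (c * d * η⁻¹) • q1 := by
    have e1 : q1 = η⁻¹ • (((c + d) * η) • p1 - (((c + d) * η) • p1 - η • q1)) := by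
      match_scalars <;> field_simp <;> ring
    conv_lhs => rw [e1]
    rw [map_smul y, map_sub y, map_smul y, y0, y1]
    simp only [map_smul, map_sub, b01, x1]
    match_scalars <;> field_simp <;> ring
  have T2 : x (y p2) = (c * d - ν * c) • p2 + ν • q2 := by
    rw [y2, map_sub, map_smul, map_smul, b23, x3, hν]
    match_scalars <;> ring
  have T3 : x (y q2) = (-(ν * (c * c))) • p2 + (c * d + ν * c) • q2 := by
    have e1 : q2 = k⁻¹ • ((k * (c + d) + ν) • p2 - ((k * (c + d) + ν) • p2 - k • q2)) := by
      match_scalars <;> field_simp <;> ring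
    conv_lhs => rw [e1]
    rw [map_smul y, map_sub y, map_smul y, y2, y3]
    simp only [map_smul, map_sub, b23, x3, hν]
    match_scalars <;> field_simp <;> ring
  let f : ℕ → V := fun i => if i = 0 then p1 else if i = 1 then q1 else
    if i = 2 then ν • (q2 - c • p2) else p2
  let l : ℕ → K := fun i => if i = 0 then c * d * η else if i = 1 then c * d * η⁻¹ else c * d
  have h0 : f 0 = p1 := rfl
  have h1 : f 1 = q1 := by simp [f]
  have h2 : f 2 = ν • (q2 - c • p2) := by simp [f]
  have h3 : f 3 = p2 := by simp [f]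
  have d3 : x (y (f 3)) - (c * d) • f 3 - f 2 = 0 := by rw [h3, h2, T2]; module
  have key : RegL (x * y) [c * d * η, c * d * η⁻¹, c * d, c * d] := by
    have := regL_triangular (T := x * y) f l hn ?_ ?_ ?_
    · simpa [List.range_succ, l] using this
    · rw [eq_top_iff, ← B.span_eq, Submodule.span_le]
      have m : ∀ i < 4, f i ∈ Submodule.span K (f '' Set.Iio 4) := fun i hi => Submodule.subset_span ⟨i, hi, rfl⟩
      have m3 := m 3 (by omega)
      rw [h3] at m3
      rintro _ ⟨i, rfl⟩
      fin_cases i
      · exact m 0 (by omega)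
      · have := m 1 (by omega); rw [h1] at this; exact this
      · exact m3
      · have := add_mem ((Submodule.smul_mem_iff _ hν0).1 (h2 ▸ m 2 (by omega))) (Submodule.smul_mem _ c m3)
        simpa using this
    · intro i hi
      interval_cases i
      · simp [l, h0, T0]
      · simp only [l, Module.End.mul_apply, one_ne_zero, if_false, if_true, h1, T1, add_sub_cancel_right]
        exact Submodule.smul_mem _ _ (Submodule.subset_span ⟨0, by simp, rfl⟩)
      · have e : x (y (f 2)) - (c * d) • f 2 = 0 := by
          rw [h2]; simp only [map_smul, map_sub, T2, T3]; module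
        simp only [l, Module.End.mul_apply, show (2 : ℕ) ≠ 0 by omega, show (2 : ℕ) ≠ 1 by omega, if_false, e]
        exact zero_mem _
      · simp only [l, Module.End.mul_apply, show (3 : ℕ) ≠ 0 by omega, show (3 : ℕ) ≠ 1 by omega, if_false]
        rw [show x (y (f 3)) - (c * d) • f 3 = f 2 from sub_eq_zero.1 d3]
        exact Submodule.subset_span ⟨2, by simp, rfl⟩
    · intro i hi
      obtain rfl | rfl | rfl : i = 0 ∨ i = 1 ∨ i = 2 := by omega
      · refine Or.inl fun j hj => ?_
        obtain rfl : j = 0 := by omega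
        simp only [l, if_true, one_ne_zero, if_false, zero_add]
        exact fun e => hinv (mul_left_cancel₀ hcd e).symm
      · refine Or.inl fun j hj => ?_
        simp only [l, show (1 + 1 : ℕ) ≠ 0 by omega, show (1 + 1 : ℕ) ≠ 1 by omega, if_false]
        interval_cases j
        · simp [hcd, hη1]
        · simp [hcd, hη1]
      · refine Or.inr ⟨by simp [l], ?_⟩
        simp only [l, Module.End.mul_apply, show (2 + 1 : ℕ) ≠ 0 by omega, show (2 + 1 : ℕ) ≠ 1 by omega, if_false,
          show (2 + 1 : ℕ) = 3 from rfl, d3]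
        exact zero_mem _
  have hT : FullDet (x * y) := key.fullDet (List.Perm.refl _) (by simp [hcd, hη1, hinv.symm])
  obtain ⟨L0, U0, hM, hL0, hU0, hline1, hlineη⟩ := lu_eta h4 (j := 2) (by omega) hn (η := η⁻¹) (inv_ne_zero hη0) hinv1
    (fun e => hη2 (by simpa [mul_inv] using congrArg Inv.inv e)) (M := ((c * d) * (c * d))⁻¹ • g)
    (by rw [LinearMap.det_smul, hdet, hdetx, hn, inv_pow, inv_mul_cancel₀]; exact pow_ne_zero _ (mul_ne_zero hcd hcd))
    (fun s hs => hg ((c * d) * (c * d) * s) (by rw [mul_smul, ← hs, smul_inv_smul₀ (mul_ne_zero hcd hcd)]))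
  have conjL : ∀ {L : Module.End K V}, RegL L (η⁻¹ :: η⁻¹⁻¹ :: List.replicate 2 1) →
      ∃ e : V ≃ₗ[K] V, LinearMap.det (e : V →ₗ[K] V) = 1 ∧ ∀ v, ((c * d) • L) (e v) = e ((x * y) v) := by
    intro L hL
    have h := hL.smul hcd
    simp only [List.replicate, List.map_cons, List.map_nil, inv_inv, mul_one] at h
    exact ConjIn.of_full hT (key.isConj h (List.Perm.swap _ _ _))
  obtain ⟨e, hed, he⟩ := conjL hL0
  obtain ⟨e', hed', he'⟩ := conjL hU0
  have hcA : ∀ {z : Module.End K V} (e : V ≃ₗ[K] V), LinearMap.det (e : V →ₗ[K] V) = 1 → ConjIn ({1} : Set K) x z →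
      ConjIn ({1} : Set K) x (e.conj z) := fun e he hz =>
    hz.trans ⟨e, he, fun v => by simp [LinearEquiv.conj_apply]⟩
  have heq : ∀ {L : Module.End K V} (e : V ≃ₗ[K] V), (∀ v, L (e v) = e ((x * y) v)) → e.conj x * e.conj y = L :=
    fun e h => LinearMap.ext fun v => by
      obtain ⟨v, rfl⟩ := e.surjective v
      simp [LinearEquiv.conj_apply, h]
  refine ⟨[e.conj x, e.conj y, e'.conj x, e'.conj y], rfl, fun f hf => ?_, ?_, div_four
    [c * d * η, c * d * η⁻¹, c * d, c * d] ?_ ?_⟩
  · have hx0 : ConjIn ({1} : Set K) x x := ConjIn.refl (H := ({1} : Set K)) (Set.mem_singleton 1) x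
    simp at hf
    rcases hf with rfl | rfl | rfl | rfl
    exacts [hcA e hed hx0, hcA e hed hy, hcA e' hed' hx0, hcA e' hed' hy]
  · simp only [List.prod_cons, List.prod_nil, mul_one, ← mul_assoc]
    rw [mul_assoc (e.conj x * e.conj y), heq e he, heq e' he', smul_mul_smul_comm, ← hM,
      smul_inv_smul₀ (mul_ne_zero hcd hcd)]
  · rw [show e.conj x * e.conj y = e.conj (x * y) from LinearMap.ext fun v => by simp [LinearEquiv.conj_apply]]
    exact key.conj e
  · intro r v h1 h2 h1' h2'
    obtain ⟨w, rfl⟩ := e.surjective v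
    by_contra hv
    have hw : w ≠ 0 := fun h => hv (by rw [h, map_zero])
    have a1 : x w = r • w := e.injective (by simpa [LinearEquiv.conj_apply] using h1)
    have a2 : y w = r • w := e.injective (by simpa [LinearEquiv.conj_apply] using h2)
    have hr : r = c ∨ r = d := by
      have := LinearMap.congr_fun hq w
      simp only [Module.End.mul_apply, RegUnipProd.sub_smul_one_apply, map_sub, map_smul, LinearMap.zero_apply,
        a1, ← sub_smul, smul_smul] at this
      have h' : ((r - c) * (r - d)) • w = 0 := by linear_combination (norm := module) this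
      rcases mul_eq_zero.1 ((smul_eq_zero.1 h').resolve_right hw) with h | h
      exacts [Or.inl (sub_eq_zero.1 h), Or.inr (sub_eq_zero.1 h)]
    have hL : L0 (e w) = ((c * d)⁻¹ * (r * r)) • e w := by
      have h := he w
      rw [LinearMap.smul_apply, Module.End.mul_apply, a2, map_smul, a1, smul_smul, map_smul] at h
      rw [mul_smul, ← h, inv_smul_smul₀ hcd]
    have hU : U0 (e w) = ((c * d)⁻¹ * (r * r)) • e w := by
      obtain ⟨w', hw'⟩ := e'.surjective (e w)
      rw [← hw'] at h1' h2' ⊢
      have b1 : x w' = r • w' := e'.injective (by simpa [LinearEquiv.conj_apply] using h1')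
      have b2 : y w' = r • w' := e'.injective (by simpa [LinearEquiv.conj_apply] using h2')
      have h := he' w'
      rw [LinearMap.smul_apply, Module.End.mul_apply, b2, map_smul, b1, smul_smul, map_smul] at h
      rw [mul_smul, ← h, inv_smul_smul₀ hcd]
    by_cases hcc : c * c = d * d
    · by_cases hcd' : c = d
      · have e1 : (c * d)⁻¹ * (r * r) = 1 := by
          rcases hr with rfl | rfl <;> subst hcd' <;> field_simp
        rw [e1, one_smul] at hL hU
        exact hv (hline1 _ hL hU)
      · have hcm : c = -d := (mul_self_eq_mul_self_iff.1 hcc).resolve_left hcd'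
        have e1 : (c * d)⁻¹ * (r * r) = -1 := by
          rcases hr with rfl | rfl
          · subst hcm; field_simp
          · subst hcm; field_simp
        rw [e1] at hL
        have hm := hL0.eig_mem hL hv
        have h21 : (-1 : K) ≠ 1 := fun e => hcd' (by rw [hcm]; linear_combination d * e)
        simp only [List.replicate, List.mem_cons, inv_inv, List.not_mem_nil, or_false] at hm
        rcases hm with h | h | h | h
        · exact hη2 (by rw [inv_eq_iff_eq_inv.1 h.symm]; simp)
        · exact hη2 (by rw [← h]; simp)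
        · exact h21 h
        · exact h21 h
    · have hce := hηc hcc
      rcases hr with hrc | hrd
      · -- a common eigenvector would lie on the line of `p1`
        subst hrc
        have hT1 : (x * y) w = (r * d * η) • w := by
          rw [Module.End.mul_apply, a2, map_smul, a1, smul_smul, hce]
        obtain ⟨o, rfl⟩ := Submodule.mem_span_singleton.1 (key.2.2 _ w p1 hT1
          (by rw [Module.End.mul_apply, T0]) (hp1 ▸ B.ne_zero 0))
        have ho : o ≠ 0 := fun h => hw (by rw [h, zero_smul])
        rw [map_smul, b01, smul_comm] at a1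
        have a1' : q1 = r • p1 := smul_right_injective V ho a1
        have := B.repr_self (1 : Fin 4)
        rw [← hq1, a1', map_smul, hp1, B.repr_self] at this
        simpa using DFunLike.congr_fun this 1
      · have e1 : (c * d)⁻¹ * (r * r) = η⁻¹ := by
          subst hrd
          have : η = c / r := by field_simp; exact mul_left_cancel₀ hc (by linear_combination hce)
          rw [this, inv_div]; field_simp
        rw [e1] at hL hU
        exact hv (hlineη _ hL hU)

end CfsgLib.PSLCover
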