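import Cfsg.Agent.Lib.PSLCover.NE

/-! Dimension three within determinant one. -/

set_option autoImplicit false
set_option linter.unusedSectionVars false

namespace CfsgLib.PSLCover

open Module LinearMap Polynomial
open scoped Matrix

universe u v

variable {K : Type u} [Field K] {V : Type v} [AddCommGroup V] [Module K V] [FiniteDimensional K V]

/-- Two conjugates of a scaled transvection in the plane. -/
theorem two_unip {Q : Type v} [AddCommGroup Q] [Module K Q] [FiniteDimensional K Q] (b : Basis (Fin 2) K Q)
    {x h : Module.End K Q} {a : K} (h0 : x (b 0) = a • b 0) (h1 : x (b 1) = a • b 1 + b 0)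
    (hdet : LinearMap.det h = a ^ 4) (ht : LinearMap.trace K Q h ≠ 2 * (a * a))
    (ht' : LinearMap.trace K Q h ≠ -(2 * (a * a))) : Good (Set.univ : Set K) Set.univ x h 2 := by
  classical
  obtain ⟨γ, hγ⟩ : ∃ γ, γ = LinearMap.trace K Q h - 2 * (a * a) := ⟨_, rfl⟩
  have hγ0 : γ ≠ 0 := fun e => ht (by linear_combination e - hγ)
  let e : Q ≃ₗ[K] Q := b.equiv (b.unitsSMul ![1, Units.mk0 γ hγ0]) (Equiv.swap 0 1)
  have e0 : e (b 0) = γ • b 1 := by simp [e, Basis.unitsSMul_apply]
  have e1 : e (b 1) = b 0 := by simp [e, Basis.unitsSMul_apply]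
  let y := e.conj x
  have hy : ∀ v, y (e v) = e (x v) := fun v => by simp [y, LinearEquiv.conj_apply]
  have y1 : y (b 1) = a • b 1 := by
    have := hy (b 0)
    rw [h0, map_smul, e0, map_smul, smul_comm a] at this
    exact smul_right_injective Q hγ0 this
  have y0 : y (b 0) = a • b 0 + γ • b 1 := by
    have := hy (b 1)
    rw [h1, map_add, map_smul, e1, e0] at this
    exact this
  have hm : LinearMap.toMatrix b b (x * y) = !![a * a + γ, a; a * γ, a * a] := by
    ext i j
    rw [LinearMap.toMatrix_apply]
    fin_cases j <;> simp [y0, y1, h0, h1, map_add, map_smul] <;> fin_cases i <;> simp [Finsupp.single_apply] <;> ring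
  set M := LinearMap.toMatrix b b h with hM
  have htr : M.trace = LinearMap.trace K Q h := (LinearMap.trace_eq_matrix_trace K b h).symm
  have hdm : M.det = a ^ 4 := by rw [hM, LinearMap.det_toMatrix, hdet]
  obtain ⟨P, hP⟩ := two_sim (E := M) (C := LinearMap.toMatrix b b (x * y))
    (fun s hs => by
      have e1 : M.det = s * s := by rw [hs]; simp [Matrix.det_fin_two]; ring
      have e2 : M.trace = s + s := by rw [hs]; simp [Matrix.trace_fin_two]; ring
      rw [hdm] at e1
      rw [htr] at e2
      have e3 : (s - a * a) * (s + a * a) = 0 := by linear_combination -e1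
      rcases mul_eq_zero.1 e3 with h | h
      · exact ht (by rw [e2]; linear_combination (2 : K) * h)
      · exact ht' (by rw [e2]; linear_combination (2 : K) * h))
    (fun s hs => by
      rw [hm] at hs
      have e1 := congrFun (congrFun hs 0) 1
      have e2 := congrFun (congrFun hs 1) 0
      simp at e1 e2
      rcases e2 with e2 | e2
      · have : LinearMap.det h = 0 := by rw [hdet, e2]; ring
        have e3 := congrFun (congrFun hs 0) 0
        have e4 := congrFun (congrFun hs 1) 1
        simp [e2] at e3 e4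
        exact hγ0 (e3.trans e4.symm)
      · exact hγ0 e2)
    (by rw [hdm, hm, Matrix.det_fin_two_of]; ring)
    (by rw [htr, hm, Matrix.trace_fin_two]; simp; linear_combination -hγ)
  let c : Q ≃ₗ[K] Q := LinearMap.GeneralLinearGroup.toLinearEquiv
    (Units.map (Matrix.toLinAlgEquiv b).toMonoidHom P)
  have hc : ∀ v, h (c v) = c ((x * y) v) := fun v => by
    have := congrArg (Matrix.toLinAlgEquiv b) hP
    rw [map_mul, map_mul, hM, show LinearMap.toMatrix b b h = LinearMap.toMatrixAlgEquiv b h from rfl,
      show LinearMap.toMatrix b b (x * y) = LinearMap.toMatrixAlgEquiv b (x * y) from rfl,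
      Matrix.toLinAlgEquiv_toMatrixAlgEquiv, Matrix.toLinAlgEquiv_toMatrixAlgEquiv] at this
    exact LinearMap.congr_fun this v
  obtain ⟨L, hL1, hL2, hL3, hL4⟩ := Good.transfer (H := (Set.univ : Set K)) (Λ := Set.univ) (x := x) (g := x * y) (m := 2)
    ⟨[x, y], rfl, fun f hf => by
      rcases List.mem_cons.1 hf with rfl | hf
      · exact ConjIn.refl (Set.mem_univ _) _
      · rw [List.mem_singleton] at hf; exact hf ▸ ⟨e, trivial, hy⟩,
      by simp, by
        refine ⟨fun r _ v hv => ?_, fun S hi he _ => (Submodule.eq_bot_iff S).2 fun v hv => ?_⟩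
        · have k1 := hv x (by simp)
          have k2 := hv y (by simp)
          rw [← b.sum_repr v, Fin.sum_univ_two] at k1 k2 ⊢
          have p1 := congrArg (fun q => b.repr q 0) k1
          have p2 := congrArg (fun q => b.repr q 1) k1
          have q1 := congrArg (fun q => b.repr q 0) k2
          have q2 := congrArg (fun q => b.repr q 1) k2
          simp [map_add, map_smul, h0, h1, y0, y1] at p1 p2 q1 q2
          have z1 : b.repr v 1 = 0 := by linear_combination p1 - q1
          have z0 : γ * b.repr v 0 = 0 := by linear_combination q2 - p2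
          rw [z1, (mul_eq_zero.1 z0).resolve_left hγ0]
          simp
        · have k := he x (by simp) y (by simp) v hv
          rw [← b.sum_repr v, Fin.sum_univ_two] at k ⊢
          have p1 := congrArg (fun q => b.repr q 0) k
          have p2 := congrArg (fun q => b.repr q 1) k
          simp [map_add, map_smul, h0, h1, y0, y1] at p1 p2
          have z1 : b.repr v 1 = 0 := p1
          have z0 : b.repr v 0 = 0 := p2.resolve_right hγ0
          rw [z1, z0]
          simp⟩ c
  refine ⟨L, hL1, fun f hf => ConjIn.comp closed_univ ⟨c, trivial, fun v => by simp [LinearEquiv.conj_apply]⟩ (hL2 f hf),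
    ?_, hL4⟩
  rw [hL3]
  exact LinearMap.ext fun v => by
    rw [LinearEquiv.conj_apply_apply, ← hc, LinearEquiv.apply_symm_apply]

/-- A single Jordan block. -/
theorem three_block (h4 : ∃ k : Fin 4 → K, Function.Injective k) (hn : finrank K V = 3) {x g : Module.End K V}
    (hdx : LinearMap.det x ≠ 0) (hp : ¬ Pseudo x) {a : K}
    (hN : ∀ q, x (x (x q)) = (3 * a) • x (x q) - (3 * a * a) • x q + (a * a * a) • q)
    (hg : ∀ s : K, g ≠ s • 1) (hdet : LinearMap.det g = LinearMap.det x ^ 3) :
    Good ({1} : Set K) Set.univ x g 3 := by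
  classical
  obtain ⟨v, t0, s0, d0, hli, -⟩ := exists_chain hn hp
  have hdxa : LinearMap.det x = a * a * a := Chain.det (v := v) (t := 3 * a) (s := 3 * a * a) ⟨hli, hN v⟩ hn
  have ha : a ≠ 0 := fun e => hdx (by rw [hdxa, e]; ring)
  let B := basisOfLinearIndependentOfCardEqFinrank hli (by simp [hn])
  have hB : ∀ i, B i = ![v, x v, x (x v)] i := fun i => by simp [B]
  obtain ⟨x', hx1, hx2⟩ := exists_inverse hdx
  have hxv : x' v = (a * a * a)⁻¹ • (x (x v) - (3 * a) • x v + (3 * a * a) • v) := by
    have h := hN (x' v)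
    rw [hx1] at h
    rw [eq_inv_smul_iff₀ (mul_ne_zero (mul_ne_zero ha ha) ha), h]
    abel
  set u := x (x v) - (2 * a) • x v + (a * a) • v with hu
  have hxu : x u = a • u := by rw [hu, map_add, map_sub, map_smul, map_smul, hN]; module
  have hu0 : u ≠ 0 := fun e => by
    have := Fintype.linearIndependent_iff.1 hli ![a * a, -(2 * a), 1] (by
      rw [Fin.sum_univ_three, ← e, hu]; simp; module) 2
    simp at this
  -- move the target
  obtain ⟨v0, hv0⟩ := exists_not_eigen hg
  obtain ⟨c, hcd, hcv⟩ := exists_move (K := K) (V := V) (j := 1) (by omega) (a := ![v0]) (b := ![u])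
    (LinearIndependent.of_subsingleton 0 fun e => hv0 (by rw [show v0 = 0 from e, map_zero]; exact zero_mem _))
    (LinearIndependent.of_subsingleton 0 hu0)
  set g' := c.conj g with hg'
  have hdg' : LinearMap.det g' = LinearMap.det x ^ 3 := by rw [← hdet]; exact LinearMap.det_conj g c
  have hgu : g' u ∉ Submodule.span K {u} := fun h => hv0 (by
    rw [← show c v0 = u from hcv 0, hg', LinearEquiv.conj_apply_apply, LinearEquiv.symm_apply_apply] at h
    obtain ⟨t, ht⟩ := Submodule.mem_span_singleton.1 h
    exact Submodule.mem_span_singleton.2 ⟨t, c.injective (by rw [map_smul, ht])⟩)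
  set w := (a * a)⁻¹ • g' u with hw
  have hgw : g' u = (a * a) • w := by rw [hw, smul_smul, mul_inv_cancel₀ (mul_ne_zero ha ha), one_smul]
  have hwu : w ∉ Submodule.span K {u} := fun h => hgu (hgw ▸ Submodule.smul_mem _ _ h)
  have li2 : ∀ {a b : V}, b ∉ Submodule.span K {a} → a ≠ 0 → LinearIndependent K ![a, b] := fun {a b} h h0 =>
    linearIndependent_fin2.2 ⟨fun e => h (by rw [show b = 0 from e]; exact zero_mem _), fun c e => by
      rcases eq_or_ne c 0 with rfl | hc
      · simp at e; exact h0 e.symm
      · refine h (Submodule.mem_span_singleton.2 ⟨c⁻¹, ?_⟩)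
        rw [show a = c • b from e.symm, smul_smul, inv_mul_cancel₀ hc, one_smul]⟩
  have liv : LinearIndependent K ![x v, x (x v)] := by
    have h := hli.comp ![1, 2] (by decide)
    convert h using 1
    funext i; fin_cases i <;> rfl
  obtain ⟨e0, he0d, he0⟩ := exists_move (j := 2) (by omega) liv (li2 hwu hu0)
  have f1 : e0 (x v) = u := he0 0
  have f2 : e0 (x (x v)) = w := he0 1
  -- a shift keeping determinant one
  have shift : ∀ r s : K, ∃ e : V ≃ₗ[K] V, LinearMap.det (e : V →ₗ[K] V) = 1 ∧ e (x v) = u ∧ e (x (x v)) = w ∧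
      e v = e0 v + r • u + s • w := by
    intro r s
    have hz : B.repr (e0.symm (r • u + s • w)) 0 = 0 := by
      rw [map_add, map_smul, map_smul, show e0.symm u = B 1 by rw [LinearEquiv.symm_apply_eq, hB]; exact f1.symm,
        show e0.symm w = B 2 by rw [LinearEquiv.symm_apply_eq, hB]; exact f2.symm]
      simp
    obtain ⟨e, he, hed⟩ := bump B e0 0 (r • u + s • w) (by rw [hz]; simp)
    refine ⟨e, by rw [hed, hz, he0d, add_zero, mul_one], ?_, ?_, ?_⟩
    · have := he 1; simpa [hB, f1] using this
    · have := he 2; simpa [hB, f2] using this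
    · have := he 0; simpa [hB, add_assoc] using this
  set P := Submodule.span K ({u, w} : Set V) with hP
  have hq0 : e0 v ∉ P := fun h => by
    obtain ⟨r, s, hrs⟩ := Submodule.mem_span_pair.1 h
    rw [← f1, ← f2, ← map_smul e0, ← map_smul e0, ← map_add e0] at hrs
    have := Fintype.linearIndependent_iff.1 hli ![(-1 : K), r, s] (by
      rw [Fin.sum_univ_three]; simp; linear_combination (norm := module) e0.injective hrs) 0
    simp at this
  obtain ⟨s1, hs1⟩ : ∃ s1 : K, g' (e0 v + s1 • w) ∉ P := by
    by_contra hc'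
    push Not at hc'
    have k0 := hc' 0
    rw [zero_smul, add_zero] at k0
    have k1 := hc' 1
    rw [one_smul, map_add] at k1
    have hwP : g' w ∈ P := (Submodule.add_mem_iff_right _ k0).1 k1
    obtain ⟨gi, hgi, hgi'⟩ := exists_inverse (f := g') (hdg' ▸ pow_ne_zero _ hdx)
    have hle : P.map g' ≤ P := by
      rw [hP, Submodule.map_span, Submodule.span_le]
      rintro _ ⟨p, hp, rfl⟩
      rcases hp with rfl | rfl
      · rw [hgw]; exact P.smul_mem _ (Submodule.subset_span (by simp))
      · exact hwP
    have heq : P.map g' = P := Submodule.eq_of_le_of_finrank_eq hle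
      (Submodule.equivMapOfInjective _ (Function.LeftInverse.injective hgi') P).finrank_eq.symm
    obtain ⟨p, hp, hpq⟩ : g' (e0 v) ∈ P.map g' := heq.symm ▸ k0
    exact hq0 (Function.LeftInverse.injective hgi' hpq ▸ hp)
  -- coordinates
  have key : ∀ k : K, LinearIndependent K ![u, w, e0 v + k • u + s1 • w] := fun k => li_three fun p q r h => by
    have hr : r = 0 := by
      by_contra hr
      refine hq0 ((P.smul_mem_iff hr).1 ?_)
      rw [show r • e0 v = -((p + r * k) • u + (q + r * s1) • w) by linear_combination (norm := module) h]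
      exact neg_mem (add_mem (P.smul_mem _ (Submodule.subset_span (by simp))) (P.smul_mem _ (Submodule.subset_span (by simp))))
    rw [hr, zero_smul, add_zero] at h
    have := Fintype.linearIndependent_iff.1 (li2 hwu hu0) ![p, q] (by simpa using h)
    exact ⟨this 0, this 1, hr⟩
  let C := basisOfLinearIndependentOfCardEqFinrank (key 0) (by simp [hn])
  have hC : ∀ i, C i = ![u, w, e0 v + s1 • w] i := fun i => by simp [C]
  obtain ⟨α1, β1, γ1, hg1⟩ : ∃ α β γ : K, g' w = α • u + β • w + γ • (e0 v + s1 • w) :=
    ⟨_, _, _, by conv_lhs => rw [← C.sum_repr (g' w)]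
                 simp [Fin.sum_univ_three, hC]; rfl⟩
  obtain ⟨α2, β2, γ2, hg2⟩ : ∃ α β γ : K, g' (e0 v + s1 • w) = α • u + β • w + γ • (e0 v + s1 • w) :=
    ⟨_, _, _, by conv_lhs => rw [← C.sum_repr (g' (e0 v + s1 • w))]
                 simp [Fin.sum_univ_three, hC]; rfl⟩
  have hγ : γ2 ≠ 0 := fun e => hs1 (by
    rw [hg2, e, zero_smul, add_zero]
    exact add_mem (P.smul_mem _ (Submodule.subset_span (by simp))) (P.smul_mem _ (Submodule.subset_span (by simp))))
  obtain ⟨T, hT, hT'⟩ := exists_ne_two h4 (2 * (a * a)) (-(2 * (a * a)))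
  obtain ⟨k, hk⟩ : ∃ k, k = (γ1 / (a * a * a) + α2 + 3 * γ2 / a - T) / γ2 := ⟨_, rfl⟩
  obtain ⟨e, hed, he1, he2, hev⟩ := shift k s1
  set q := e0 v + k • u + s1 • w with hq
  -- the factor
  set x1 := e.conj x with hx1def
  have hc1 : ConjIn ({1} : Set K) x x1 := ⟨e, hed, fun p => by simp [x1, LinearEquiv.conj_apply]⟩
  set X := e.conj x' with hX
  have hX1 : ∀ p, x1 (X p) = p := fun p => by simp [x1, X, LinearEquiv.conj_apply, hx1]
  have Xw : X w = u := by rw [← he2]; simp [X, LinearEquiv.conj_apply, hx2, he1]
  have Xu : X u = q := by rw [← he1]; simp [X, LinearEquiv.conj_apply, hx2, hev]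
  have Xq : X q = (a * a * a)⁻¹ • (w - (3 * a) • u + (3 * a * a) • q) := by
    rw [← hev]; simp [X, LinearEquiv.conj_apply, hxv, he1, he2]
  set h := X * g' with hh
  have hhu : h u = (a * a) • u := by rw [hh, Module.End.mul_apply, hgw, map_smul, Xw]
  have gw' : g' w = (α1 - γ1 * k) • u + β1 • w + γ1 • q := by rw [hg1, hq]; module
  have gq' : g' q = (α2 - γ2 * k) • u + (β2 + k * (a * a)) • w + γ2 • q := by
    rw [show q = (e0 v + s1 • w) + k • u by rw [hq]; abel, map_add, map_smul, hg2, hgw]
    module
  -- the quotient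
  let π := (Submodule.span K ({u} : Set V)).mkQ
  have hπu : π u = 0 := (Submodule.Quotient.mk_eq_zero _).2 (Submodule.mem_span_singleton_self u)
  have hQ2 := finrank_quot_line (K := K) hu0
  have quot2 : ∀ f0 f1 : V, LinearIndependent K ![u, f0, f1] →
      ∃ b : Basis (Fin 2) K (V ⧸ Submodule.span K ({u} : Set V)), b 0 = π f0 ∧ b 1 = π f1 := by
    intro f0 f1 hl
    have hl2 : LinearIndependent K ![π f0, π f1] := by
      rw [LinearIndependent.pair_iff]
      intro p r hpr
      rw [← map_smul, ← map_smul, ← map_add] at hpr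
      obtain ⟨o, ho⟩ := Submodule.mem_span_singleton.1 ((Submodule.Quotient.mk_eq_zero _).1 hpr)
      have := Fintype.linearIndependent_iff.1 hl ![-o, p, r] (by
        rw [Fin.sum_univ_three]; simp [ho])
      exact ⟨this 1, this 2⟩
    exact ⟨basisOfLinearIndependentOfCardEqFinrank hl2 (by simp; omega), by simp, by simp⟩
  obtain ⟨b, hb0, hb1⟩ := quot2 (x v - a • v) v (li_three fun p r s hprs => by
    have := Fintype.linearIndependent_iff.1 hli ![p * (a * a) - r * a + s, -(p * (2 * a)) + r, p] (by
      rw [Fin.sum_univ_three, ← hprs, hu]; simp; module)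
    have h0 := this 0; have h1 := this 1; have h2 := this 2
    simp at h0 h1 h2
    subst h2
    simp at h1
    subst h1
    simpa using h0)
  obtain ⟨bh, hbh0, hbh1⟩ := quot2 w q (key k)
  have hxv1 : x (x v - a • v) = a • (x v - a • v) + u := by rw [map_sub, map_smul, hu]; module
  have hmap : ∀ {f : Module.End K V} {μ : K} (hf : f u = μ • u) (p : V),
      (Submodule.span K {u}).mapQ (Submodule.span K {u}) f (invariant_line hf) (π p) = π (f p) := fun hf p => rfl
  have hdh : LinearMap.det h = a ^ 6 := by
    have e1 := congrArg LinearMap.det (show g' = x1 * h from LinearMap.ext fun p => (hX1 (g' p)).symm)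
    rw [map_mul, hc1.det_eq, hdg'] at e1
    refine mul_left_cancel₀ hdx (e1.symm.trans ?_)
    rw [hdxa]; ring
  have htrace : LinearMap.trace K _ ((Submodule.span K {u}).mapQ (Submodule.span K {u}) h (invariant_line hhu)) = T := by
    rw [LinearMap.trace_eq_matrix_trace K bh, Matrix.trace_fin_two, LinearMap.toMatrix_apply, LinearMap.toMatrix_apply]
    have p0 : π (h w) = (γ1 / (a * a * a)) • π w + (α1 - γ1 * k + γ1 * (3 * a * a) / (a * a * a)) • π q := by
      rw [hh, Module.End.mul_apply, gw']
      simp only [map_add, map_smul, Xu, Xw, Xq, map_sub, hπu]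
      match_scalars <;> field_simp
    have p1 : π (h q) = (γ2 / (a * a * a)) • π w + (α2 - γ2 * k + γ2 * (3 * a * a) / (a * a * a)) • π q := by
      rw [hh, Module.End.mul_apply, gq']
      simp only [map_add, map_smul, Xu, Xw, Xq, map_sub, hπu]
      match_scalars <;> field_simp
    rw [hbh0, hbh1, hmap hhu, hmap hhu, p0, p1, ← hbh0, ← hbh1]
    simp [Finsupp.single_apply]
    rw [hk]
    field_simp
    ring
  have key2 := step_line (x := x) (g := g') (x1 := x1) (h := h) hu0 ha (k := 2) (by omega) hxu hc1
    (LinearMap.ext fun p => (hX1 (g' p)).symm) (by rw [hhu, sq]) (fun hm => hwu (by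
      obtain ⟨o, ho⟩ := Submodule.mem_span_singleton.1 hm
      rw [show x1 u = w by rw [← he1]; simp [x1, LinearEquiv.conj_apply, he2]] at ho
      exact Submodule.mem_span_singleton.2 ⟨o, ho⟩))
    (H := Set.univ) (Λ := Set.univ) (Λ' := Set.univ) (Set.subset_univ _) (Set.mem_univ a)
    (two_unip b (a := a) (by rw [hb0, hmap hxu, hxv1, map_add, map_smul, hπu, add_zero])
      (by rw [hb1, hb0, hmap hxu, ← map_smul, ← map_add]; congr 1; abel)
      (by
        have e1 := det_quot hu0 hhu
        rw [hdh] at e1
        refine mul_left_cancel₀ (mul_ne_zero ha ha) (e1.symm.trans ?_)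
        ring)
      (by rw [htrace]; exact hT) (by rw [htrace]; exact hT'))
  have := key2.conj_target c.symm (by
    have h1 : ((c.symm : V ≃ₗ[K] V) : V →ₗ[K] V) * (c : V →ₗ[K] V) = 1 := LinearMap.ext fun w => c.symm_apply_apply w
    have h2 := congrArg LinearMap.det h1
    rwa [map_mul, hcd, mul_one, map_one] at h2)
  have e' : c.symm.conj g' = g := LinearMap.ext fun w => by simp [g', LinearEquiv.conj_apply]
  rwa [e'] at this

/-- The base in dimension three. -/
theorem good_three [Finite K] (h4 : ∃ k : Fin 4 → K, Function.Injective k) (hn : finrank K V = 3) {x g : Module.End K V}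
    (hdx : LinearMap.det x ≠ 0) (hp : ¬ Pseudo x) (hg : ∀ s : K, g ≠ s • 1)
    (hdet : LinearMap.det g = LinearMap.det x ^ 3) : Good ({1} : Set K) Set.univ x g 3 := by
  haveI : Nontrivial V := Module.nontrivial_of_finrank_pos (R := K) (by omega)
  have full : FullDet x → Good ({1} : Set K) Set.univ x g 3 := fun hF =>
    Good.of_full hF (good_three_univ h4 hn hdx hp hg hdet)
  by_cases hno : ∀ (a : K) (v : V), x v = a • v → v = 0
  · exact good_no_eigen h4 3 x g 3 hn le_rfl le_rfl hdx hno (Or.inl hg) hdet
  push Not at hno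
  obtain ⟨a, u, hu, hu0⟩ := hno
  by_cases hur : u ∈ LinearMap.range (x - a • 1)
  swap
  · exact full (fullDet_of_eigen hu hur)
  obtain ⟨w, hw⟩ := hur
  rw [RegUnipProd.sub_smul_one_apply, sub_eq_iff_eq_add] at hw
  set N : Module.End K V := x - a • 1 with hNdef
  have hNu : N u = 0 := by rw [hNdef, RegUnipProd.sub_smul_one_apply, hu, sub_self]
  have hNw : N w = u := by rw [hNdef, RegUnipProd.sub_smul_one_apply, hw, add_sub_cancel_right]
  set P := Submodule.span K ({u, w} : Set V) with hP
  have hli : LinearIndependent K ![u, w] := by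
    rw [LinearIndependent.pair_iff]
    intro p q h
    have h1 := congrArg N h
    rw [map_add, map_smul, map_smul, hNu, hNw, smul_zero, zero_add, map_zero] at h1
    have hq : q = 0 := (smul_eq_zero.1 h1).resolve_right hu0
    rw [hq, zero_smul, add_zero] at h
    exact ⟨(smul_eq_zero.1 h).resolve_right hu0, hq⟩
  have hPi : ∀ p ∈ P, x p ∈ P := fun p hp' => by
    obtain ⟨r, s, rfl⟩ := Submodule.mem_span_pair.1 hp'
    rw [map_add, map_smul, map_smul, hu, hw]
    exact P.add_mem (P.smul_mem _ (P.smul_mem _ (Submodule.subset_span (by simp))))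
      (P.smul_mem _ (P.add_mem (Submodule.subset_span (by simp)) (P.smul_mem _ (Submodule.subset_span (by simp)))))
  have hP2 : finrank K P = 2 := by
    have := finrank_span_eq_card hli
    rwa [Matrix.range_cons, Matrix.range_cons, Matrix.range_empty, Set.union_empty, Set.singleton_union, Fintype.card_fin] at this
  obtain ⟨z, hz⟩ : ∃ z, z ∉ P := by
    by_contra h; push Not at h
    rw [Submodule.eq_top_iff'.2 h, finrank_top] at hP2
    omega
  have htop : Submodule.span K {z} ⊔ P = ⊤ := Submodule.eq_top_of_finrank_eq (by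
    have h2 := Submodule.finrank_lt_finrank_of_lt (show P < Submodule.span K {z} ⊔ P from
      lt_of_le_of_ne le_sup_right fun e => hz (e ▸ Submodule.mem_sup_left (Submodule.mem_span_singleton_self z)))
    have := Submodule.finrank_le (Submodule.span K {z} ⊔ P)
    omega)
  obtain ⟨y, hy, p0, hp0, hyp⟩ := Submodule.mem_sup.1 (htop ▸ Submodule.mem_top : x z ∈ Submodule.span K {z} ⊔ P)
  obtain ⟨b, rfl⟩ := Submodule.mem_span_singleton.1 hy
  by_cases hab : b = a
  · -- a single block
    refine three_block h4 hn hdx hp (a := a) (fun q => ?_) hg hdet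
    obtain ⟨y', hy', p, hp', rfl⟩ := Submodule.mem_sup.1 (htop ▸ Submodule.mem_top : q ∈ Submodule.span K {z} ⊔ P)
    obtain ⟨o, rfl⟩ := Submodule.mem_span_singleton.1 hy'
    obtain ⟨r, s, rfl⟩ := Submodule.mem_span_pair.1 hp'
    obtain ⟨r', s', rfl⟩ := Submodule.mem_span_pair.1 hp0
    simp only [map_add, map_smul, hu, hw, ← hyp, hab]
    module
  · have hrange : LinearMap.range (x - b • (1 : Module.End K V)) ≤ P := by
      rintro _ ⟨q, rfl⟩
      obtain ⟨y', hy', p, hp', rfl⟩ := Submodule.mem_sup.1 (htop ▸ Submodule.mem_top : q ∈ Submodule.span K {z} ⊔ P)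
      obtain ⟨o, rfl⟩ := Submodule.mem_span_singleton.1 hy'
      rw [RegUnipProd.sub_smul_one_apply, map_add, map_smul, ← hyp]
      rw [show o • (b • z + p0) + x p - b • (o • z + p) = o • p0 + (x p - b • p) by module]
      exact P.add_mem (P.smul_mem _ hp0) (P.sub_mem (hPi p hp') (P.smul_mem _ hp'))
    obtain ⟨u', hu'k, hu'0⟩ := Submodule.exists_mem_ne_zero_of_ne_bot
      (show LinearMap.ker (x - b • (1 : Module.End K V)) ≠ ⊥ from fun hk => by
        have := LinearMap.finrank_range_add_finrank_ker (x - b • (1 : Module.End K V))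
        rw [hk, finrank_bot] at this
        have := Submodule.finrank_mono hrange
        omega)
    have hu' : x u' = b • u' := RegUnipProd.mem_eigKer.1 hu'k
    refine full (fullDet_of_eigen hu' fun hr => hu'0 ?_)
    obtain ⟨r, s, rfl⟩ := Submodule.mem_span_pair.1 (hrange hr)
    rw [map_add, map_smul, map_smul, hu, hw] at hu'
    have := Fintype.linearIndependent_iff.1 hli ![r * a + s - b * r, s * a - b * s] (by
      rw [Fin.sum_univ_two]
      simp only [Matrix.cons_val_zero, Matrix.cons_val_one]
      linear_combination (norm := module) hu')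
    have h1 := this 1
    simp only [Matrix.cons_val_one, Matrix.cons_val_fin_one] at h1
    have hs : s = 0 := by
      by_contra hs
      exact hab (mul_left_cancel₀ hs (by linear_combination -h1))
    have h0 := this 0
    simp only [Matrix.cons_val_zero, hs, add_zero] at h0
    have hr0 : r = 0 := by
      by_contra hr
      exact hab (mul_left_cancel₀ hr (by linear_combination -h0))
    rw [hs, hr0, zero_smul, zero_smul, add_zero]

end CfsgLib.PSLCover
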