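import Cfsg.Agent.Lib.PSLCover.Coord

/-! One factor along an eigenvector. -/

set_option autoImplicit false
set_option linter.unusedSectionVars false

namespace CfsgLib.PSLCover

open Module LinearMap

universe u v w

variable {K : Type u} [Field K] {V : Type v} [AddCommGroup V] [Module K V] [FiniteDimensional K V]

theorem exists_inverse {f : Module.End K V} (h : LinearMap.det f ≠ 0) :
    ∃ f' : Module.End K V, (∀ v, f (f' v) = v) ∧ ∀ v, f' (f v) = v := by
  obtain ⟨e, he⟩ := ((LinearMap.isUnit_iff_isUnit_det f).2 (isUnit_iff_ne_zero.2 h))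
  exact ⟨(↑e⁻¹ : Module.End K V),
    fun v => by rw [← he, ← Module.End.mul_apply, Units.mul_inv, Module.End.one_apply],
    fun v => by rw [← he, ← Module.End.mul_apply, Units.inv_mul, Module.End.one_apply]⟩

theorem ConjIn.det_eq {H : Set K} {x y : Module.End K V} (h : ConjIn H x y) : LinearMap.det y = LinearMap.det x := by
  obtain ⟨e, -, hy⟩ := h
  rw [← LinearMap.det_conj x e]
  congr 1
  exact LinearMap.ext fun v => by simpa using hy (e.symm v)

theorem invariant_line {F : Module.End K V} {u : V} {a : K} (h : F u = a • u) :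
    ∀ v ∈ Submodule.span K {u}, F v ∈ Submodule.span K {u} := fun v hv => by
  obtain ⟨c, rfl⟩ := Submodule.mem_span_singleton.1 hv
  rw [map_smul, h]
  exact Submodule.smul_mem _ _ (Submodule.smul_mem _ _ (Submodule.mem_span_singleton_self u))

theorem restrict_line {F : Module.End K V} {u : V} {a : K} (h : F u = a • u) :
    F.restrict (invariant_line h) = a • (1 : Module.End K (Submodule.span K {u})) := by
  refine LinearMap.ext fun w => Subtype.ext ?_
  obtain ⟨c, hc⟩ := Submodule.mem_span_singleton.1 w.2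
  show F (w : V) = a • (w : V)
  rw [← hc, map_smul, h, smul_comm]

/-- The step along an eigenvector, with the first factor given. -/
theorem step_line {x g x1 h : Module.End K V} {u : V} (hu : u ≠ 0) {a : K} (ha : a ≠ 0) {k : ℕ} (hk : 1 ≤ k)
    (hxu : x u = a • u) (hc : ConjIn ({1} : Set K) x x1) (hgh : g = x1 * h) (hhu : h u = a ^ k • u)
    (hmove : x1 u ∉ Submodule.span K {u}) {H Λ Λ' : Set K} (hΛ : Λ ⊆ Λ') (haΛ : a ∈ Λ')
    (hQ : Good H Λ' ((Submodule.span K {u}).mapQ (Submodule.span K {u}) x (invariant_line hxu))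
      ((Submodule.span K {u}).mapQ (Submodule.span K {u}) h (invariant_line hhu)) k) :
    Good ({1} : Set K) Λ x g (k + 1) := by
  obtain ⟨φ, hφ, hφ'⟩ := exists_split (Submodule.span K ({u} : Set V))
  obtain ⟨r, hr⟩ := conj_eq_blk φ hφ hφ' x (invariant_line hxu)
  obtain ⟨r', hr'⟩ := conj_eq_blk φ hφ hφ' h (invariant_line hhu)
  rw [restrict_line hxu] at hr
  rw [restrict_line hhu] at hr'
  have hpow : (a • (1 : Module.End K (Submodule.span K {u}))) ^ k = a ^ k • 1 := by rw [smul_pow, one_pow]
  have hfr : finrank K (Submodule.span K ({u} : Set V)) = 1 := finrank_span_singleton hu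
  have key := step (A := a • (1 : Module.End K (Submodule.span K {u}))) (r := r) hk
    ?_ hΛ (H := H) ?_ ?_ (Or.inl ⟨a, haΛ, fun w => by simp⟩) hQ (pre := [φ.conj x1]) ?_ ?_
    (u := r') (g := φ.conj g) (by
      rw [hpow, ← hr', List.prod_singleton, hgh]
      exact LinearEquiv.conj_comp φ h x1)
  · rw [← hr, List.length_singleton, Nat.add_comm 1 k] at key
    have := key.transfer φ.symm
    have e : ∀ F : Module.End K V, φ.symm.conj (φ.conj F) = F := fun F => LinearMap.ext fun v => by
      simp [LinearEquiv.conj_apply]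
    rwa [e, e] at this
  · exact (Algebra.algebraMap_eq_smul_one (A := Module.End K (Submodule.span K ({u} : Set V))) a) ▸
      (isUnit_iff_ne_zero.2 ha).map _
  · intro ρ _ hρ
    refine ⟨LinearEquiv.smulOfNeZero K _ ρ⁻¹ (inv_ne_zero hρ), fun w => ?_, ?_⟩
    · simp only [LinearMap.smul_apply, Module.End.one_apply, map_smul]
    · have : ((LinearEquiv.smulOfNeZero K (Submodule.span K ({u} : Set V)) ρ⁻¹ (inv_ne_zero hρ)).toLinearMap : Submodule.span K ({u} : Set V) →ₗ[K]
          Submodule.span K ({u} : Set V)) = ρ⁻¹ • 1 := LinearMap.ext fun w => rfl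
      rw [this, LinearMap.det_smul, hfr, map_one, pow_one, mul_one, inv_mul_cancel₀ hρ]
  · intro p _
    rcases Nat.eq_zero_or_pos (finrank K p) with e | e
    · exact Or.inl (Submodule.finrank_eq_zero.1 e)
    · exact Or.inr (Submodule.eq_top_of_finrank_eq (by
        have := Submodule.finrank_le p; omega))
  · intro f hf
    rw [List.mem_singleton] at hf
    subst hf
    rw [← hr]
    exact hc.transfer φ
  · refine ⟨_, List.mem_singleton_self _, fun w hw => ?_⟩
    rw [← hφ, LinearEquiv.conj_apply_apply, LinearEquiv.symm_apply_apply, hφ', Submodule.mkQ_apply,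
      Submodule.Quotient.mk_eq_zero] at hw
    obtain ⟨c, hc'⟩ := Submodule.mem_span_singleton.1 w.2
    rw [← hc', map_smul] at hw
    by_contra hne
    have hc0 : c ≠ 0 := fun e => hne (Subtype.ext (by rw [← hc', e, zero_smul]; rfl))
    exact hmove ((Submodule.smul_mem_iff _ hc0).1 hw)

/-- A first factor leaving a non-scalar quotient. -/
theorem exists_first (hn : 3 ≤ finrank K V) {x g : Module.End K V} (hx : ∃ p, x p ∉ Submodule.span K {p})
    (hdx : LinearMap.det x ≠ 0) (hdg : LinearMap.det g ≠ 0) {u : V} (hgu : g u ∉ Submodule.span K {u}) {μ : K} (hμ : μ ≠ 0) :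
    ∃ (x1 h : Module.End K V) (hh : h u = μ • u), ConjIn ({1} : Set K) x x1 ∧ g = x1 * h ∧
      x1 u ∉ Submodule.span K {u} ∧
      ∀ ν : K, (Submodule.span K {u}).mapQ (Submodule.span K {u}) h (invariant_line hh) ≠ ν • 1 := by
  obtain ⟨p, hp⟩ := hx
  set w := μ⁻¹ • g u with hw
  have hwu : w ∉ Submodule.span K {u} := fun h => hgu (by
    have := Submodule.smul_mem _ μ h
    rwa [hw, smul_smul, mul_inv_cancel₀ hμ, one_smul] at this)
  have li : ∀ {a b : V}, b ∉ Submodule.span K {a} → a ≠ 0 → LinearIndependent K ![a, b] := fun {a b} h h0 =>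
    linearIndependent_fin2.2 ⟨fun e => h (by rw [show b = 0 from e]; exact zero_mem _), fun c e => by
      rcases eq_or_ne c 0 with rfl | hc
      · simp at e; exact h0 e.symm
      · refine h (Submodule.mem_span_singleton.2 ⟨c⁻¹, ?_⟩)
        rw [show a = c • b from e.symm, smul_smul, inv_mul_cancel₀ hc, one_smul]⟩
  have hu : u ≠ 0 := fun e => hgu (by rw [e, map_zero]; exact zero_mem _)
  have hp0 : p ≠ 0 := fun e => hp (by rw [e, map_zero]; exact zero_mem _)
  obtain ⟨e, hed, hee⟩ := exists_move (j := 2) (by omega) (li hp hp0) (li hwu hu)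
  have he1 : e p = u := hee 0
  have he2 : e (x p) = w := hee 1
  let x1 : Module.End K V := e.conj x
  have hc1 : ConjIn ({1} : Set K) x x1 := ⟨e, hed, fun v => by simp [x1, LinearEquiv.conj_apply]⟩
  have hx1u : x1 u = w := by simp [x1, LinearEquiv.conj_apply, ← he1, he2]
  -- the variant
  have hS : Submodule.span K ({u, w} : Set V) ≠ ⊤ := fun h => by
    classical
    have h1 := finrank_span_finset_le_card (R := K) ({u, w} : Finset V)
    rw [Finset.coe_insert, Finset.coe_singleton, Set.finrank, h, finrank_top] at h1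
    have := Finset.card_le_two (a := u) (b := w)
    omega
  obtain ⟨z, hz⟩ : ∃ z, z ∉ Submodule.span K ({u, w} : Set V) := by
    by_contra h; push Not at h; exact hS (Submodule.eq_top_iff'.2 h)
  obtain ⟨ζ, hζz, hζ⟩ := RegUnipProd.sep hz
  have hζu : ζ u = 0 := hζ u (Submodule.subset_span (by simp))
  have hζw : ζ w = 0 := hζ w (Submodule.subset_span (by simp))
  let N : V ≃ₗ[K] V := LinearEquiv.ofLinearMap (1 + ζ.smulRight u) (1 - ζ.smulRight u)
    (LinearMap.ext fun v => by simp [hζu, sub_eq_add_neg])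
    (LinearMap.ext fun v => by simp [hζu, sub_eq_add_neg])
  have hNd : LinearMap.det (N : V →ₗ[K] V) = 1 := by
    show LinearMap.det (1 + ζ.smulRight u) = 1
    exact RegUnipProd.det_one_add_sq_zero _ (LinearMap.ext fun v => by simp [hζu])
  let x2 : Module.End K V := N.conj x1
  have hc2 : ConjIn ({1} : Set K) x x2 := hc1.trans ⟨N, hNd, fun v => by simp [x2, LinearEquiv.conj_apply]⟩
  have hx2 : ∀ v, x2 v - (x1 v + ζ (x1 v) • u) ∈ Submodule.span K {w} := fun v => by
    have : N.symm v = v - ζ v • u := rfl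
    refine Submodule.mem_span_singleton.2 ⟨-ζ v, ?_⟩
    simp only [x2, LinearEquiv.conj_apply_apply, this, map_sub, map_smul, hx1u]
    show _ = (x1 v + ζ (x1 v) • u) - ζ v • (w + ζ w • u) - _
    rw [hζw, zero_smul, add_zero]
    module
  have hx2u : x2 u = w := by
    have : N.symm u = u := by show u - ζ u • u = u; rw [hζu, zero_smul, sub_zero]
    simp only [x2, LinearEquiv.conj_apply_apply, this, hx1u]
    show w + ζ w • u = w
    rw [hζw, zero_smul, add_zero]
  have mk : ∀ y : Module.End K V, ConjIn ({1} : Set K) x y → y u = w →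
      ∃ (h : Module.End K V) (hh : h u = μ • u), g = y * h ∧ ∀ v, y (h v) = g v := fun y hy hyu => by
    obtain ⟨y', h1, h2⟩ := exists_inverse (f := y) (by rwa [hy.det_eq])
    refine ⟨y' * g, ?_, LinearMap.ext fun v => (h1 _).symm, fun v => h1 _⟩
    rw [Module.End.mul_apply, show g u = μ • w by rw [hw, smul_smul, mul_inv_cancel₀ hμ, one_smul], map_smul, ← hyu, h2]
  obtain ⟨h1, hh1, hg1, hg1'⟩ := mk x1 hc1 hx1u
  obtain ⟨h2, hh2, hg2, hg2'⟩ := mk x2 hc2 hx2u
  by_cases hgood : ∀ ν : K, (Submodule.span K {u}).mapQ (Submodule.span K {u}) h1 (invariant_line hh1) ≠ ν • 1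
  · exact ⟨x1, h1, hh1, hc1, hg1, hx1u ▸ hwu, hgood⟩
  refine ⟨x2, h2, hh2, hc2, hg2, hx2u ▸ hwu, fun ν' hν' => ?_⟩
  push Not at hgood
  obtain ⟨ν, hν⟩ := hgood
  have mod : ∀ {y h : Module.End K V} (hh : h u = μ • u) {ν : K}, y u = w → (∀ v, y (h v) = g v) →
      (Submodule.span K {u}).mapQ (Submodule.span K {u}) h (invariant_line hh) = ν • 1 →
      ∀ v, g v - ν • y v ∈ Submodule.span K {w} := fun {y h} hh {ν} hyu hyh hν v => by
    have h0 := LinearMap.congr_fun hν (Submodule.Quotient.mk v)
    rw [Submodule.mapQ_apply, LinearMap.smul_apply, Module.End.one_apply, ← Submodule.Quotient.mk_smul,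
      Submodule.Quotient.eq] at h0
    obtain ⟨c, hc⟩ := Submodule.mem_span_singleton.1 h0
    refine Submodule.mem_span_singleton.2 ⟨c, ?_⟩
    rw [← hyh v, ← map_smul, ← map_sub, ← hc, map_smul, hyu]
  have key : ∀ v, (ν - ν') • x1 v - (ν' * ζ (x1 v)) • u ∈ Submodule.span K {w} := fun v => by
    have := add_mem (sub_mem (mod hh2 hx2u hg2' hν' v) (mod hh1 hx1u hg1' hν v))
      (Submodule.smul_mem _ ν' (hx2 v))
    convert this using 1
    module
  obtain ⟨x1', hx1', -⟩ := exists_inverse (f := x1) (by rwa [hc1.det_eq])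
  have key' := key (x1' z)
  rw [hx1', hζz, mul_one] at key'
  by_cases hνν : ν = ν'
  · rw [hνν, sub_self, zero_smul, zero_sub, ← neg_smul] at key'
    have hν0 : -ν' ≠ 0 := fun e => by
      rw [neg_eq_zero] at e
      obtain ⟨g', hg', -⟩ := exists_inverse hdg
      refine hz (Submodule.span_mono (by simp : ({w} : Set V) ⊆ {u, w}) ?_)
      have := mod hh2 hx2u hg2' hν' (g' z)
      rwa [e, zero_smul, sub_zero, hg'] at this
    obtain ⟨c, hc⟩ := Submodule.mem_span_singleton.1 key'
    rcases eq_or_ne c 0 with rfl | hc0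
    · rw [zero_smul, eq_comm, smul_eq_zero] at hc
      exact hu (hc.resolve_left hν0)
    · refine hwu (Submodule.mem_span_singleton.2 ⟨c⁻¹ * -ν', ?_⟩)
      rw [mul_smul, ← hc, smul_smul, inv_mul_cancel₀ hc0, one_smul]
  · refine hz ?_
    have h4 := add_mem (Submodule.span_mono (by simp : ({w} : Set V) ⊆ {u, w}) key')
      (Submodule.smul_mem _ ν' (Submodule.subset_span (by simp : u ∈ ({u, w} : Set V))))
    rw [sub_add_cancel] at h4
    exact (Submodule.smul_mem_iff _ (sub_ne_zero.2 hνν)).1 h4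

end CfsgLib.PSLCover
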