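import Cfsg.Agent.Lib.PSLCover.Regular
import Cfsg.Agent.Lib.PSLCover.Line

/-! A cyclic map times one of its conjugates: split cyclic with prescribed eigenvalues. -/

set_option autoImplicit false
set_option linter.unusedSectionVars false

namespace CfsgLib.PSLCover

open Module LinearMap Polynomial
open CfsgLib.SLCommutator (Cyc)

universe u v

variable {K : Type u} [Field K] {V : Type v} [AddCommGroup V] [Module K V] [FiniteDimensional K V]

/-- A triangular basis whose equal consecutive values are linked. -/
theorem regL_triangular {T : Module.End K V} (f : ℕ → V) (l : ℕ → K) {n : ℕ} (hn : finrank K V = n)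
    (hspan : Submodule.span K (f '' Set.Iio n) = ⊤)
    (hT : ∀ i < n, T (f i) - l i • f i ∈ Submodule.span K (f '' Set.Iio i))
    (hlink : ∀ i, i + 1 < n → (∀ j, j ≤ i → l j ≠ l (i + 1)) ∨
      (l i = l (i + 1) ∧ T (f (i + 1)) - l (i + 1) • f (i + 1) - f i ∈ Submodule.span K (f '' Set.Iio i))) :
    RegL T ((List.range n).map l) := by
  classical
  set F : ℕ → Submodule K V := fun i => Submodule.span K (f '' Set.Iio i) with hF
  have hmono : ∀ {i j}, i ≤ j → F i ≤ F j := fun h => Submodule.span_mono (Set.image_mono (Set.Iio_subset_Iio h))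
  have hmem : ∀ {i j}, i < j → f i ∈ F j := fun h => Submodule.subset_span ⟨_, h, rfl⟩
  have hTF : ∀ i ≤ n, ∀ v ∈ F i, T v ∈ F i := by
    intro i hi v hv
    induction hv using Submodule.span_induction with
    | mem x hx =>
      obtain ⟨j, hj, rfl⟩ := hx
      have h1 := hmono (Set.mem_Iio.1 hj).le (hT j (by simp at hj; omega))
      simpa using add_mem h1 ((F i).smul_mem (l j) (hmem (Set.mem_Iio.1 hj)))
    | zero => simp
    | add x y _ _ hx hy => rw [map_add]; exact add_mem hx hy
    | smul a x _ hx => rw [map_smul]; exact (F i).smul_mem a hx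
  -- coordinates
  have hli : LinearIndependent K fun i : Fin n => f i := by
    have hr : Set.range (fun i : Fin n => f i) = f '' Set.Iio n := by
      ext x
      simp only [Set.mem_image, Set.mem_Iio, Set.mem_range]
      exact ⟨fun ⟨i, e⟩ => ⟨i, i.2, e⟩, fun ⟨i, hi, e⟩ => ⟨⟨i, hi⟩, e⟩⟩
    exact linearIndependent_of_top_le_span_of_card_eq_finrank (hr.symm ▸ hspan.ge) (by rw [Fintype.card_fin]; exact hn.symm)
  have hnot : ∀ i < n, f i ∉ F i := fun i hi h => by
    have := hli.notMem_span_image (s := {j : Fin n | (j : ℕ) < i}) (x := ⟨i, hi⟩) (by simp)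
    refine this (Submodule.span_mono ?_ h)
    rintro _ ⟨j, hj, rfl⟩
    exact ⟨⟨j, by simp at hj; omega⟩, by simpa using hj, rfl⟩
  have hsucc : ∀ i, ∀ v ∈ F (i + 1), ∃ a : K, ∃ p ∈ F i, v = a • f i + p := fun i v hv => by
    have e : F (i + 1) = Submodule.span K {f i} ⊔ F i := by
      have hs : Set.Iio (i + 1) = insert i (Set.Iio i) := by ext j; simp
      show Submodule.span K (f '' Set.Iio (i + 1)) = _ ⊔ Submodule.span K (f '' Set.Iio i)
      rw [hs, Set.image_insert_eq, Submodule.span_insert]
    rw [e, Submodule.mem_sup] at hv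
    obtain ⟨y, hy, p, hp, rfl⟩ := hv
    obtain ⟨a, rfl⟩ := Submodule.mem_span_singleton.1 hy
    exact ⟨a, p, hp, rfl⟩
  refine ⟨by simp [hn], ?_, ?_⟩
  · rw [← aeval_rootPoly]
    have key : ∀ i ≤ n, ∀ v ∈ F i, aeval T (rootPoly ((List.range i).map l)) v = 0 := by
      intro i
      induction i with
      | zero =>
        intro _ v hv
        have : F 0 = ⊥ := by simp [hF]
        rw [this, Submodule.mem_bot] at hv
        rw [hv, map_zero]
      | succ i ih =>
        intro hi v hv
        obtain ⟨a, p, hp, rfl⟩ := hsucc i v hv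
        have e : rootPoly ((List.range (i + 1)).map l) = rootPoly ((List.range i).map l) * (X - C (l i)) := by
          simp [rootPoly, List.range_succ]
        rw [e, map_mul, Module.End.mul_apply]
        refine ih (by omega) _ ?_
        simp only [map_sub, aeval_X, aeval_C, Algebra.algebraMap_eq_smul_one, RegUnipProd.sub_smul_one_apply,
          map_add, map_smul]
        have h1 := (F i).smul_mem a (hT i (by omega))
        have h2 := sub_mem (hTF i (by omega) p hp) ((F i).smul_mem (l i) hp)
        convert add_mem h1 h2 using 1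
        all_goals module
    refine LinearMap.ext fun v => key n le_rfl v ?_
    show v ∈ Submodule.span K (f '' Set.Iio n)
    rw [hspan]; exact Submodule.mem_top
  · -- eigenvectors
    intro r v w hv hw hw0
    have low : ∀ i < n, ∀ p ∈ F (i + 1), T p = r • p → p ∉ F i → r = l i ∧ ∀ j < i, l j ≠ l i := by
      intro i hi p hp hTp hpi
      obtain ⟨a, q, hq, rfl⟩ := hsucc i p hp
      have ha : a ≠ 0 := fun e => hpi (by rw [e, zero_smul, zero_add]; exact hq)
      have h1 : (l i - r) • (a • f i) ∈ F i := by
        have := add_mem ((F i).smul_mem a (hT i hi)) (sub_mem (hTF i hi.le q hq) ((F i).smul_mem r hq))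
        rw [map_add, map_smul] at hTp
        have e : (l i - r) • (a • f i) + (a • (T (f i) - l i • f i) + (T q - r • q)) = 0 := by
          rw [← sub_eq_zero] at hTp; rw [← hTp]; module
        rw [eq_neg_of_add_eq_zero_left e]
        exact neg_mem this
      have hr : r = l i := by
        by_contra hne
        rw [smul_smul, Submodule.smul_mem_iff _ (mul_ne_zero (sub_ne_zero.2 (Ne.symm hne)) ha)] at h1
        exact hnot i hi h1
      refine ⟨hr, fun j hj hjl => ?_⟩
      obtain ⟨k, rfl⟩ : ∃ k, i = k + 1 := ⟨i - 1, by omega⟩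
      rcases hlink k hi with h | ⟨hlk, hlink'⟩
      · exact h j (by omega) hjl
      obtain ⟨b, q', hq', rfl⟩ := hsucc k q hq
      have e2 : a • f k ∈ F k := by
        have h3 := add_mem (add_mem ((F k).smul_mem a hlink') ((F k).smul_mem b (hT k (by omega))))
          (sub_mem (hTF k (by omega) q' hq') ((F k).smul_mem r hq'))
        rw [map_add, map_smul, map_add, map_smul, hr, ← sub_eq_zero] at hTp
        rw [hlk, hr] at h3
        have e : a • f k + (a • (T (f (k + 1)) - l (k + 1) • f (k + 1) - f k) + b • (T (f k) - l (k + 1) • f k) +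
            (T q' - l (k + 1) • q')) = 0 := by rw [← hTp]; module
        rw [eq_neg_of_add_eq_zero_left e]
        exact neg_mem h3
      exact hnot k (by omega) ((Submodule.smul_mem_iff _ ha).1 e2)
    have top : ∀ p : V, p ≠ 0 → T p = r • p → ∃ i < n, p ∈ F (i + 1) ∧ p ∉ F i := fun p hp hTp => by
      have h : p ∈ F n := by show p ∈ Submodule.span K (f '' Set.Iio n); rw [hspan]; exact Submodule.mem_top
      have h0 : p ∉ F 0 := by simpa [hF] using hp
      obtain ⟨i, hi1, hi2⟩ : ∃ i, p ∉ F i ∧ p ∈ F (i + 1) := by
        by_contra hc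
        push Not at hc
        have : ∀ i, p ∉ F i := fun i => by
          induction i with
          | zero => exact h0
          | succ i ih => exact hc i ih
        exact this n h
      exact ⟨i, by by_contra hge; exact hi1 (hmono (by omega) h), hi2, hi1⟩
    rcases eq_or_ne v 0 with rfl | hv0
    · exact zero_mem _
    obtain ⟨i, hi, hwi, hwi'⟩ := top w hw0 hw
    obtain ⟨hri, hfirst⟩ := low i hi w hwi hw hwi'
    obtain ⟨a, q, hq, hwq⟩ := hsucc i w hwi
    have ha : a ≠ 0 := fun e => hwi' (by rw [hwq, e, zero_smul, zero_add]; exact hq)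
    obtain ⟨k, hk, hvk, hvk'⟩ := top v hv0 hv
    obtain ⟨hrk, hfirst'⟩ := low k hk v hvk hv hvk'
    obtain rfl : k = i := by
      rcases lt_trichotomy k i with h | h | h
      · exact absurd (hrk.symm.trans hri) (hfirst k h)
      · exact h
      · exact absurd (hri.symm.trans hrk) (hfirst' i h)
    obtain ⟨b, q', hq', hvq⟩ := hsucc k v hvk
    refine Submodule.mem_span_singleton.2 ⟨b / a, ?_⟩
    by_contra hne
    set d := v - (b / a) • w with hd
    have hd0 : d ≠ 0 := sub_ne_zero.2 (Ne.symm hne)
    have hdT : T d = r • d := by rw [hd, map_sub, map_smul, hv, hw, smul_sub, smul_comm]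
    have hdi : d ∈ F k := by
      have : d = q' - (b / a) • q := by
        rw [hd, hvq, hwq, smul_add, smul_smul, div_mul_cancel₀ b ha]; abel
      rw [this]
      exact sub_mem hq' ((F k).smul_mem _ hq)
    obtain ⟨j, hj, hjd, hjd'⟩ := top d hd0 hdT
    have hji : j < k := by
      by_contra hge
      exact hjd' (hmono (by omega) hdi)
    exact hfirst j hji ((low j hj d hjd hdT hjd').1.symm.trans hrk)

theorem det_triangular {T : Module.End K V} {n : ℕ} (B : Basis (Fin n) K V) (l : Fin n → K)
    (h : ∀ i, T (B i) - l i • B i ∈ Submodule.span K (B '' {j | j < i})) : LinearMap.det T = ∏ i, l i := by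
  classical
  rw [← LinearMap.det_toMatrix B]
  have hz : ∀ i j : Fin n, i ≥ j → B.repr (T (B j) - l j • B j) i = 0 := fun i j hij => by
    refine Finsupp.notMem_support_iff.1 fun hm => ?_
    have := (B.mem_span_image.1 (h j)) hm
    exact absurd (Set.mem_setOf.1 this) (not_lt.2 hij)
  rw [Matrix.det_of_upperTriangular]
  · refine Finset.prod_congr rfl fun i _ => ?_
    have := hz i i le_rfl
    simpa [sub_eq_zero, LinearMap.toMatrix_apply] using this
  · intro i j hij
    have := hz i j (le_of_lt hij)
    simpa [LinearMap.toMatrix_apply, Finsupp.single_apply, (ne_of_lt hij : j ≠ i)] using this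

/-- A conjugate `y` with `x * y` regular split for the values `l`, whose first eigenvector `y` moves. -/
theorem exists_ky {x : Module.End K V} {v0 : V} (hx : Cyc x v0) (hdx : LinearMap.det x ≠ 0) {m : ℕ} (hm : 1 ≤ m)
    (hn : finrank K V = m + 1) (l : ℕ → K)
    (hprod : ∏ i ∈ Finset.range (m + 1), l i = LinearMap.det x * LinearMap.det x)
    (hlast : ∀ i < m, l i ≠ l m)
    (hl : ∀ i, i + 1 < m → (∀ j, j ≤ i → l j ≠ l (i + 1)) ∨ l i = l (i + 1)) :
    ∃ (y : Module.End K V) (u : V) (g : V ≃ₗ[K] V), (∀ p, y (g p) = g (x p)) ∧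
      (m = 3 → LinearMap.det (g : V →ₗ[K] V) = ∏ i ∈ Finset.range (m + 1), ∏ k ∈ Finset.range i, l k) ∧
      RegL (x * y) ((List.range (m + 1)).map l) ∧
      u ≠ 0 ∧ (x * y) u = l 0 • u ∧ y u ∉ Submodule.span K {u} := by
  classical
  have hl0 : ∀ i < m + 1, l i ≠ 0 := fun i hi e => by
    rw [Finset.prod_eq_zero (Finset.mem_range.2 hi) e] at hprod
    exact mul_ne_zero hdx hdx hprod.symm
  -- the companion basis
  obtain ⟨φ, hφ, hφx⟩ : ∃ B : Basis (Fin (m + 1)) K V, B 0 = v0 ∧
      ∀ i : Fin m, x (B i.castSucc) = B i.succ := by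
    have hq := minpoly.monic (Algebra.IsIntegral.isIntegral (R := K) x)
    have hli : LinearIndependent K fun i : Fin (m + 1) => (x ^ (i : ℕ)) v0 := by
      refine linearIndependent_of_top_le_span_of_card_eq_finrank ?_ (by simp [hn])
      have hchar : ∀ k, (x ^ k) v0 ∈ Submodule.span K (Set.range fun i : Fin (m + 1) => (x ^ (i : ℕ)) v0) := by
        intro k
        have h0 : (x ^ k) v0 = aeval x ((X : K[X]) ^ k %ₘ x.charpoly) v0 := by
          rw [modByMonic_eq_sub_mul_div _ x.charpoly, map_sub, map_mul, LinearMap.aeval_self_charpoly, zero_mul,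
            sub_zero, map_pow, aeval_X]
        rw [h0, aeval_eq_sum_range' (n := m + 1) ?_, LinearMap.sum_apply]
        · refine Submodule.sum_mem _ fun i hi => ?_
          rw [LinearMap.smul_apply]
          exact Submodule.smul_mem _ _ (Submodule.subset_span ⟨⟨i, Finset.mem_range.1 hi⟩, rfl⟩)
        · have h1 := natDegree_modByMonic_lt ((X : K[X]) ^ k) x.charpoly_monic
            (fun e => by
              have := x.charpoly_natDegree
              rw [e, natDegree_one, hn] at this; omega)
          rw [x.charpoly_natDegree, hn] at h1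
          exact h1
      refine le_of_eq (hx _ ?_ (by simpa using hchar 0)).symm
      intro w hw
      induction hw using Submodule.span_induction with
      | mem p hp =>
        obtain ⟨i, rfl⟩ := hp
        simpa [pow_succ'] using hchar ((i : ℕ) + 1)
      | zero => simp
      | add p q _ _ hp hq => rw [map_add]; exact add_mem hp hq
      | smul a p _ hp => rw [map_smul]; exact Submodule.smul_mem _ a hp
    refine ⟨basisOfLinearIndependentOfCardEqFinrank hli (by simp [hn]), by simp, fun i => ?_⟩
    simp [pow_succ']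
  let e : ℕ → V := fun j => if h : j < m + 1 then φ ⟨j, h⟩ else 0
  have he : ∀ i : Fin (m + 1), e i = φ i := fun i => by simp only [e, i.2, dif_pos, Fin.eta]
  have hxe : ∀ j < m, x (e j) = e (j + 1) := fun j hj => by
    have := hφx ⟨j, hj⟩
    rw [← he, ← he] at this
    simpa using this
  -- the weights
  let lam : ℕ → K := fun j => l (m - j)
  let nu : ℕ → K := fun j => if j < m ∧ l (m - j - 1) = l (m - j) then 1 else 0
  let Y0 : Module.End K V := φ.constr K fun i : Fin (m + 1) =>
    if (i : ℕ) = 0 then 0 else lam i • e ((i : ℕ) - 1) + nu i • e i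
  have hY0 : ∀ j, 1 ≤ j → j ≤ m → Y0 (e j) = lam j • e (j - 1) + nu j • e j := fun j h1 h2 => by
    conv_lhs => rw [show e j = φ ⟨j, by omega⟩ from he ⟨j, by omega⟩, Basis.constr_basis]
    simp [show j ≠ 0 by omega]
  let P : ℕ → K := fun i => ∏ k ∈ Finset.range i, lam (m - k)
  have hP : ∀ i ≤ m, P i ≠ 0 := fun i hi => Finset.prod_ne_zero_iff.2 fun k hk => by
    simp only [Finset.mem_range] at hk
    exact hl0 _ (by omega)
  let w : ℕ → V := fun i => (Y0 ^ i) (e m)
  let F : ℕ → Submodule K V := fun j => Submodule.span K (e '' Set.Ioc j m)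
  have hFmem : ∀ j k, j < k → k ≤ m → e k ∈ F j := fun j k h1 h2 => Submodule.subset_span ⟨k, ⟨h1, h2⟩, rfl⟩
  have hw : ∀ i ≤ m, w i - P i • e (m - i) ∈ F (m - i) := by
    intro i
    induction i with
    | zero => intro _; simp [w, P]
    | succ i ih =>
      intro hi
      have h1 := ih (by omega)
      have hmap : ∀ p ∈ F (m - i), Y0 p ∈ F (m - (i + 1)) := by
        intro p hp
        induction hp using Submodule.span_induction with
        | mem x hx =>
          obtain ⟨k, ⟨hk1, hk2⟩, rfl⟩ := hx
          rw [hY0 k (by omega) hk2]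
          exact add_mem (Submodule.smul_mem _ _ (hFmem _ _ (by omega) (by omega)))
            (Submodule.smul_mem _ _ (hFmem _ _ (by omega) hk2))
        | zero => simp
        | add a b _ _ ha hb => rw [map_add]; exact add_mem ha hb
        | smul a b _ hb => rw [map_smul]; exact Submodule.smul_mem _ a hb
      have h2 := hmap _ h1
      rw [map_sub, map_smul, hY0 (m - i) (by omega) (by omega)] at h2
      have h3 : (P i * nu (m - i)) • e (m - i) ∈ F (m - (i + 1)) :=
        Submodule.smul_mem _ _ (hFmem _ _ (by omega) (by omega))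
      have e1 : w (i + 1) - P (i + 1) • e (m - (i + 1)) =
          (Y0 (w i) - P i • (lam (m - i) • e (m - i - 1) + nu (m - i) • e (m - i))) + (P i * nu (m - i)) • e (m - i) := by
        simp only [w, P, pow_succ', Module.End.mul_apply, Finset.prod_range_succ, show m - i - 1 = m - (i + 1) by omega]
        module
      rw [e1]
      exact add_mem h2 h3
  -- the last column
  set q := x.charpoly with hq
  have hqd : q.natDegree = m + 1 := by rw [hq, LinearMap.charpoly_natDegree, hn]
  let y0 : V := (P m)⁻¹ • (-(Y0 (w m)) - ∑ i ∈ Finset.range (m + 1), q.coeff i • w i)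
  let Y : Module.End K V := Y0 + (φ.coord 0).smulRight y0
  have hcoord : ∀ j k, k ≤ m → j < k → φ.coord 0 (e k) = 0 := fun j k hk hjk => by
    have : e k = φ ⟨k, by omega⟩ := he ⟨k, by omega⟩
    simp [this, Finsupp.single_apply, Fin.ext_iff, show k ≠ 0 by omega]
  have hcF : ∀ j, ∀ p ∈ F j, φ.coord 0 p = 0 := fun j p hp => by
    induction hp using Submodule.span_induction with
    | mem x hx => obtain ⟨k, ⟨h1, h2⟩, rfl⟩ := hx; exact hcoord j k h2 h1
    | zero => simp
    | add a b _ _ ha hb => rw [map_add, ha, hb, add_zero]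
    | smul a b _ hb => rw [map_smul, hb, smul_zero]
  have he0 : φ.coord 0 (e 0) = 1 := by
    have : e 0 = φ 0 := he 0
    simp [this]
  have hYw : ∀ i ≤ m, (Y ^ i) (e m) = w i := by
    intro i
    induction i with
    | zero => intro _; simp [w]
    | succ i ih =>
      intro hi
      have h0 : φ.coord 0 (w i) = 0 := by
        have := hcF _ _ (hw i (by omega))
        rw [map_sub, map_smul, hcoord 0 (m - i) (by omega) (by omega), smul_zero, sub_zero] at this
        exact this
      rw [pow_succ', Module.End.mul_apply, ih (by omega)]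
      simp only [Y, w, LinearMap.add_apply, LinearMap.smulRight_apply, pow_succ', Module.End.mul_apply] at h0 ⊢
      rw [h0, zero_smul, add_zero]
  have hwm : φ.coord 0 (w m) = P m := by
    have := hcF _ _ (hw m le_rfl)
    rw [map_sub, map_smul, Nat.sub_self, he0, smul_eq_mul, mul_one, sub_eq_zero] at this
    exact this
  have hann : aeval Y q (e m) = 0 := by
    rw [aeval_eq_sum_range, hqd, Finset.sum_range_succ, LinearMap.add_apply, LinearMap.sum_apply]
    have hlead : q.coeff (m + 1) = 1 := by rw [← hqd]; exact (LinearMap.charpoly_monic x).coeff_natDegree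
    rw [hlead, one_smul, pow_succ', Module.End.mul_apply, hYw m le_rfl]
    have : ∀ i ∈ Finset.range (m + 1), (q.coeff i • Y ^ i) (e m) = q.coeff i • w i := fun i hi => by
      rw [LinearMap.smul_apply, hYw i (by simp at hi; omega)]
    rw [Finset.sum_congr rfl this]
    simp only [Y, LinearMap.add_apply, LinearMap.smulRight_apply, hwm, y0, smul_smul,
      mul_inv_cancel₀ (hP m le_rfl), one_smul]
    abel
  have hcycY : Cyc Y (e m) := fun p hp hmp => by
    have hpow : ∀ i, (Y ^ i) (e m) ∈ p := fun i => by
      induction i with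
      | zero => simpa using hmp
      | succ i ih => rw [pow_succ', Module.End.mul_apply]; exact hp _ ih
    have hall : ∀ i ≤ m, ∀ k, m - i ≤ k → k ≤ m → e k ∈ p := by
      intro i
      induction i with
      | zero => intro _ k h1 h2; obtain rfl : k = m := (by omega); exact hmp
      | succ i ih =>
        intro hi k h1 h2
        rcases Nat.lt_or_ge k (m - i) with h | h
        swap
        · exact ih (by omega) k h h2
        obtain rfl : k = m - (i + 1) := by omega
        have h3 : F (m - (i + 1)) ≤ p := Submodule.span_le.2 fun _ ⟨j, ⟨hj1, hj2⟩, hj⟩ =>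
          hj ▸ ih (by omega) j (by omega) hj2
        have h4 := p.sub_mem (hYw (i + 1) hi ▸ hpow (i + 1)) (h3 (hw (i + 1) hi))
        rw [sub_sub_cancel, Submodule.smul_mem_iff _ (hP (i + 1) hi)] at h4
        exact h4
    rw [eq_top_iff, ← φ.span_eq, Submodule.span_le]
    rintro _ ⟨i, rfl⟩
    exact he i ▸ hall m le_rfl i (by omega) (by omega)
  obtain ⟨g, hgv, hg⟩ := conj_of_cyclic hx hcycY (LinearMap.charpoly_monic x) (by rw [LinearMap.charpoly_natDegree])
    (by rw [LinearMap.charpoly_natDegree]) (by rw [LinearMap.aeval_self_charpoly, LinearMap.zero_apply]) hann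
  have hconj : ConjIn (Set.univ : Set K) x Y := ⟨g, Set.mem_univ _, hg⟩
  have hdet : m = 3 → LinearMap.det (g : V →ₗ[K] V) = ∏ i ∈ Finset.range (m + 1), ∏ k ∈ Finset.range i, l k := by
    intro hm3
    have hge : ∀ j (hj : j ≤ m), g (e j) = w j := by
      intro j
      induction j with
      | zero =>
        intro _
        have : e 0 = v0 := by rw [← hφ]; exact he 0
        rw [this, hgv]; simp [w]
      | succ j ih =>
        intro hj
        rw [← hxe j (by omega), ← hg, ih (by omega), ← hYw j (by omega), ← hYw (j + 1) hj, pow_succ',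
          Module.End.mul_apply]
    let R : V ≃ₗ[K] V := φ.equiv φ Fin.revPerm
    have hR : LinearMap.det (R : V →ₗ[K] V) = 1 := by
      rw [← LinearMap.det_toMatrix φ, show LinearMap.toMatrix φ φ (R : V →ₗ[K] V) =
        (Fin.revPerm : Equiv.Perm (Fin (m + 1))).permMatrix K from ?_, Matrix.det_permutation]
      · subst hm3
        rw [show Equiv.Perm.sign (Fin.revPerm : Equiv.Perm (Fin 4)) = 1 by decide]
        simp
      · ext i j
        simp [LinearMap.toMatrix_apply, R, Finsupp.single_apply, PEquiv.toMatrix_apply, eq_comm]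
        exact if_congr ⟨fun h => by rw [h, Fin.rev_rev], fun h => by rw [h, Fin.rev_rev]⟩ rfl rfl
    let C : Basis (Fin (m + 1)) K V := φ.reindex Fin.revPerm
    have hC : ∀ i : Fin (m + 1), C i = e (m - i) := fun i => by
      simp only [C, Basis.reindex_apply, Fin.revPerm_symm, Fin.revPerm_apply]
      rw [← he, Fin.val_rev]
      congr 1
      omega
    have hd := det_triangular (T := (g : V →ₗ[K] V) * (R : V →ₗ[K] V)) C
      (fun i : Fin (m + 1) => ∏ k ∈ Finset.range (i : ℕ), l k) fun i => by
        have hRi : R (C i) = e i := by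
          simp only [R, C, Basis.reindex_apply, Fin.revPerm_symm, Basis.equiv_apply, Fin.revPerm_apply, Fin.rev_rev]
          exact (he i).symm
        rw [Module.End.mul_apply, LinearEquiv.coe_coe, LinearEquiv.coe_coe, hRi, hge i (by omega), hC]
        have hset : F (m - i) ≤ Submodule.span K (C '' {j | j < i}) := Submodule.span_le.2 fun _ ⟨k, ⟨hk1, hk2⟩, hk⟩ =>
          hk ▸ Submodule.subset_span ⟨⟨m - k, by omega⟩, Fin.lt_def.2 (show m - k < (i : ℕ) by omega),
            by rw [hC]; congr 1; show m - (m - k) = k; omega⟩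
        have hPi : (∏ k ∈ Finset.range (i : ℕ), l k) = P i := Finset.prod_congr rfl fun k hk => by
          simp only [Finset.mem_range] at hk
          simp only [lam]; congr 1; omega
        rw [hPi]
        exact hset (hw i (by omega))
    rw [map_mul, hR, mul_one] at hd
    rw [hd, Finset.prod_range fun i => ∏ k ∈ Finset.range i, l k]
  -- the product
  let f : ℕ → V := fun i => e (m - i)
  have hT : ∀ i < m, (x * Y) (f i) = l i • f i + (if 0 < i ∧ l (i - 1) = l i then f (i - 1) else 0) := fun i hi => by
    have h1 := hY0 (m - i) (by omega) (by omega)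
    have h2 : φ.coord 0 (e (m - i)) = 0 := hcoord 0 _ (by omega) (by omega)
    have hY : Y (e (m - i)) = lam (m - i) • e (m - i - 1) + nu (m - i) • e (m - i) := by
      simp only [Y, LinearMap.add_apply, LinearMap.smulRight_apply, h1, h2, zero_smul, add_zero]
    simp only [f, Module.End.mul_apply, hY, map_add, map_smul]
    rw [hxe (m - i - 1) (by omega), show m - i - 1 + 1 = m - i by omega]
    simp only [lam, nu, show m - (m - i) = i by omega]
    by_cases h0 : 0 < i
    · rw [hxe (m - i) (by omega), show m - i + 1 = m - (i - 1) by omega]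
      have e1 : m - (m - i) - 1 = i - 1 := by omega
      by_cases h3 : l (i - 1) = l i
      · rw [if_pos ⟨by omega, h3⟩, if_pos ⟨h0, h3⟩, one_smul]
      · rw [if_neg (fun h => h3 h.2), if_neg (fun h => h3 h.2), zero_smul]
    · rw [if_neg (fun h => by omega), zero_smul, if_neg (fun h => h0 h.1)]
  have hspanf : Submodule.span K (f '' Set.Iio (m + 1)) = ⊤ := by
    rw [eq_top_iff, ← φ.span_eq, Submodule.span_le]
    rintro _ ⟨i, rfl⟩
    refine Submodule.subset_span ⟨m - i, by simp, ?_⟩
    simp only [f, show m - (m - (i : ℕ)) = i by omega]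
    exact he i
  let B : Basis (Fin (m + 1)) K V := φ.reindex Fin.revPerm
  have hB : ∀ i : Fin (m + 1), B i = f i := fun i => by
    simp only [B, Basis.reindex_apply, f, Fin.revPerm_symm, Fin.revPerm_apply]
    rw [← he, Fin.val_rev]
    congr 1
    omega
  set δ := B.repr ((x * Y) (f m)) (Fin.last m) with hδ
  have hTm : (x * Y) (f m) - δ • f m ∈ Submodule.span K (f '' Set.Iio m) := by
    have e1 := B.sum_repr ((x * Y) (f m))
    rw [Fin.sum_univ_castSucc, hB, ← hδ] at e1
    rw [← e1, Fin.val_last, add_sub_cancel_right]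
    exact Submodule.sum_mem _ fun i _ => Submodule.smul_mem _ _ (Submodule.subset_span ⟨i, i.2, by rw [hB, Fin.val_castSucc]⟩)
  have hTi : ∀ i < m, (x * Y) (f i) - l i • f i ∈ Submodule.span K (f '' Set.Iio i) := fun i hi => by
    rw [hT i hi, add_sub_cancel_left]
    split_ifs with h
    · exact Submodule.subset_span ⟨i - 1, by simp; omega, rfl⟩
    · exact zero_mem _
  have hδl : δ = l m := by
    have hd := det_triangular (T := x * Y) B (fun i => if (i : ℕ) < m then l i else δ) fun i => by
      have hset : B '' {j | j < i} = f '' Set.Iio (i : ℕ) := by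
        ext p
        constructor
        · rintro ⟨j, hj, rfl⟩; exact ⟨j, hj, (hB j).symm⟩
        · rintro ⟨j, hj, rfl⟩
          exact ⟨⟨j, lt_trans (Set.mem_Iio.1 hj) i.2⟩, Fin.lt_def.2 (Set.mem_Iio.1 hj), hB _⟩
      rw [hset, hB]
      split_ifs with h
      · exact hTi i h
      · rw [show (i : ℕ) = m by omega]; exact hTm
    rw [map_mul, ConjIn.det_eq (H := Set.univ) hconj, Fin.prod_univ_castSucc, ← hprod, Finset.prod_range_succ,
      Finset.prod_range fun i => l i] at hd
    simp only [Fin.val_castSucc, Fin.is_lt, if_true, Fin.val_last, lt_irrefl, if_false] at hd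
    exact (mul_left_cancel₀ (Finset.prod_ne_zero_iff.2 fun (i : Fin m) _ =>
      hl0 (i : ℕ) (lt_trans i.2 (Nat.lt_succ_self m))) hd).symm
  refine ⟨Y, f 0, g, hg, hdet, regL_triangular f l hn hspanf (fun i hi => ?_) (fun i hi => ?_), ?_, ?_, ?_⟩
  · rcases Nat.lt_or_ge i m with h | h
    · exact hTi i h
    · obtain rfl : i = m := by omega
      exact hδl ▸ hTm
  · rcases Nat.lt_or_ge (i + 1) m with h | h
    · rcases hl i h with h' | h'
      · exact Or.inl h'
      · refine Or.inr ⟨h', ?_⟩
        rw [hT (i + 1) h, if_pos ⟨by omega, by simpa using h'⟩, add_sub_cancel_left, Nat.add_sub_cancel, sub_self]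
        exact zero_mem _
    · left
      intro j hj
      rw [show i + 1 = m by omega]
      exact hlast j (by omega)
  · show e (m - 0) ≠ 0
    rw [Nat.sub_zero, show e m = φ (Fin.last m) from he (Fin.last m)]
    exact φ.ne_zero _
  · rw [hT 0 (by omega), if_neg (by simp), add_zero]
  · intro h
    obtain ⟨a, ha⟩ := Submodule.mem_span_singleton.1 h
    have hY : Y (e m) = lam m • e (m - 1) + nu m • e m := by
      simp only [Y, LinearMap.add_apply, LinearMap.smulRight_apply, hY0 m hm le_rfl, hcoord 0 m le_rfl (by omega),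
        zero_smul, add_zero]
    simp only [f, Nat.sub_zero, hY, nu, lt_irrefl, false_and, if_false, zero_smul, add_zero] at ha
    have := congrArg (fun p => φ.repr p ⟨m - 1, by omega⟩) ha
    rw [show e m = φ (Fin.last m) from he (Fin.last m), show e (m - 1) = φ ⟨m - 1, by omega⟩ from he ⟨m - 1, by omega⟩] at this
    simp [Finsupp.single_apply, Fin.ext_iff, show m ≠ m - 1 by omega, lam] at this
    exact hl0 _ (by omega) this.symm

end CfsgLib.PSLCover
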