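import Cfsg.Agent.Lib.PSLCover.KY

/-! Every non-scalar map of determinant one as a product of two split cyclic maps. -/

set_option autoImplicit false
set_option linter.unusedSectionVars false

namespace CfsgLib.PSLCover

open Module LinearMap
open scoped Matrix

universe u v

variable {K : Type u} [Field K] {V : Type v} [AddCommGroup V] [Module K V] [FiniteDimensional K V]

theorem regL_unipotent {T : Module.End K V} {j : ℕ} (hj : finrank K V = j) (h0 : (T - 1) ^ j = 0)
    (h1 : 0 < j → (T - 1) ^ (j - 1) ≠ 0) : RegL T (List.replicate j 1) := by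
  refine ⟨by simp [hj], by simp [h0], fun r v w hv hw hw0 => ?_⟩
  rcases Nat.eq_zero_or_pos j with rfl | hj0
  · exact absurd (finrank_zero_iff_forall_zero.1 hj w) hw0
  set N := T - 1 with hN
  have hrank : ∀ k, k + 1 ≤ j → k + 1 ≤ finrank K (LinearMap.range (N ^ (j - 1 - k))) := by
    intro k
    induction k with
    | zero =>
      intro _
      by_contra h
      rw [Nat.sub_zero] at h
      exact h1 hj0 (LinearMap.range_eq_bot.1 (Submodule.finrank_eq_zero.1 (by omega)))
    | succ k ih =>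
      intro hk
      have hlt : LinearMap.range (N ^ (j - 1 - k)) < LinearMap.range (N ^ (j - 1 - (k + 1))) := by
        obtain ⟨i, hi⟩ : ∃ i, j - 1 - (k + 1) = i ∧ j - 1 - k = i + 1 := ⟨_, rfl, by omega⟩
        rw [hi.1, hi.2]
        refine lt_of_le_of_ne (by rintro _ ⟨p, rfl⟩; exact ⟨N p, by rw [pow_succ]; rfl⟩) fun e => ?_
        have key : ∀ t, LinearMap.range (N ^ i) ≤ LinearMap.range (N ^ (i + t)) := by
          intro t
          induction t with
          | zero => exact le_rfl
          | succ t iht =>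
            refine iht.trans ?_
            rintro _ ⟨p, rfl⟩
            obtain ⟨q, hq⟩ : (N ^ i) p ∈ LinearMap.range (N ^ (i + 1)) := e ▸ LinearMap.mem_range_self _ p
            refine ⟨q, ?_⟩
            rw [show i + (t + 1) = t + (i + 1) by omega, pow_add, Module.End.mul_apply, hq, ← Module.End.mul_apply,
              ← pow_add, Nat.add_comm t i]
        have := key (j - i)
        rw [show i + (j - i) = j by omega, h0, LinearMap.range_zero, le_bot_iff, LinearMap.range_eq_bot] at this
        exact h1 hj0 (by rw [show j - 1 = i + (j - 1 - i) by omega, pow_add, this, zero_mul])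
      have := Submodule.finrank_lt_finrank_of_lt hlt
      have := ih (by omega)
      omega
  have hr : r = 1 := by
    have key : ∀ m, (N ^ m) w = (r - 1) ^ m • w := by
      intro m
      induction m with
      | zero => simp
      | succ m ih =>
        rw [pow_succ', Module.End.mul_apply, ih, map_smul, hN, LinearMap.sub_apply, hw, Module.End.one_apply,
          smul_sub, smul_smul, pow_succ]
        module
    have := key j
    rw [h0, LinearMap.zero_apply, eq_comm, smul_eq_zero, or_iff_left hw0] at this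
    exact sub_eq_zero.1 (pow_eq_zero_iff hj0.ne' |>.1 this)
  subst hr
  have hker : finrank K (LinearMap.ker N) ≤ 1 := by
    have hrn := LinearMap.finrank_range_add_finrank_ker N
    rcases Nat.lt_or_ge j 2 with h | h
    · omega
    · have := hrank (j - 2) (by omega)
      rw [show j - 1 - (j - 2) = 1 by omega, pow_one] at this
      omega
  have hwN : w ∈ LinearMap.ker N := by simp [hN, hw]
  have hspan : Submodule.span K {w} = LinearMap.ker N :=
    Submodule.eq_of_le_of_finrank_le ((Submodule.span_singleton_le_iff_mem _ _).2 hwN)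
      (by rw [finrank_span_singleton hw0]; exact hker)
  rw [hspan]
  simp [hN, hv]

theorem regL_matrix {ι : Type} [Fintype ι] [DecidableEq ι] {A : Matrix ι ι K} {j : ℕ} (hc : Fintype.card ι = j)
    (h0 : (A - 1) ^ j = 0) (h1 : 0 < j → (A - 1) ^ (j - 1) ≠ 0) :
    RegL (Matrix.toLinAlgEquiv' A) (List.replicate j 1) := by
  refine regL_unipotent (by simp [hc]) ?_ fun hj e => h1 hj ?_
  · rw [← map_one (Matrix.toLinAlgEquiv' (R := K) (n := ι)), ← map_sub, ← map_pow, h0, map_zero]
  · rw [← map_one (Matrix.toLinAlgEquiv' (R := K) (n := ι)), ← map_sub, ← map_pow,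
      map_eq_zero_iff _ Matrix.toLinAlgEquiv'.injective] at e
    exact e

theorem regL_two {T : Module.End K V} (hn : finrank K V = 2) {f0 f1 : V} {a b : K}
    (hli : LinearIndependent K ![f0, f1]) (h0 : T f0 = a • f0) (h1 : T f1 = b • f1 + f0) : RegL T [a, b] := by
  have key := regL_triangular (T := T) (fun i => if i = 0 then f0 else f1) (fun i => if i = 0 then a else b) hn ?_ ?_ ?_
  · simpa [List.range_succ] using key
  · rw [eq_top_iff, ← hli.span_eq_top_of_card_eq_finrank (by simp [hn]), Submodule.span_le]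
    rintro _ ⟨i, rfl⟩
    refine Submodule.subset_span ⟨(i : ℕ), i.2, ?_⟩
    fin_cases i <;> simp
  · intro i hi
    interval_cases i
    · simp [h0]
    · simp only [one_ne_zero, if_false, h1, add_sub_cancel_left]
      exact Submodule.subset_span ⟨0, by simp, by simp⟩
  · intro i hi
    obtain rfl : i = 0 := by omega
    by_cases hab : a = b
    · exact Or.inr ⟨by simpa using hab, by simp [h1]⟩
    · exact Or.inl fun j hj => by
        obtain rfl : j = 0 := by omega
        simpa using hab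

theorem two_sim {E C : Matrix (Fin 2) (Fin 2) K} (hE : ∀ x : K, E ≠ x • 1) (hC : ∀ x : K, C ≠ x • 1)
    (hd : E.det = C.det) (ht : E.trace = C.trace) : ∃ P : (Matrix (Fin 2) (Fin 2) K)ˣ, E * P.1 = P.1 * C := by
  have cyc : ∀ E : Matrix (Fin 2) (Fin 2) K, (∀ x : K, E ≠ x • 1) →
      ∃ Q : (Matrix (Fin 2) (Fin 2) K)ˣ, E * Q.1 = Q.1 * !![0, -E.det; 1, E.trace] := by
    intro E hE
    obtain ⟨a, b, hab⟩ : ∃ a b : K, a * (E 1 0 * a + E 1 1 * b) - b * (E 0 0 * a + E 0 1 * b) ≠ 0 := by
      by_contra h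
      push Not at h
      have h10 := h 1 0
      have h01 := h 0 1
      have h11 := h 1 1
      simp at h10 h01
      refine hE (E 0 0) ?_
      ext i k
      fin_cases i <;> fin_cases k <;> simp [h10, h01]
      simp [h10, h01] at h11
      linear_combination h11
    let Q : Matrix (Fin 2) (Fin 2) K := !![a, E 0 0 * a + E 0 1 * b; b, E 1 0 * a + E 1 1 * b]
    have hQ : IsUnit Q := (Matrix.isUnit_iff_isUnit_det _).2 (isUnit_iff_ne_zero.2 (by
      simp only [Q, Matrix.det_fin_two_of]; intro e; exact hab (by linear_combination e)))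
    refine ⟨hQ.unit, ?_⟩
    rw [IsUnit.unit_spec]
    ext i k
    fin_cases i <;> fin_cases k <;>
      simp [Q, Matrix.mul_apply, Fin.sum_univ_two, Matrix.det_fin_two, Matrix.trace_fin_two] <;> ring
  obtain ⟨Q, hQ⟩ := cyc E hE
  obtain ⟨Q', hQ'⟩ := cyc C hC
  refine ⟨Q * Q'⁻¹, ?_⟩
  rw [Units.val_mul, ← mul_assoc, hQ, hd, ht, mul_assoc, mul_assoc]
  congr 1
  rw [← Units.mul_left_inj Q', mul_assoc, Units.inv_mul, mul_one, mul_assoc, hQ', ← mul_assoc, Units.inv_mul, one_mul]

/-- The two factors of a block decomposition. -/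
theorem split_factors {ι κ : Type} [Fintype ι] [DecidableEq ι] [Fintype κ] [DecidableEq κ] {M : Module.End K V}
    (Φ : V ≃ₗ[K] (ι ⊕ κ → K)) {L U : Matrix ι ι K} {Q : Matrix ι κ K} {R : Matrix κ ι K}
    {EL EU : Matrix κ κ K} (hM : ∀ v, Φ (M v) = Matrix.fromBlocks (L * U) (L * Q) (R * U) (R * Q + EL * EU) *ᵥ Φ v)
    {l l' m m' : List K} (hL : RegL (Matrix.toLinAlgEquiv' L) l) (hU : RegL (Matrix.toLinAlgEquiv' U) l')
    (hEL : RegL (Matrix.toLinAlgEquiv' EL) m) (hEU : RegL (Matrix.toLinAlgEquiv' EU) m')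
    (hsL : ∀ (s : K) (p : ι → K) (q : κ → K), L *ᵥ p = s • p → p ≠ 0 → EL *ᵥ q = s • q → q = 0)
    (hsU : ∀ (s : K) (p : ι → K) (q : κ → K), EU *ᵥ q = s • q → q ≠ 0 → U *ᵥ p = s • p → p = 0) :
    ∃ Lf Uf : Module.End K V, M = Lf * Uf ∧ RegL Lf (m ++ l) ∧ RegL Uf (l' ++ m') ∧
      (∀ (s : K) (v : V), Lf v = s • v →
        L *ᵥ (Φ v ∘ Sum.inl) = s • (Φ v ∘ Sum.inl) ∧
        R *ᵥ (Φ v ∘ Sum.inl) + EL *ᵥ (Φ v ∘ Sum.inr) = s • (Φ v ∘ Sum.inr)) ∧
      (∀ (s : K) (v : V), Uf v = s • v →
        EU *ᵥ (Φ v ∘ Sum.inr) = s • (Φ v ∘ Sum.inr) ∧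
        U *ᵥ (Φ v ∘ Sum.inl) + Q *ᵥ (Φ v ∘ Sum.inr) = s • (Φ v ∘ Sum.inl)) := by
  let TL := Matrix.toLinAlgEquiv' (Matrix.fromBlocks L 0 R EL)
  let TU := Matrix.toLinAlgEquiv' (Matrix.fromBlocks U Q 0 EU)
  have aL : ∀ p, TL p = Sum.elim (L *ᵥ (p ∘ Sum.inl)) (R *ᵥ (p ∘ Sum.inl) + EL *ᵥ (p ∘ Sum.inr)) := fun p => by
    simp [TL, Matrix.fromBlocks_mulVec]
  have aU : ∀ p, TU p = Sum.elim (U *ᵥ (p ∘ Sum.inl) + Q *ᵥ (p ∘ Sum.inr)) (EU *ᵥ (p ∘ Sum.inr)) := fun p => by
    simp [TU, Matrix.fromBlocks_mulVec]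
  let iκ : (κ → K) →ₗ[K] (ι ⊕ κ → K) :=
    { toFun := fun q => Sum.elim 0 q
      map_add' := fun a b => by funext i; rcases i with i | i <;> simp
      map_smul' := fun a b => by funext i; rcases i with i | i <;> simp }
  let iι : (ι → K) →ₗ[K] (ι ⊕ κ → K) :=
    { toFun := fun q => Sum.elim q 0
      map_add' := fun a b => by funext i; rcases i with i | i <;> simp
      map_smul' := fun a b => by funext i; rcases i with i | i <;> simp }
  have rL : RegL TL (m ++ l) := by
    refine RegL.glue hEL hL iκ (LinearMap.funLeft K K Sum.inl) (fun a b h => funext fun k => congrFun h (Sum.inr k))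
      (LinearMap.funLeft_surjective_of_injective _ _ _ Sum.inl_injective) ?_ (fun q => ?_) (fun p => ?_) ?_
    · ext p
      refine ⟨fun ⟨q, hq⟩ => hq ▸ rfl, fun h => ⟨p ∘ Sum.inr, funext fun i => ?_⟩⟩
      rcases i with i | i
      · exact (congrFun (LinearMap.mem_ker.1 h) i).symm
      · rfl
    · rw [aL]
      funext i; rcases i with i | i <;> simp [iκ]
    · funext i
      simp [aL, LinearMap.funLeft_apply, Function.comp_def]
      rfl
    · intro s v q hv hπ hq
      refine hsL s (v ∘ Sum.inl) q ?_ hπ (by simpa using hq)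
      rw [aL] at hv
      funext i; simpa using congrFun hv (Sum.inl i)
  have rU : RegL TU (l' ++ m') := by
    refine RegL.glue hU hEU iι (LinearMap.funLeft K K Sum.inr) (fun a b h => funext fun k => congrFun h (Sum.inl k))
      (LinearMap.funLeft_surjective_of_injective _ _ _ Sum.inr_injective) ?_ (fun q => ?_) (fun p => ?_) ?_
    · ext p
      refine ⟨fun ⟨q, hq⟩ => hq ▸ rfl, fun h => ⟨p ∘ Sum.inl, funext fun i => ?_⟩⟩
      rcases i with i | i
      · rfl
      · exact (congrFun (LinearMap.mem_ker.1 h) i).symm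
    · rw [aU]
      funext i; rcases i with i | i <;> simp [iι]
    · funext i
      simp [aU, LinearMap.funLeft_apply, Function.comp_def]
      rfl
    · intro s v q hv hπ hq
      refine hsU s q (v ∘ Sum.inr) ?_ hπ (by simpa using hq)
      rw [aU] at hv
      funext i; simpa using congrFun hv (Sum.inr i)
  refine ⟨Φ.symm.conj TL, Φ.symm.conj TU, LinearMap.ext fun v => Φ.injective ?_, rL.conj _, rU.conj _,
    fun s v h => ?_, fun s v h => ?_⟩
  · rw [hM]
    simp only [Module.End.mul_apply, LinearEquiv.conj_apply_apply, LinearEquiv.symm_symm, LinearEquiv.apply_symm_apply]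
    show _ = Matrix.toLinAlgEquiv' _ (Matrix.toLinAlgEquiv' _ (Φ v))
    rw [← Module.End.mul_apply, ← map_mul, Matrix.fromBlocks_multiply]
    simp
  · have h' := congrArg Φ h
    rw [LinearEquiv.conj_apply_apply, LinearEquiv.apply_symm_apply, LinearEquiv.symm_symm, map_smul, aL] at h'
    exact ⟨funext fun i => by simpa using congrFun h' (Sum.inl i), funext fun i => by simpa using congrFun h' (Sum.inr i)⟩
  · have h' := congrArg Φ h
    rw [LinearEquiv.conj_apply_apply, LinearEquiv.apply_symm_apply, LinearEquiv.symm_symm, map_smul, aU] at h'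
    exact ⟨funext fun i => by simpa using congrFun h' (Sum.inr i), funext fun i => by simpa using congrFun h' (Sum.inl i)⟩

/-- A transvection as a product of two: the second factor is similar to the inverse of the first. -/
theorem transvection_factor {T T' : Module.End K V} (h1 : ∀ v, T (T' v) = v) (h2 : ∀ v, T' (T v) = v) {l : List K}
    (hT : RegL T l) (hl : ∀ r ∈ l, r ≠ 0) {r : K} {z : V} (hz0 : z ≠ 0) (hz : T z = r • z) {φ : V →ₗ[K] K}
    (hφ : ∀ (v : V) (a : K), T v - r • v = a • z → φ v = 0) :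
    RegL (T' * (1 + φ.smulRight z)) (l.map fun r => r⁻¹) := by
  have hr : r ≠ 0 := fun e => hz0 (by rw [← h2 z, hz, e, zero_smul, map_zero])
  have hz' : T' z = r⁻¹ • z := by
    have := h2 z
    rw [hz, map_smul] at this
    conv_rhs => rw [← this, smul_smul, inv_mul_cancel₀ hr, one_smul]
  set S := T' - r⁻¹ • 1 with hS
  have hback : ∀ (v : V) (b : K), S v = b • z → φ v = 0 := fun v b hv => hφ v (-(r * r * b)) (by
    have e : T (S v) = (b * r) • z := by rw [hv, map_smul, hz, smul_smul]
    rw [hS, RegUnipProd.sub_smul_one_apply, map_sub, map_smul, h1] at e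
    calc T v - r • v = (-r) • (v - r⁻¹ • T v) := by rw [smul_sub, smul_smul, neg_mul, mul_inv_cancel₀ hr]; module
      _ = _ := by rw [e]; module)
  have hkerS : LinearMap.ker S ≤ LinearMap.ker φ := fun v hv => LinearMap.mem_ker.2 (hback v 0 (by
    rw [LinearMap.mem_ker.1 hv, zero_smul]))
  obtain ⟨ψ0, hψ0⟩ : ∃ ψ : V →ₗ[K] K, ∀ v, ψ (S v) = r⁻¹ * φ v := by
    let φ0 : (LinearMap.range S) →ₗ[K] K := r⁻¹ • ((LinearMap.ker S).liftQ φ hkerS ∘ₗ
      (S.quotKerEquivRange.symm : LinearMap.range S →ₗ[K] V ⧸ LinearMap.ker S))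
    obtain ⟨ψ, hψ⟩ := LinearMap.exists_extend φ0
    refine ⟨ψ, fun v => ?_⟩
    have := LinearMap.congr_fun hψ ⟨S v, LinearMap.mem_range_self S v⟩
    simp only [LinearMap.comp_apply, Submodule.coe_subtype] at this
    rw [this]
    simp [φ0, show S.quotKerEquivRange.symm ⟨S v, LinearMap.mem_range_self S v⟩ = Submodule.Quotient.mk v from
      S.quotKerEquivRange_symm_apply_image v _]
  obtain ⟨ψ, hψz, hψ⟩ : ∃ ψ : V →ₗ[K] K, ψ z = 0 ∧ ∀ v, ψ (S v) = r⁻¹ * φ v := by
    by_cases hzS : z ∈ LinearMap.range S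
    · obtain ⟨v, hv⟩ := hzS
      exact ⟨ψ0, by rw [← hv, hψ0, hback v 1 (by rw [hv, one_smul]), mul_zero], hψ0⟩
    · obtain ⟨χ, hχz, hχ⟩ := RegUnipProd.sep hzS
      exact ⟨ψ0 - ψ0 z • χ, by simp [hχz], fun v => by
        simp [hψ0, hχ _ (LinearMap.mem_range_self S v)]⟩
  have hψS : ∀ v, ψ (T' v) = r⁻¹ * ψ v + r⁻¹ * φ v := fun v => by
    have := hψ v
    rw [hS, RegUnipProd.sub_smul_one_apply, map_sub, map_smul, smul_eq_mul] at this
    linear_combination this
  obtain ⟨h, hh⟩ := RegUnipProd.perturb_equiv ψ z (by rw [hψz, add_zero]; exact one_ne_zero)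
  have hφz : φ z = 0 := hφ z 0 (by rw [hz, sub_self, zero_smul])
  have e : T' * (1 + φ.smulRight z) = h.conj T' := LinearMap.ext fun p => by
    obtain ⟨v, rfl⟩ := h.surjective p
    rw [LinearEquiv.conj_apply_apply, LinearEquiv.symm_apply_apply, hh, hh]
    simp only [Module.End.mul_apply, LinearMap.add_apply, Module.End.one_apply, LinearMap.smulRight_apply, map_add,
      map_smul, hz', hφz, smul_eq_mul, mul_zero, add_zero, hψS]
    module
  rw [e]
  exact (hT.inv h1 h2 hl).conj h

end CfsgLib.PSLCover
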