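import Cfsg.Agent.Lib.PSLCover.LU

/-! Factorisations with spectra `(η, η⁻¹, 1, …, 1)` and `(s, s, s⁻¹, s⁻¹)`. -/

set_option autoImplicit false
set_option linter.unusedSectionVars false

namespace CfsgLib.PSLCover

open Module LinearMap
open scoped Matrix
open CfsgLib.SLCommutator (EndTwo)

universe u v

variable {K : Type u} [Field K] {V : Type v} [AddCommGroup V] [Module K V] [FiniteDimensional K V]

theorem RegL.eig_mem {T : Module.End K V} {l : List K} (h : RegL T l) {r : K} {v : V} (hv : T v = r • v) (hv0 : v ≠ 0) :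
    r ∈ l := by
  have key : ∀ m : List K, ((m.map fun s => T - s • 1).prod) v = ((m.map fun s => r - s).prod) • v := by
    intro m
    induction m with
    | nil => simp
    | cons s m ih => simp [ih, map_smul, hv, smul_smul, mul_comm]; module
  have h1 := key l
  rw [h.2.1, LinearMap.zero_apply, eq_comm, smul_eq_zero, or_iff_left hv0, List.prod_eq_zero_iff, List.mem_map] at h1
  obtain ⟨s, hs, hrs⟩ := h1
  exact sub_eq_zero.1 hrs ▸ hs

theorem regL_matConj {ι : Type} [Fintype ι] [DecidableEq ι] {A : Matrix ι ι K} {l : List K}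
    (h : RegL (Matrix.toLinAlgEquiv' A) l) (P : (Matrix ι ι K)ˣ) :
    RegL (Matrix.toLinAlgEquiv' (P.1 * A * (↑P⁻¹ : Matrix ι ι K))) l := by
  let e : (ι → K) ≃ₗ[K] (ι → K) := LinearEquiv.ofLinear (Matrix.toLinAlgEquiv' P.1)
    (Matrix.toLinAlgEquiv' (↑P⁻¹ : Matrix ι ι K))
    (by rw [← Module.End.mul_eq_comp, ← map_mul, Units.mul_inv, map_one]; rfl)
    (by rw [← Module.End.mul_eq_comp, ← map_mul, Units.inv_mul, map_one]; rfl)
  convert h.conj e using 1
  refine LinearMap.ext fun p => ?_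
  simp [e, LinearEquiv.conj_apply, Matrix.mulVec_mulVec, mul_assoc]

/-- Conjugating a rank one update to given coordinates. -/
theorem exists_frame (hn : 2 ≤ finrank K V) {z z' : V} {φ φ' : V →ₗ[K] K} (hz : z ≠ 0) (hz' : z' ≠ 0) (hφ : φ ≠ 0)
    (hφ' : φ' ≠ 0) (hzz : φ z = φ' z') : ∃ e : V ≃ₗ[K] V, e z' = z ∧ ∀ p, φ (e p) = φ' p := by
  obtain ⟨e0, -, he0⟩ := exists_move (K := K) (V := V) (j := 1) (by omega) (a := ![z']) (b := ![z])
    (LinearIndependent.of_subsingleton 0 hz') (LinearIndependent.of_subsingleton 0 hz)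
  have he0z : e0 z' = z := he0 0
  set ψ := φ ∘ₗ (e0 : V →ₗ[K] V) with hψ
  have hψz : ψ z' = φ' z' := by rw [hψ, LinearMap.comp_apply, LinearEquiv.coe_coe, he0z, hzz]
  have hψ0 : ψ ≠ 0 := fun h => hφ (LinearMap.ext fun q => by simpa [hψ] using LinearMap.congr_fun h (e0.symm q))
  obtain ⟨q, hψq, hφq⟩ : ∃ q, ψ q ≠ 0 ∧ φ' q ≠ 0 := by
    obtain ⟨q1, hq1⟩ : ∃ q, ψ q ≠ 0 := by
      by_contra h; push Not at h; exact hψ0 (LinearMap.ext h)
    obtain ⟨q2, hq2⟩ : ∃ q, φ' q ≠ 0 := by
      by_contra h; push Not at h; exact hφ' (LinearMap.ext h)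
    by_cases h : φ' q1 = 0
    · by_cases h' : ψ q2 = 0
      · exact ⟨q1 + q2, by simp [h', hq1], by simp [h, hq2]⟩
      · exact ⟨q2, h', hq2⟩
    · exact ⟨q1, hq1, h⟩
  obtain ⟨E, hE⟩ := RegUnipProd.perturb_equiv (φ' - ψ) ((ψ q)⁻¹ • q) (by
    rw [map_smul, LinearMap.sub_apply, smul_eq_mul,
      show 1 + (ψ q)⁻¹ * (φ' q - ψ q) = (ψ q)⁻¹ * φ' q by field_simp; ring]
    exact mul_ne_zero (inv_ne_zero hψq) hφq)
  refine ⟨E ≪≫ₗ e0, ?_, fun p => ?_⟩
  · rw [LinearEquiv.trans_apply, hE, LinearMap.sub_apply, hψz, sub_self, zero_smul, add_zero, he0z]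
  · show ψ (E p) = φ' p
    rw [hE, map_add, map_smul, map_smul, smul_eq_mul, smul_eq_mul, inv_mul_cancel₀ hψq, mul_one, LinearMap.sub_apply,
      add_sub_cancel]

/-- A scalar plus rank at most one, with its determinant. -/
theorem rank_one_form {M : Module.End K V} (hr : finrank K (LinearMap.range (M - 1)) < 2) (hns : ∀ s : K, M ≠ s • 1) :
    ∃ (φ : V →ₗ[K] K) (z : V), z ≠ 0 ∧ φ ≠ 0 ∧ M = 1 + φ.smulRight z ∧ LinearMap.det M = 1 + φ z := by
  have hne : LinearMap.range (M - 1) ≠ ⊥ := fun h => hns 1 (by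
    rw [LinearMap.range_eq_bot, sub_eq_zero] at h; rw [h, one_smul])
  obtain ⟨z, hz, hz0⟩ := Submodule.exists_mem_ne_zero_of_ne_bot hne
  obtain ⟨χ, hχ, -⟩ := RegUnipProd.sep (p := (⊥ : Submodule K V)) (x := z) (by simpa using hz0)
  have hspan : LinearMap.range (M - 1) = Submodule.span K {z} := (Submodule.eq_of_le_of_finrank_le
    ((Submodule.span_singleton_le_iff_mem _ _).2 hz) (by rw [finrank_span_singleton hz0]; omega)).symm
  set φ := χ ∘ₗ (M - 1) with hφdef
  have hM : M = 1 + φ.smulRight z := LinearMap.ext fun q => by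
    obtain ⟨a, ha⟩ := Submodule.mem_span_singleton.1 (hspan ▸ LinearMap.mem_range_self (M - 1) q)
    rw [LinearMap.add_apply, LinearMap.smulRight_apply, hφdef, LinearMap.comp_apply, ← ha, map_smul, hχ,
      smul_eq_mul, mul_one, ha]
    simp
  refine ⟨φ, z, hz0, fun e => hns 1 (by rw [hM, e]; ext q; simp), hM, ?_⟩
  let S : V ≃ₗ[K] (Fin (finrank K V) → K) := (Module.finBasis K V).equivFun
  clear_value S
  rw [hM, ← LinearMap.det_conj _ S,
    show (S : V →ₗ[K] (Fin (finrank K V) → K)) ∘ₗ (1 + φ.smulRight z) ∘ₗ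
        (S.symm : (Fin (finrank K V) → K) →ₗ[K] V) =
      1 + (φ ∘ₗ (S.symm : (Fin (finrank K V) → K) →ₗ[K] V)).smulRight (S z) from LinearMap.ext fun v => by simp,
    RegUnipProd.det_one_add_smulRight]
  simp

theorem isUnit_of_regL {T : Module.End K V} {l : List K} (h : RegL T l) (hl : ∀ r ∈ l, r ≠ 0) :
    LinearMap.det T ≠ 0 := by
  intro e
  obtain ⟨v, hv, hv0⟩ := Submodule.exists_mem_ne_zero_of_ne_bot
    (LinearMap.bot_lt_ker_of_det_eq_zero e).ne'
  exact hl 0 (h.eig_mem (r := 0) (by rw [LinearMap.mem_ker.1 hv, zero_smul]) hv0) rfl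

theorem regL_scaled_end {A : Matrix (Fin 2) (Fin 2) K} {f0 f1 : Fin 2 → K} {a b : K}
    (hli : LinearIndependent K ![f0, f1]) (h0 : A *ᵥ f0 = a • f0) (h1 : A *ᵥ f1 = b • f1 + f0) :
    RegL (Matrix.toLinAlgEquiv' A) [a, b] := by
  refine regL_two (by simp) hli ?_ ?_ <;> simp [h0, h1]

theorem li_two {p q : Fin 2 → K} (h : p 0 * q 1 - p 1 * q 0 ≠ 0) : LinearIndependent K ![p, q] := by
  rw [Fintype.linearIndependent_iff]
  intro g hg
  simp only [Fin.sum_univ_two, Matrix.cons_val_zero, Matrix.cons_val_one] at hg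
  have e0 := congrFun hg 0
  have e1 := congrFun hg 1
  simp at e0 e1
  have h0 : g 0 * (p 0 * q 1 - p 1 * q 0) = 0 := by linear_combination q 1 * e0 - q 0 * e1
  have h1 : g 1 * (p 0 * q 1 - p 1 * q 0) = 0 := by linear_combination p 0 * e1 - p 1 * e0
  intro i
  fin_cases i
  · exact (mul_eq_zero.1 h0).resolve_right h
  · exact (mul_eq_zero.1 h1).resolve_right h

set_option maxHeartbeats 2000000 in
theorem lu_eta (h4 : ∃ k : Fin 4 → K, Function.Injective k) {j : ℕ} (hj : 1 ≤ j) (hn : finrank K V = j + 2) {η : K}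
    (hη0 : η ≠ 0) (hη1 : η ≠ 1) (hη2 : η * η ≠ 1) {M : Module.End K V} (hdet : LinearMap.det M = 1)
    (hns : ∀ s : K, M ≠ s • 1) :
    ∃ L U : Module.End K V, M = L * U ∧ RegL L (η :: η⁻¹ :: List.replicate j 1) ∧
      RegL U (η :: η⁻¹ :: List.replicate j 1) ∧ (∀ v, L v = v → U v = v → v = 0) ∧
      ∀ v, L v = η • v → U v = η • v → v = 0 := by
  have hinv1 : η⁻¹ ≠ 1 := fun e => hη1 (by simpa using congrArg Inv.inv e)
  have hne : η⁻¹ ≠ η := fun e => hη2 (by nth_rw 1 [← e]; exact inv_mul_cancel₀ hη0)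
  rcases Nat.lt_or_ge (finrank K (LinearMap.range (M - 1))) 2 with hr | hr
  · obtain ⟨φ, z, hz0, hφ0, hM, hd⟩ := rank_one_form hr hns
    have hφz : φ z = 0 := by rw [hdet] at hd; linear_combination -hd
    let C := Module.finBasisOfFinrankEq K V hn
    have hC0 : (C 0 : V) ≠ 0 := C.ne_zero 0
    obtain ⟨e, hez, heφ⟩ := exists_frame (by omega) hz0 hC0 hφ0
      (φ' := C.coord ⟨2, by omega⟩) (fun h => by
        have := LinearMap.congr_fun h (C ⟨2, by omega⟩); simp at this)
      (by rw [hφz]; simp [Finsupp.single_apply, Fin.ext_iff])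
    let l : ℕ → K := fun i => if i = 0 then η else if i = 1 then η⁻¹ else 1
    let f : ℕ → V := fun i => if h : i < j + 2 then e (C ⟨i, h⟩) else 0
    let T : Module.End K V := e.conj (C.constr K fun i : Fin (j + 2) =>
      l i • C i + if 3 ≤ (i : ℕ) then C ⟨(i : ℕ) - 1, by omega⟩ else 0)
    have hT : ∀ i (hi : i < j + 2), T (f i) = l i • f i + if 3 ≤ i then f (i - 1) else 0 := fun i hi => by
      simp only [T, f, dif_pos hi, LinearEquiv.conj_apply_apply, LinearEquiv.symm_apply_apply, Basis.constr_basis,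
        map_add, map_smul, dif_pos (show i - 1 < j + 2 by omega)]
      split_ifs <;> simp
    have hreg : RegL T ((List.range (j + 2)).map l) := by
      refine regL_triangular f l hn ?_ (fun i hi => ?_) (fun i hi => ?_)
      · rw [eq_top_iff, ← (C.map e).span_eq, Submodule.span_le]
        rintro _ ⟨i, rfl⟩
        exact Submodule.subset_span ⟨i, i.2, by simp [f, i.2]⟩
      · rw [hT i hi, add_sub_cancel_left]
        split_ifs
        · exact Submodule.subset_span ⟨i - 1, by simp; omega, rfl⟩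
        · exact zero_mem _
      · rcases Nat.lt_or_ge i 2 with h | h
        · left
          intro k hk
          interval_cases i <;> interval_cases k <;> simp [l, hη1, hinv1, hne.symm]
        · refine Or.inr ⟨by simp [l, show i ≠ 0 by omega, show i ≠ 1 by omega], ?_⟩
          rw [hT (i + 1) hi, if_pos (by omega), add_sub_cancel_left, Nat.add_sub_cancel, sub_self]
          exact zero_mem _
    have hlist : (List.range (j + 2)).map l = η :: η⁻¹ :: List.replicate j 1 := by
      rw [List.range_succ_eq_map, List.range_succ_eq_map]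
      simp only [List.map_cons, List.map_map]
      congr 2
      refine List.eq_replicate_iff.2 ⟨by simp, fun b hb => ?_⟩
      obtain ⟨a, -, rfl⟩ := List.mem_map.1 hb
      simp [l]
    rw [hlist] at hreg
    have hl0 : ∀ r ∈ η :: η⁻¹ :: List.replicate j (1 : K), r ≠ 0 := by
      intro r hr'
      simp only [List.mem_cons, List.mem_replicate] at hr'
      rcases hr' with rfl | rfl | ⟨-, rfl⟩
      exacts [hη0, inv_ne_zero hη0, one_ne_zero]
    obtain ⟨T', h1, h2⟩ := exists_inverse (f := T) (isUnit_of_regL hreg hl0)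
    have hTz : T z = η • z := by
      have := hT 0 (by omega)
      simpa [f, ← hez, l] using this
    obtain ⟨u, hu0, hu, hur⟩ := hreg.exists_simple (by simp [hne.symm, hη1])
    have hU := transvection_factor h1 h2 hreg hl0 hz0 hTz (φ := φ) (fun v a hv => by
      obtain ⟨c, hc⟩ := Submodule.mem_span_singleton.1 (hreg.2.2 η z u hTz hu hu0)
      have hc0 : c ≠ 0 := fun e => hz0 (by rw [← hc, e, zero_smul])
      have ha : a = 0 := by
        by_contra ha
        refine hur ⟨(a * c)⁻¹ • v, ?_⟩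
        rw [map_smul, RegUnipProd.sub_smul_one_apply, hv, ← hc, smul_smul, smul_smul, mul_assoc,
          inv_mul_cancel₀ (mul_ne_zero ha hc0), one_smul]
      rw [ha, zero_smul, sub_eq_zero] at hv
      obtain ⟨k, hk⟩ := Submodule.mem_span_singleton.1 (hreg.2.2 η v z hv hTz hz0)
      rw [← hk, map_smul, hφz, smul_zero])
    have hrep : (List.replicate j (1 : K)).map (fun r => r⁻¹) = List.replicate j 1 := by simp
    rw [← hM, List.map_cons, List.map_cons, inv_inv, hrep] at hU
    refine ⟨T, T' * M, ?_, hreg, hU.perm (List.Perm.swap _ _ _), fun v hLv hUv => ?_, fun v hLv hUv => ?_⟩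
    · rw [← mul_assoc, show T * T' = 1 from LinearMap.ext h1, one_mul]
    · have hMv : M v = v := by
        have := congrArg T hUv
        rwa [Module.End.mul_apply, h1, hLv] at this
      have hT2 : T (f 2) = f 2 := by simpa [l] using hT 2 (by omega)
      have hf2 : f 2 = e (C ⟨2, by omega⟩) := by simp [f, show 2 < j + 2 by omega]
      obtain ⟨k, hk⟩ := Submodule.mem_span_singleton.1 (hreg.2.2 1 v (f 2) (by rw [hLv, one_smul])
        (by rw [hT2, one_smul]) (by rw [hf2]; exact fun h => C.ne_zero _ (e.injective (h.trans (map_zero e).symm))))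
      rw [hM, LinearMap.add_apply, Module.End.one_apply, LinearMap.smulRight_apply, add_eq_left, ← hk, hf2, map_smul,
        heφ, smul_eq_zero, or_iff_left hz0, smul_eq_mul] at hMv
      have : k = 0 := by simpa using hMv
      rw [← hk, this, zero_smul]
    · have hMv : M v = (η * η) • v := by
        have := congrArg T hUv
        rwa [Module.End.mul_apply, h1, map_smul, hLv, smul_smul] at this
      by_contra hv0
      refine hη2 ?_
      rw [hM, LinearMap.add_apply, Module.End.one_apply, LinearMap.smulRight_apply] at hMv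
      have h := congrArg φ hMv
      rw [map_add, map_smul, hφz, smul_zero, add_zero, map_smul, smul_eq_mul] at h
      by_cases hv : φ v = 0
      · rw [hv, zero_smul, add_zero] at hMv
        have : (η * η - 1) • v = 0 := by rw [sub_smul, one_smul, ← hMv, sub_self]
        exact sub_eq_zero.1 ((smul_eq_zero.1 this).resolve_right hv0)
      · exact mul_right_cancel₀ hv (by rw [← h, one_mul])
  · -- the generic case
    have hns' : ¬ ∃ s : K, M = s • 1 := fun ⟨s, hs⟩ => hns s hs
    have hker : LinearMap.ker (M - 1) ≠ ⊤ := fun h => hns 1 (by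
      rw [LinearMap.ker_eq_top, sub_eq_zero] at h; rw [h, one_smul])
    obtain ⟨b, hb, hbk⟩ := RegUnipProd.sep_proper hker
    haveI : Nontrivial V := Module.nontrivial_of_finrank_pos (R := K) (by omega)
    obtain ⟨c, hc⟩ := exists_ne (0 : V)
    obtain ⟨ι, _, _, Φ, L, U, Q, R, E, hcard, hΦ, hL, hU, -, -, hend, hEd, hEs, hEt⟩ :=
      SLCommutator.generic_split h4 j M hn hdet hr hns' c b hc hb
    obtain ⟨hLe, x, hx⟩ := hend hj
    set β := E.trace - 2 with hβ
    have hβ0 : β ≠ 0 := sub_ne_zero.2 hEt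
    obtain ⟨A1, hA1⟩ : ∃ A : Matrix (Fin 2) (Fin 2) K, A = !![η⁻¹, 0; 1, η] := ⟨_, rfl⟩
    obtain ⟨A2, hA2⟩ : ∃ A : Matrix (Fin 2) (Fin 2) K, A = !![η, β; 0, η⁻¹] := ⟨_, rfl⟩
    obtain ⟨P, hP⟩ := two_sim (C := A1 * A2) hEs (fun x hx' => by
        have := congrFun (congrFun hx' 1) 0
        simp [hA1, hA2, Matrix.mul_apply, hη0] at this)
      (by rw [hEd, Matrix.det_mul, hA1, hA2]; simp [Matrix.det_fin_two_of, hη0])
      (by simp [hA1, hA2, Matrix.trace_fin_two, Matrix.mul_apply, hη0, hβ]; ring)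
    have hE : E = (P.1 * A1 * (↑P⁻¹ : Matrix (Fin 2) (Fin 2) K)) * (P.1 * A2 * (↑P⁻¹ : Matrix (Fin 2) (Fin 2) K)) := by
      calc E = E * P.1 * (↑P⁻¹ : Matrix (Fin 2) (Fin 2) K) := by rw [mul_assoc, Units.mul_inv, mul_one]
        _ = _ := by rw [hP]; simp only [mul_assoc, Units.inv_mul_cancel_left]
    have r1 : RegL (Matrix.toLinAlgEquiv' A1) [η, η⁻¹] := by
      refine regL_scaled_end (f0 := ![0, 1]) (f1 := ![1, 0]) (li_two (by simp)) ?_ ?_ <;>
        (ext i; fin_cases i <;> simp [hA1, Matrix.mulVec, dotProduct, Fin.sum_univ_two])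
    have r2 : RegL (Matrix.toLinAlgEquiv' A2) [η, η⁻¹] := by
      refine regL_scaled_end (f0 := ![1, 0]) (f1 := ![0, β⁻¹]) (li_two (by simp [hβ0])) ?_ ?_ <;>
        (ext i; fin_cases i <;> simp [hA2, Matrix.mulVec, dotProduct, Fin.sum_univ_two, hβ0]) <;> ring
    have rU0 := regL_matrix hcard hU fun h0 e => hx (by
      rw [e, Matrix.zero_mulVec, show (Sum.elim (0 : ι → K) (0 : Fin 2 → K)) = 0 from by
        funext i; rcases i with i | i <;> rfl, map_zero, map_zero])
    have one_of : ∀ {X : Matrix ι ι K}, RegL (Matrix.toLinAlgEquiv' X) (List.replicate j 1) →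
        ∀ (s : K) (p : ι → K), X *ᵥ p = s • p → p ≠ 0 → s = 1 := fun hX s p h hp =>
      List.eq_of_mem_replicate (hX.eig_mem (by simpa using h) hp)
    have back : ∀ (A : Matrix (Fin 2) (Fin 2) K) (s : K) (q : Fin 2 → K),
        (P.1 * A * (↑P⁻¹ : Matrix (Fin 2) (Fin 2) K)) *ᵥ q = s • q →
        A *ᵥ ((↑P⁻¹ : Matrix (Fin 2) (Fin 2) K) *ᵥ q) = s • ((↑P⁻¹ : Matrix (Fin 2) (Fin 2) K) *ᵥ q) := fun A s q h => by
      have := congrArg (fun r => (↑P⁻¹ : Matrix (Fin 2) (Fin 2) K) *ᵥ r) h
      simp only [Matrix.mulVec_mulVec, Matrix.mulVec_smul, ← mul_assoc, Units.inv_mul, one_mul] at this ⊢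
      exact this
    have pz : ∀ q : Fin 2 → K, (↑P⁻¹ : Matrix (Fin 2) (Fin 2) K) *ᵥ q = 0 → q = 0 := fun q h => by
      have := congrArg (fun r => P.1 *ᵥ r) h
      simp only [Matrix.mulVec_mulVec, Units.mul_inv, Matrix.one_mulVec, Matrix.mulVec_zero] at this
      exact this
    have one1 : ∀ q, A1 *ᵥ q = (1 : K) • q → q = 0 := fun q h => by
      have e0 := congrFun h 0
      have e1 := congrFun h 1
      simp [hA1, Matrix.mulVec, dotProduct, Fin.sum_univ_two] at e0 e1
      have h0 : q 0 = 0 := by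
        have : (η⁻¹ - 1) * q 0 = 0 := by linear_combination e0
        exact (mul_eq_zero.1 this).resolve_left (sub_ne_zero.2 hinv1)
      have h1 : q 1 = 0 := by
        have : (η - 1) * q 1 = 0 := by linear_combination e1 - h0
        exact (mul_eq_zero.1 this).resolve_left (sub_ne_zero.2 hη1)
      funext i; fin_cases i <;> simp [h0, h1]
    have one2 : ∀ q, A2 *ᵥ q = (1 : K) • q → q = 0 := fun q h => by
      have e0 := congrFun h 0
      have e1 := congrFun h 1
      simp [hA2, Matrix.mulVec, dotProduct, Fin.sum_univ_two] at e0 e1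
      have h1 : q 1 = 0 := by
        have : (η⁻¹ - 1) * q 1 = 0 := by linear_combination e1
        exact (mul_eq_zero.1 this).resolve_left (sub_ne_zero.2 hinv1)
      have h0 : q 0 = 0 := by
        have : (η - 1) * q 0 = 0 := by linear_combination e0 - β * h1
        exact (mul_eq_zero.1 this).resolve_left (sub_ne_zero.2 hη1)
      funext i; fin_cases i <;> simp [h0, h1]
    obtain ⟨Lf, Uf, hprod, rL, rU, hLf, hUf⟩ := split_factors (M := M) Φ (EL := P.1 * A1 * (↑P⁻¹ : Matrix (Fin 2) (Fin 2) K))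
      (EU := P.1 * A2 * (↑P⁻¹ : Matrix (Fin 2) (Fin 2) K)) (fun v => by rw [← hE]; exact hΦ v)
      (regL_matrix hcard hL fun h0 e => hLe (by rw [e, Matrix.zero_mulVec])) rU0 (regL_matConj r1 P) (regL_matConj r2 P)
      (fun s p q hp hp0 hq => pz q (one1 _ (by
        rw [← one_of (regL_matrix hcard hL fun h0 e => hLe (by rw [e, Matrix.zero_mulVec])) s p hp hp0]; exact back A1 s q hq)))
      (fun s p q hq hq0 hp => by
        by_contra hp0
        obtain rfl := one_of rU0 s p hp hp0
        exact hq0 (pz q (one2 _ (back A2 1 q hq))))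
    refine ⟨Lf, Uf, hprod, rL, rU.perm List.perm_append_comm, fun v h1 h2 => ?_, fun v h1 h2 => ?_⟩
    · obtain ⟨hq, hp⟩ := hUf 1 v (by rw [h2, one_smul])
      have hq0 : Φ v ∘ Sum.inr = 0 := pz _ (one2 _ (back A2 1 _ hq))
      rw [hq0, Matrix.mulVec_zero, add_zero] at hp
      set p0 := (U - 1) ^ (j - 1) *ᵥ x with hp0
      have hp0' : Matrix.toLinAlgEquiv' U p0 = (1 : K) • p0 := by
        have : (U - 1) *ᵥ p0 = 0 := by
          rw [hp0, Matrix.mulVec_mulVec, ← pow_succ', show j - 1 + 1 = j by omega, hU, Matrix.zero_mulVec]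
        rw [Matrix.sub_mulVec, Matrix.one_mulVec, sub_eq_zero] at this
        simpa using this
      have hp0ne : p0 ≠ 0 := fun e => hx (by
        rw [e, show (Sum.elim (0 : ι → K) (0 : Fin 2 → K)) = 0 from by funext i; rcases i with i | i <;> rfl,
          map_zero, map_zero])
      obtain ⟨a, ha⟩ := Submodule.mem_span_singleton.1 (rU0.2.2 1 (Φ v ∘ Sum.inl) p0 (by simpa using hp) hp0' hp0ne)
      have hv : v = a • Φ.symm (Sum.elim p0 0) := Φ.injective (by
        rw [map_smul, LinearEquiv.apply_symm_apply]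
        funext i
        rcases i with i | i
        · exact (congrFun ha i).symm
        · simpa using congrFun hq0 i)
      have hbv : b v = 0 := hbk v (LinearMap.mem_ker.2 (by
        rw [LinearMap.sub_apply, Module.End.one_apply, hprod, Module.End.mul_apply, h2, h1, sub_self]))
      rw [hv, map_smul, smul_eq_zero, or_iff_left hx] at hbv
      rw [hv, hbv, zero_smul]
    · obtain ⟨hp, hq⟩ := hLf η v h1
      have hp0 : Φ v ∘ Sum.inl = 0 := by
        by_contra h
        exact hη1 (one_of (regL_matrix hcard hL fun h0 e => hLe (by rw [e, Matrix.zero_mulVec])) η _ hp h)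
      rw [hp0, Matrix.mulVec_zero, zero_add] at hq
      obtain ⟨hq', -⟩ := hUf η v h2
      have e1 := back A1 η _ hq
      have e2 := back A2 η _ hq'
      set q := (↑P⁻¹ : Matrix (Fin 2) (Fin 2) K) *ᵥ (Φ v ∘ Sum.inr) with hqdef
      have a0 := congrFun e1 0
      have b1 := congrFun e2 1
      simp [hA1, hA2, Matrix.mulVec, dotProduct, Fin.sum_univ_two, hne] at a0 b1
      have hq0 : Φ v ∘ Sum.inr = 0 := pz _ (hqdef ▸ funext fun i => by fin_cases i; exacts [a0, b1])
      refine Φ.injective ?_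
      rw [map_zero]
      funext i; rcases i with i | i
      · exact congrFun hp0 i
      · exact congrFun hq0 i

end CfsgLib.PSLCover
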