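import Cfsg.Agent.Lib.PSLCover.Refl
import Cfsg.Agent.Lib.PSLCover.Cyclic

/-! Scalar plus rank one. -/

set_option autoImplicit false
set_option linter.unusedSectionVars false

namespace CfsgLib.PSLCover

open Module LinearMap

universe u v

variable {K : Type u} [Field K] {V : Type v} [AddCommGroup V] [Module K V] [FiniteDimensional K V]

theorem exists_perturb {φ : V →ₗ[K] K} {z : V} (h : 1 + φ z ≠ 0) :
    ∃ e : V ≃ₗ[K] V, ∀ v, e v = v + φ v • z := by
  obtain ⟨c, hc⟩ := (LinearMap.isUnit_iff_isUnit_det (1 + φ.smulRight z : Module.End K V)).2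
    (isUnit_iff_ne_zero.2 (by rwa [det_rankOne]))
  exact ⟨LinearMap.GeneralLinearGroup.toLinearEquiv c, fun v => by
    show (c : Module.End K V) v = _
    rw [hc]; rfl⟩

theorem rankOne_conj (hn : 2 ≤ finrank K V) {φ φ' : V →ₗ[K] K} {z z' : V} (hφ : φ ≠ 0) (hφ' : φ' ≠ 0) (hz : z ≠ 0)
    (hz' : z' ≠ 0) (h : φ z = φ' z') :
    ConjIn (Set.univ : Set K) (1 + φ.smulRight z) (1 + φ'.smulRight z') := by
  obtain ⟨e1, -, he1⟩ := exists_move (K := K) (V := V) (j := 1) (by omega) (a := ![z]) (b := ![z'])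
    (LinearIndependent.of_subsingleton 0 hz) (LinearIndependent.of_subsingleton 0 hz')
  have e1z : e1 z = z' := he1 0
  set ψ := φ ∘ₗ (e1.symm : V →ₗ[K] V) with hψ
  have hψz : ψ z' = φ' z' := by rw [← h]; simp [hψ, ← e1z]
  have hψ0 : ψ ≠ 0 := fun e => hφ (LinearMap.ext fun v => by simpa [hψ] using LinearMap.congr_fun e (e1 v))
  obtain ⟨q, hq1, hq2⟩ := exists_off_two (S := LinearMap.ker φ') (T := LinearMap.ker ψ)
    (fun e => hφ' (LinearMap.ker_eq_top.1 e)) (fun e => hψ0 (LinearMap.ker_eq_top.1 e))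
  rw [LinearMap.mem_ker] at hq1 hq2
  set q' := (φ' q)⁻¹ • q with hq'
  have hφq : φ' q' = 1 := by simp [hq', hq1]
  obtain ⟨e2, he2⟩ := exists_perturb (φ := ψ - φ') (z := q') (by
    rw [LinearMap.sub_apply, hφq, add_sub_cancel]
    simp [hq', hq1, hq2])
  have k : ∀ v, φ' (e2 v) = ψ v := fun v => by rw [he2, map_add, map_smul, hφq]; simp
  have k2 : e2 z' = z' := by rw [he2]; simp [hψz]
  refine ⟨e1 ≪≫ₗ e2, trivial, fun v => ?_⟩
  have : ψ (e1 v) = φ v := by simp [hψ]
  simp only [LinearEquiv.trans_apply, LinearMap.add_apply, Module.End.one_apply, LinearMap.smulRight_apply,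
    map_add, map_smul, e1z, k2, k, this]

theorem fullDet_rankOne (hn : 3 ≤ finrank K V) {φ : V →ₗ[K] K} {z : V} :
    FullDet (1 + φ.smulRight z : Module.End K V) := by
  have h1 := LinearMap.finrank_range_add_finrank_ker φ
  have h2 := Submodule.finrank_le (LinearMap.range φ)
  rw [Module.finrank_self] at h2
  obtain ⟨u, huk, hu⟩ : ∃ u, u ∈ LinearMap.ker φ ∧ u ∉ Submodule.span K {z} := by
    by_contra hc
    push Not at hc
    have := Submodule.finrank_mono (show LinearMap.ker φ ≤ Submodule.span K {z} from hc)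
    have := RegUnipProd.finrank_span_singleton_le (K := K) z
    omega
  refine fullDet_of_eigen (a := (1 : K)) (u := u) (by simp [LinearMap.mem_ker.1 huk]) fun hr => hu ?_
  obtain ⟨p, hp⟩ := hr
  rw [← hp]
  simp
  exact Submodule.smul_mem _ _ (Submodule.mem_span_singleton_self z)

/-- Every target, up to a central factor. -/
theorem prod_pseudo (h4 : ∃ k : Fin 4 → K, Function.Injective k) {n : ℕ} (hn : finrank K V = n) (h3 : 3 ≤ n)
    {x g : Module.End K V} (hdx : LinearMap.det x = 1) (hp : Pseudo x) (hxs : ∀ s : K, x ≠ s • 1)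
    (hdg : LinearMap.det g = 1) : ∃ lam : K, lam ^ n = 1 ∧ IsProd ({1} : Set K) x (lam • g) n := by
  obtain ⟨b, hb⟩ := hp
  set N := x - b • (1 : Module.End K V) with hN
  have hb0 : b ≠ 0 := fun e => by
    obtain ⟨x', hx', -⟩ := exists_inverse (f := x) (by rw [hdx]; exact one_ne_zero)
    rw [hN, e, zero_smul, sub_zero, LinearMap.range_eq_top.2 (fun y => ⟨x' y, hx' y⟩), finrank_top, hn] at hb
    omega
  obtain ⟨z, hz, hz0⟩ := Submodule.exists_mem_ne_zero_of_ne_bot
    (show LinearMap.range N ≠ ⊥ from fun e => hxs b (sub_eq_zero.1 (LinearMap.range_eq_bot.1 e)))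
  have hspan : LinearMap.range N = Submodule.span K {z} := (Submodule.eq_of_le_of_finrank_le
    ((Submodule.span_singleton_le_iff_mem _ _).2 hz) (by rw [finrank_span_singleton hz0]; omega)).symm
  obtain ⟨χ, hχ, -⟩ := RegUnipProd.sep (p := (⊥ : Submodule K V)) (x := z) (by simpa using hz0)
  set φ := b⁻¹ • (χ ∘ₗ N) with hφ
  have hxφ : x = b • (1 + φ.smulRight z) := LinearMap.ext fun q => by
    obtain ⟨a, ha⟩ := Submodule.mem_span_singleton.1 (hspan ▸ LinearMap.mem_range_self N q)
    have e : χ (N q) = a := by rw [← ha, map_smul, hχ, smul_eq_mul, mul_one]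
    have e2 : x q = b • q + N q := by rw [hN, LinearMap.sub_apply, LinearMap.smul_apply, Module.End.one_apply]; abel
    rw [e2, ← ha]
    simp only [LinearMap.smul_apply, LinearMap.add_apply, Module.End.one_apply, LinearMap.smulRight_apply, hφ,
      LinearMap.comp_apply, e, smul_eq_mul, smul_add, smul_smul, ← mul_assoc, mul_inv_cancel₀ hb0, one_mul]
  have hφ0 : φ ≠ 0 := fun e => hxs b (by rw [hxφ, e]; simp)
  obtain ⟨ε, hε⟩ : ∃ ε, ε = 1 + φ z := ⟨_, rfl⟩
  have hbε : b ^ n * ε = 1 := by
    rw [hxφ, LinearMap.det_smul, det_rankOne, hn, ← hε] at hdx; exact hdx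
  have hε0 : ε ≠ 0 := right_ne_zero_of_mul_eq_one hbε
  suffices key : ∃ lam : K, lam ^ n = 1 ∧ ∃ L : List (Module.End K V), L.length = n ∧ (∀ R ∈ L, Refl ε R) ∧
      L.prod = (ε * lam) • g by
    obtain ⟨lam, hlam, L, hL1, hL2, hL3⟩ := key
    refine ⟨lam, hlam, L.map (fun R => b • R), by simp [hL1], fun f hf => ?_, ?_⟩
    · obtain ⟨R, hR, rfl⟩ := List.mem_map.1 hf
      obtain ⟨ψ, w, hψ, hw, hψw, rfl⟩ := hL2 R hR
      obtain ⟨e, he, hey⟩ := ConjIn.of_full (fullDet_rankOne (by omega))
        (rankOne_conj (by omega) hφ0 hψ hz0 hw (by rw [hψw, hε]; ring) :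
          ConjIn (Set.univ : Set K) (1 + φ.smulRight z) (1 + ψ.smulRight w))
      exact ⟨e, he, fun v => by rw [LinearMap.smul_apply, hey, hxφ, LinearMap.smul_apply, map_smul]⟩
    · have : ∀ M : List (Module.End K V), (M.map fun R => b • R).prod = b ^ M.length • M.prod := by
        intro M
        induction M with
        | nil => simp
        | cons R M ih => simp [ih, pow_succ, smul_smul, mul_comm]
      rw [this, hL1, hL3, smul_smul, ← mul_assoc, hbε, one_mul]
  by_cases hg : ∃ s : K, g = s • 1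
  · obtain ⟨s, hs⟩ := hg
    have hsn : s ^ n = 1 := by rw [hs, LinearMap.det_smul, hn, map_one, mul_one] at hdg; exact hdg
    have hs0 : s ≠ 0 := fun e => by rw [e, zero_pow (by omega)] at hsn; exact zero_ne_one hsn
    refine ⟨s⁻¹, by rw [inv_pow, hsn, inv_one], ?_⟩
    rw [hs, smul_smul, mul_assoc, inv_mul_cancel₀ hs0, mul_one]
    refine refl_prod h4 hε0 n _ (by omega) (by omega) (by rw [LinearMap.det_smul, hn, map_one, mul_one]) ?_
    have e : (ε • (1 : Module.End K V)) - 1 = (ε - 1) • 1 := by rw [sub_smul, one_smul]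
    rw [e]
    by_cases h1 : ε = 1
    · left
      rw [h1, sub_self, zero_smul, LinearMap.range_zero, finrank_bot]
      omega
    · right
      refine ⟨?_, Or.inr (Or.inr ⟨h1, by rw [smul_mul_smul_comm, one_mul, smul_smul]⟩)⟩
      rw [LinearMap.range_smul _ _ (sub_ne_zero.2 h1),
        LinearMap.range_eq_top.2 (fun q => ⟨q, rfl⟩ : Function.Surjective (1 : Module.End K V)), finrank_top, hn]
  · push Not at hg
    refine ⟨1, one_pow n, ?_⟩
    rw [mul_one]
    refine refl_prod h4 hε0 n _ (by omega) (by omega)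
      (by rw [LinearMap.det_smul, hn, hdg, mul_one]) ?_
    set M := ε • g - 1 with hM
    have := Submodule.finrank_le (LinearMap.range M)
    rcases lt_or_eq_of_le (show finrank K (LinearMap.range M) ≤ n by omega) with h | h
    · exact Or.inl ⟨h, by omega⟩
    · refine Or.inr ⟨h, Or.inr (Or.inl fun c hc => hg (ε⁻¹ * (1 + c)) ?_)⟩
      have hinj : Function.Injective M := LinearMap.injective_iff_surjective.2
        (LinearMap.range_eq_top.1 (Submodule.eq_top_of_finrank_eq (h.trans hn.symm)))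
      have hMc : M = c • 1 := LinearMap.ext fun q => hinj (by
        have := LinearMap.congr_fun hc q
        rw [Module.End.mul_apply] at this
        rw [this, LinearMap.smul_apply, LinearMap.smul_apply, Module.End.one_apply, map_smul])
      have : ε • g = (1 + c) • 1 := by rw [add_smul, one_smul, ← hMc, hM]; abel
      rw [mul_smul, ← this, inv_smul_smul₀ hε0]

end CfsgLib.PSLCover
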