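import Cfsg.Agent.Lib.PSLCover.Cyclic
import Cfsg.Agent.Lib.PSLCover.PseudoTop

/-! Central products of commuting conjugates. -/

set_option autoImplicit false
set_option linter.unusedSectionVars false

namespace CfsgLib.PSLCover

open Module LinearMap

universe u v

variable {K : Type u} [Field K] {V : Type v} [AddCommGroup V] [Module K V] [FiniteDimensional K V]

theorem exists_zero_sum (h4 : ∃ k : Fin 4 → K, Function.Injective k) :
    ∀ n : ℕ, 2 ≤ n → ∃ α : List K, α.length = n ∧ (∀ r ∈ α, r ≠ 0) ∧ α.sum = 0 := by
  classical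
  intro n
  induction n using Nat.strong_induction_on with | _ n ih
  intro hn
  obtain rfl | rfl | h : n = 2 ∨ n = 3 ∨ 4 ≤ n := by omega
  · exact ⟨[1, -1], rfl, by simp, by simp⟩
  · obtain ⟨r, hr⟩ := RegUnipProd.exists_notMem h4 {0, -1} ((Finset.card_le_two).trans (by norm_num))
    simp only [Finset.mem_insert, Finset.mem_singleton, not_or] at hr
    refine ⟨[1, r, -1 - r], rfl, ?_, by simp⟩
    simp only [List.mem_cons, List.not_mem_nil, or_false, forall_eq_or_imp, forall_eq]
    exact ⟨one_ne_zero, hr.1, fun e => hr.2 (by linear_combination -e)⟩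
  · obtain ⟨α, h1, h2, h3⟩ := ih (n - 2) (by omega) (by omega)
    refine ⟨1 :: -1 :: α, by simp [h1]; omega, fun r hr => ?_, by simp [h3]⟩
    rcases List.mem_cons.1 hr with rfl | hr
    · exact one_ne_zero
    rcases List.mem_cons.1 hr with rfl | hr
    exacts [neg_ne_zero.2 one_ne_zero, h2 r hr]

/-- A scaled square-zero map. -/
theorem prod_scaled (h4 : ∃ k : Fin 4 → K, Function.Injective k) {n : ℕ} (hn : finrank K V = n) (h2 : 2 ≤ n)
    {x N : Module.End K V} {c : K} (hx : x = c • (1 + N)) (hN : N * N = 0) (hdx : LinearMap.det x = 1)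
    (hF : FullDet x) : IsProd ({1} : Set K) x 1 n := by
  have hc : c ^ n = 1 := by
    rw [hx, LinearMap.det_smul, RegUnipProd.det_one_add_sq_zero N hN, hn, mul_one] at hdx
    exact hdx
  obtain ⟨α, h1, ha, hs⟩ := exists_zero_sum h4 n h2
  obtain ⟨C, hC⟩ := (LinearMap.range N).exists_isCompl
  let π : Module.End K V := (LinearMap.range N).subtype ∘ₗ (LinearMap.range N).linearProjOfIsCompl C hC
  have hπN : ∀ v, π (N v) = N v := fun v => congrArg Subtype.val
    (Submodule.linearProjOfIsCompl_apply_left hC ⟨N v, LinearMap.mem_range_self N v⟩)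
  have hNπ : ∀ v, N (π v) = 0 := fun v => by
    obtain ⟨q, hq⟩ := ((LinearMap.range N).linearProjOfIsCompl C hC v).2
    show N (((LinearMap.range N).linearProjOfIsCompl C hC v : LinearMap.range N) : V) = 0
    rw [← hq]
    exact LinearMap.congr_fun hN q
  have hππ : ∀ v, π (π v) = π v := fun v => by
    obtain ⟨q, hq⟩ := ((LinearMap.range N).linearProjOfIsCompl C hC v).2
    show π (((LinearMap.range N).linearProjOfIsCompl C hC v : LinearMap.range N) : V) = _
    rw [← hq, hπN]
    exact hq
  have conj : ∀ r : K, r ≠ 0 → ConjIn ({1} : Set K) x (c • (1 + r • N)) := by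
    intro r hr
    let e : V ≃ₗ[K] V := LinearEquiv.ofLinearMap (1 + (r - 1) • π) (1 + (r⁻¹ - 1) • π)
      (LinearMap.ext fun v => by simp [hππ]; match_scalars <;> field_simp <;> ring)
      (LinearMap.ext fun v => by simp [hππ]; match_scalars <;> field_simp <;> ring)
    refine ConjIn.of_full hF (⟨e, trivial, fun v => ?_⟩ : ConjIn (Set.univ : Set K) x (c • (1 + r • N)))
    show (c • (1 + r • N)) (v + (r - 1) • π v) = (x v) + (r - 1) • π (x v)
    rw [hx]
    simp [hNπ, hπN]
    module
  refine ⟨α.map fun r => c • (1 + r • N), by simp [h1], fun f hf => ?_, ?_⟩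
  · obtain ⟨r, hr, rfl⟩ := List.mem_map.1 hf
    exact conj r (ha r hr)
  · have key : ∀ β : List K, (β.map fun r => c • (1 + r • N)).prod = c ^ β.length • (1 + β.sum • N) := by
      intro β
      induction β with
      | nil => simp
      | cons r β ih =>
        rw [List.map_cons, List.prod_cons, ih, smul_mul_smul_comm, List.length_cons, pow_succ', List.sum_cons]
        congr 1
        refine LinearMap.ext fun v => ?_
        have : N (N v) = 0 := LinearMap.congr_fun hN v
        simp [this]
        module
    rw [key, h1, hs, hc, zero_smul, add_zero, one_smul]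

/-- Rotating the entries of a diagonal map. -/
theorem prod_rotate {n : ℕ} [NeZero n] (B : Basis (Fin n) K V) {x : Module.End K V} {l : Fin n → K}
    (hx : ∀ i, x (B i) = l i • B i) (hdx : LinearMap.det x = 1) (hF : FullDet x) :
    IsProd ({1} : Set K) x 1 n := by
  classical
  have hl : ∏ i, l i = 1 := by
    rw [← hdx, ← LinearMap.det_toMatrix B, show LinearMap.toMatrix B B x = Matrix.diagonal l from ?_,
      Matrix.det_diagonal]
    ext i j
    rw [LinearMap.toMatrix_apply, hx, map_smul, Finsupp.smul_apply, Basis.repr_self, Matrix.diagonal_apply,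
      Finsupp.single_apply]
    by_cases h : i = j
    · subst h; simp
    · simp [h, Ne.symm h]
  let e : Fin n → (V ≃ₗ[K] V) := fun j => B.equiv B (Equiv.addRight j)
  have he : ∀ j i, (e j).conj x (B i) = l (i - j) • B i := fun j i => by
    have h1 : e j (B (i - j)) = B i := by simp [e]
    rw [← h1, LinearEquiv.conj_apply_apply, LinearEquiv.symm_apply_apply, hx, map_smul]
  refine ⟨(List.finRange n).map fun j => (e j).conj x, by simp, fun f hf => ?_, B.ext fun i => ?_⟩
  · obtain ⟨j, -, rfl⟩ := List.mem_map.1 hf
    exact ConjIn.of_full hF (⟨e j, trivial, fun v => by simp [LinearEquiv.conj_apply]⟩ :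
      ConjIn (Set.univ : Set K) x ((e j).conj x))
  · have key : ∀ L : List (Fin n), ((L.map fun j => (e j).conj x).prod) (B i) =
        (L.map fun j => l (i - j)).prod • B i := by
      intro L
      induction L with
      | nil => simp
      | cons j L ih =>
        rw [List.map_cons, List.prod_cons, Module.End.mul_apply, ih, map_smul, he, List.map_cons, List.prod_cons,
          smul_smul, mul_comm]
    rw [key, ← List.ofFn_eq_map, List.prod_ofFn, show ∏ j, l (i - j) = ∏ j, l j from Equiv.prod_comp (Equiv.subLeft i) l, hl, one_smul,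
      Module.End.one_apply]

end CfsgLib.PSLCover
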