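import Cfsg.Agent.Lib.PSLCover.ScalarHalf
import Cfsg.Agent.Lib.PSLCover.ScalarQuad

/-! Central targets from dimension five on. -/

set_option autoImplicit false
set_option linter.unusedSectionVars false

namespace CfsgLib.PSLCover

open Module LinearMap Polynomial
open CfsgLib.SLCommutator (Cyc)

universe u v

variable {K : Type u} [Field K] {V : Type v} [AddCommGroup V] [Module K V] [FiniteDimensional K V]

theorem cyclic_prod [Finite K] (h4 : ∃ k : Fin 4 → K, Function.Injective k) (hn5 : 5 ≤ finrank K V)
    {x : Module.End K V} {v : V} (hv : Cyc x v) (hdx : LinearMap.det x = 1) (hF : FullDet x)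
    (hns : ∀ s : K, x ≠ s • 1) :
    ∀ m, 4 ≤ m → ∀ g : Module.End K V, (∀ s : K, g ≠ s • 1) → LinearMap.det g = 1 → IsProd ({1} : Set K) x g m := by
  obtain ⟨η, hη0, hη⟩ := exists_ne_four h4 (1 : K)
  obtain ⟨j, hj⟩ : ∃ j, finrank K V = j + 2 := ⟨finrank K V - 2, by omega⟩
  intro m hm
  induction m, hm using Nat.le_induction with
  | base =>
    intro g hg hdet
    obtain ⟨y, e, he, hr, hcov, -, -⟩ := cyclic_pair_eta h4 hv (j := j) hj (by omega)
      (by rw [hdx, one_mul]) hη0 (fun h => hη (by rw [h, one_mul])) hη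
    exact IsProd.of_full hF (pair_cover closed_univ (H := Set.univ) (y := y) ⟨e, trivial, he⟩ hr hcov
      (by simp [hdx, hη0]) (Or.inl rfl) (by rw [hdet, hdx, one_pow]) hg).1
  | succ m hm ih =>
    intro g hg hdet
    obtain ⟨y, h, hy, hgh, hd, hh⟩ := split_off (g := g) (hdx ▸ one_ne_zero) (hdet ▸ one_ne_zero) hns
    exact isProd_cons hy (ih h hh (by rw [hdet, hdx, one_mul] at hd; exact hd.symm)) hgh

theorem cyclic_one [Finite K] (h4 : ∃ k : Fin 4 → K, Function.Injective k) (hn5 : 5 ≤ finrank K V)
    {x : Module.End K V} {v : V} (hv : Cyc x v) (hdx : LinearMap.det x = 1) (hF : FullDet x)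
    (hns : ∀ s : K, x ≠ s • 1) : IsProd ({1} : Set K) x 1 (finrank K V) := by
  obtain ⟨x', hx1, hx2⟩ := exists_inverse (f := x) (hdx ▸ one_ne_zero)
  have hxx : x * x' = 1 := LinearMap.ext hx1
  obtain ⟨m, hm⟩ : ∃ m, finrank K V = m + 1 := ⟨finrank K V - 1, by omega⟩
  rw [hm]
  refine isProd_cons (ConjIn.refl (H := ({1} : Set K)) (Set.mem_singleton 1) x)
    (cyclic_prod h4 hn5 hv hdx hF hns m (by omega) x' (fun s hs => ?_) ?_) hxx.symm
  · by_cases h0 : s = 0
    · have := congrArg LinearMap.det hxx
      rw [hs, h0, zero_smul, mul_zero, map_one, LinearMap.det_zero, zero_pow (by omega)] at this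
      exact zero_ne_one this
    · refine hns s⁻¹ (LinearMap.ext fun v => ?_)
      have := hx2 v
      rw [hs, LinearMap.smul_apply, Module.End.one_apply] at this
      rw [LinearMap.smul_apply, Module.End.one_apply, eq_inv_smul_iff₀ h0, this]
  · have := congrArg LinearMap.det hxx
    rwa [map_mul, hdx, one_mul, map_one] at this

/-- A quotient that still sees a cubic relation. -/
theorem not_pseudo_of_ann {x : Module.End K V} {W : Submodule K V} (hW : ∀ w ∈ W, x w ∈ W) {v : V}
    (h : ∀ b e : K, x (x v - b • v) - e • (x v - b • v) ∉ W) : ¬ Pseudo (W.mapQ W x hW) := by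
  rintro ⟨b, hb⟩
  obtain ⟨z, hz⟩ : ∃ z, LinearMap.range (W.mapQ W x hW - b • 1) ≤ Submodule.span K {z} := by
    rcases eq_or_ne (LinearMap.range (W.mapQ W x hW - b • 1)) ⊥ with e | e
    · exact ⟨0, e ▸ bot_le⟩
    · obtain ⟨z, hz, hz0⟩ := Submodule.exists_mem_ne_zero_of_ne_bot e
      exact ⟨z, (Submodule.eq_of_le_of_finrank_le ((Submodule.span_singleton_le_iff_mem _ _).2 hz)
        (by rw [finrank_span_singleton hz0]; omega)).ge⟩
  obtain ⟨c, hc⟩ := Submodule.mem_span_singleton.1 (hz (LinearMap.mem_range_self _ z))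
  obtain ⟨a, ha⟩ := Submodule.mem_span_singleton.1 (hz (LinearMap.mem_range_self _ (Submodule.Quotient.mk v)))
  refine h b (b + c) ((Submodule.Quotient.mk_eq_zero W).1 ?_)
  rw [RegUnipProd.sub_smul_one_apply, Submodule.mapQ_apply] at ha
  have e1 : Submodule.Quotient.mk (x v - b • v) = a • z := by
    rw [Submodule.Quotient.mk_sub, Submodule.Quotient.mk_smul, ← ha]
  rw [Submodule.Quotient.mk_sub, Submodule.Quotient.mk_smul, e1,
    show Submodule.Quotient.mk (x (x v - b • v)) = W.mapQ W x hW (Submodule.Quotient.mk (x v - b • v)) from rfl, e1,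
    map_smul]
  rw [RegUnipProd.sub_smul_one_apply, eq_comm, sub_eq_iff_eq_add] at hc
  rw [hc]
  module

/-- A flag of two in an invariant subspace of a split map. -/
theorem exists_flag {x : Module.End K V} (R : List K) (hR : (R.map fun r => x - r • 1).prod = 0) {C : Submodule K V}
    (hC : ∀ w ∈ C, x w ∈ C) (h2 : 2 ≤ finrank K C) :
    ∃ W : Submodule K V, W ≤ C ∧ (∀ w ∈ W, x w ∈ W) ∧ finrank K W = 2 := by
  haveI : Nontrivial C := Module.nontrivial_of_finrank_pos (R := K) (by omega)
  have hC' : ((R.map fun r => x.restrict hC - r • 1).prod) = 0 := LinearMap.ext fun w => Subtype.ext (by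
    rw [aeval_comp_restrict, hR]; rfl)
  obtain ⟨a, u, hu0, hu⟩ := eigen_of_roots R hC'
  set y := (Submodule.span K {u}).mapQ (Submodule.span K {u}) (x.restrict hC) (invariant_line hu) with hy
  haveI : Nontrivial (↥C ⧸ Submodule.span K {u}) := Submodule.Quotient.nontrivial_iff.2 fun e => by
    have := finrank_span_singleton (K := K) hu0
    rw [e, finrank_top] at this
    omega
  have hy' : (R.map fun r => y - r • 1).prod = 0 := by
    have key : ∀ R : List K, ∀ w : C, (R.map fun r => y - r • 1).prod (Submodule.Quotient.mk w) =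
        Submodule.Quotient.mk ((R.map fun r => x.restrict hC - r • 1).prod w) := by
      intro R
      induction R with
      | nil => intro w; simp
      | cons r R ih =>
        intro w
        simp only [List.map_cons, List.prod_cons, Module.End.mul_apply, RegUnipProd.sub_smul_one_apply, ih]
        simp [hy]
    refine LinearMap.ext fun t => ?_
    obtain ⟨w, rfl⟩ := (Submodule.span K {u}).mkQ_surjective t
    rw [Submodule.mkQ_apply, key, hC', LinearMap.zero_apply, Submodule.Quotient.mk_zero, LinearMap.zero_apply]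
  obtain ⟨e, q, hq0, hq⟩ := eigen_of_roots R hy'
  obtain ⟨q, rfl⟩ := (Submodule.span K {u}).mkQ_surjective q
  rw [Submodule.mkQ_apply, hy, Submodule.mapQ_apply, ← Submodule.Quotient.mk_smul, Submodule.Quotient.eq] at hq
  obtain ⟨o, ho⟩ := Submodule.mem_span_singleton.1 hq
  have hli : LinearIndependent K ![(u : V), (q : V)] := by
    rw [LinearIndependent.pair_iff]
    intro s t hst
    have hst' : s • u + t • q = 0 := Subtype.ext hst
    have ht : t = 0 := by
      by_contra ht
      refine hq0 ((Submodule.Quotient.mk_eq_zero _).2 ((Submodule.smul_mem_iff _ ht).1 ?_))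
      rw [eq_neg_of_add_eq_zero_right hst']
      exact Submodule.neg_mem _ (Submodule.smul_mem _ _ (Submodule.mem_span_singleton_self u))
    rw [ht, zero_smul, add_zero] at hst'
    exact ⟨(smul_eq_zero.1 hst').resolve_right hu0, ht⟩
  refine ⟨Submodule.span K {(u : V), (q : V)}, Submodule.span_le.2 ?_, fun w hw => ?_, ?_⟩
  · rintro _ (rfl | rfl)
    exacts [u.2, q.2]
  · obtain ⟨s, t, rfl⟩ := Submodule.mem_span_pair.1 hw
    have h1 : x (u : V) = a • (u : V) := congrArg Subtype.val hu
    have h2 : x (q : V) = e • (q : V) + o • (u : V) := by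
      have := congrArg Subtype.val ho
      simp [LinearMap.coe_restrict_apply] at this
      rw [this]; abel
    rw [map_add, map_smul, map_smul, h1, h2, Submodule.mem_span_pair]
    exact ⟨s * a + t * o, t * e, by module⟩
  · have := finrank_span_eq_card hli
    rwa [Matrix.range_cons, Matrix.range_cons, Matrix.range_empty, Set.union_empty, Set.singleton_union,
      Fintype.card_fin] at this

theorem step_two [Finite K] (h4 : ∃ k : Fin 4 → K, Function.Injective k) (hn5 : 5 ≤ finrank K V)
    {x : Module.End K V} (hdx : LinearMap.det x = 1) (hp : ¬ Pseudo x) {W : Submodule K V}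
    (hW : ∀ w ∈ W, x w ∈ W) (hW2 : finrank K W = 2) (hq : ¬ Pseudo (W.mapQ W x hW)) :
    IsProd ({1} : Set K) x 1 (finrank K V) := by
  obtain ⟨p, hp'⟩ := exists_P2 (by omega) hp
  exact scalar_step h4 hn5 hdx hW hW2 le_rfl (by omega) hq hp'

/-- A quadratic relation. -/
theorem quad_big [Finite K] (h4 : ∃ k : Fin 4 → K, Function.Injective k) (hn5 : 5 ≤ finrank K V)
    {x : Module.End K V} (hdx : LinearMap.det x = 1) (hp : ¬ Pseudo x) {c d : K}
    (hcd : ∀ v, x (x v) = (c + d) • x v - (c * d) • v) : IsProd ({1} : Set K) x 1 (finrank K V) := by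
  classical
  obtain ⟨v, hv⟩ := exists_not_eigen (not_scalar_of_not_pseudo hp)
  set W := Submodule.span K ({v, x v} : Set V) with hWdef
  have hvW : v ∈ W := Submodule.subset_span (by simp)
  have hxvW : x v ∈ W := Submodule.subset_span (by simp)
  have hW : ∀ w ∈ W, x w ∈ W := fun w hw => by
    obtain ⟨s, t, rfl⟩ := Submodule.mem_span_pair.1 hw
    rw [map_add, map_smul, map_smul, hcd]
    exact W.add_mem (W.smul_mem _ hxvW) (W.smul_mem _ (W.sub_mem (W.smul_mem _ hxvW) (W.smul_mem _ hvW)))
  have hv0 : v ≠ 0 := fun e => hv (by rw [e, map_zero]; exact zero_mem _)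
  have hW2 : finrank K W = 2 := by
    have hli : LinearIndependent K ![v, x v] := linearIndependent_fin2.2
      ⟨fun e => hv (by rw [show x v = 0 from e]; exact zero_mem _), fun o e => by
        rcases eq_or_ne o 0 with rfl | ho
        · simp at e; exact hv0 e.symm
        · refine hv (Submodule.mem_span_singleton.2 ⟨o⁻¹, ?_⟩)
          rw [eq_comm, eq_inv_smul_iff₀ ho]
          exact e⟩
    have := finrank_span_eq_card hli
    rwa [Matrix.range_cons, Matrix.range_cons, Matrix.range_empty, Set.union_empty, Set.singleton_union,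
      Fintype.card_fin] at this
  by_cases hq : Pseudo (W.mapQ W x hW)
  swap
  · exact step_two h4 hn5 hdx hp hW hW2 hq
  obtain ⟨b, hb⟩ := hq
  set Y := W.mapQ W x hW - b • 1 with hY
  set B : Module.End K V := x - b • 1 with hB
  have hsum := Submodule.finrank_quotient_add_finrank W
  obtain ⟨q, hqk, hq0⟩ := Submodule.exists_mem_ne_zero_of_ne_bot
    (show LinearMap.ker Y ≠ ⊥ from fun e => by
      have := LinearMap.finrank_range_add_finrank_ker Y
      rw [e, finrank_bot] at this
      omega)
  have hbcd : b = c ∨ b = d := by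
    obtain ⟨q, rfl⟩ := W.mkQ_surjective q
    have h1 : W.mapQ W x hW (W.mkQ q) = b • W.mkQ q := RegUnipProd.mem_eigKer.1 hqk
    have h2 : W.mapQ W x hW (W.mapQ W x hW (W.mkQ q)) = (c + d) • W.mapQ W x hW (W.mkQ q) - (c * d) • W.mkQ q := by
      simp only [Submodule.mkQ_apply, Submodule.mapQ_apply, hcd, Submodule.Quotient.mk_sub, Submodule.Quotient.mk_smul]
    rw [h1, map_smul, h1, smul_smul, smul_smul] at h2
    have : ((b - c) * (b - d)) • W.mkQ q = 0 := by linear_combination (norm := module) h2
    rcases mul_eq_zero.1 ((smul_eq_zero.1 this).resolve_right hq0) with h | h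
    exacts [Or.inl (sub_eq_zero.1 h), Or.inr (sub_eq_zero.1 h)]
  obtain ⟨e, hbe⟩ : ∃ e, ∀ v, x (x v) = (b + e) • x v - (b * e) • v := by
    rcases hbcd with rfl | rfl
    exacts [⟨d, hcd⟩, ⟨c, fun v => by rw [hcd, add_comm c, mul_comm c]⟩]
  have hr2 : finrank K (LinearMap.range B) = 2 := by
    refine le_antisymm ?_ (by by_contra h; exact hp ⟨b, by rw [← hB]; omega⟩)
    have hmap : finrank K (W.map B) ≤ 1 := by
      refine (Submodule.finrank_mono (show W.map B ≤ Submodule.span K {B v} from ?_)).trans
        (RegUnipProd.finrank_span_singleton_le _)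
      rintro _ ⟨w, hw, rfl⟩
      obtain ⟨s, t, rfl⟩ := Submodule.mem_span_pair.1 hw
      refine Submodule.mem_span_singleton.2 ⟨s + t * e, ?_⟩
      simp only [hB, RegUnipProd.sub_smul_one_apply, map_add, map_smul, hbe]
      module
    -- the range maps to the range on the quotient with small kernel
    have hle : (LinearMap.range B).map W.mkQ ≤ LinearMap.range Y := by
      rintro _ ⟨_, ⟨p, rfl⟩, rfl⟩
      exact ⟨W.mkQ p, by simp [hY, hB]⟩
    have hker : finrank K (W ⊓ LinearMap.range B : Submodule K V) ≤ 1 := by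
      by_contra h
      have h2 : W ⊓ LinearMap.range B = W := Submodule.eq_of_le_of_finrank_le inf_le_left (by omega)
      -- then `x - e` kills `W`
      obtain ⟨p, hp'⟩ : v ∈ LinearMap.range B := (h2 ▸ inf_le_right : W ≤ LinearMap.range B) hvW
      refine hv (Submodule.mem_span_singleton.2 ⟨e, ?_⟩)
      rw [← hp', hB]
      simp only [RegUnipProd.sub_smul_one_apply, map_sub, map_smul, hbe]
      module
    have h1 := LinearMap.finrank_range_add_finrank_ker (W.mkQ.domRestrict (LinearMap.range B))
    rw [LinearMap.range_domRestrict] at h1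
    have h3 : finrank K (LinearMap.ker (W.mkQ.domRestrict (LinearMap.range B))) ≤ 1 := by
      refine le_trans (le_of_eq ?_) hker
      have e1 : (LinearMap.ker (W.mkQ.domRestrict (LinearMap.range B))).map (LinearMap.range B).subtype =
          W ⊓ LinearMap.range B := by
        ext p
        constructor
        · rintro ⟨⟨q, hq⟩, hk, rfl⟩
          exact ⟨(Submodule.Quotient.mk_eq_zero W).1 (LinearMap.mem_ker.1 hk), hq⟩
        · rintro ⟨h1, h2⟩
          exact ⟨⟨p, h2⟩, LinearMap.mem_ker.2 ((Submodule.Quotient.mk_eq_zero W).2 h1), rfl⟩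
      rw [← e1]
      exact (Submodule.equivMapOfInjective _ (Submodule.subtype_injective _) _).finrank_eq
    have h4 := Submodule.finrank_mono hle
    omega
  have hdx0 : LinearMap.det x ≠ 0 := hdx ▸ one_ne_zero
  by_cases hbe' : b = e
  · -- square zero
    subst hbe'
    have hb0 : b ≠ 0 := fun h0 => by
      obtain ⟨x', -, hx'⟩ := exists_inverse hdx0
      have := congrArg x' (congrArg x' (hbe v))
      rw [h0, hx', hx'] at this
      simp at this
      exact hv0 this
    set N : Module.End K V := b⁻¹ • x - 1 with hN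
    have hxN : x = b • (1 + N) := by rw [hN, add_sub_cancel, smul_inv_smul₀ hb0]
    have hN2 : N * N = 0 := LinearMap.ext fun p => by
      simp only [hN, Module.End.mul_apply, LinearMap.sub_apply, LinearMap.smul_apply, Module.End.one_apply, map_sub,
        map_smul, hbe, LinearMap.zero_apply]
      match_scalars <;> field_simp <;> ring
    refine prod_scaled h4 rfl (by omega) hxN hN2 hdx ?_
    have hk := LinearMap.finrank_range_add_finrank_ker B
    obtain ⟨u, hu, hur⟩ : ∃ u, u ∈ LinearMap.ker B ∧ u ∉ LinearMap.range B := by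
      by_contra h
      push Not at h
      have := Submodule.finrank_mono (show LinearMap.ker B ≤ LinearMap.range B from h)
      omega
    exact fullDet_of_eigen (RegUnipProd.mem_eigKer.1 hu) hur
  · -- diagonal
    set E : Module.End K V := x - e • 1 with hE
    haveI : Nontrivial V := Module.nontrivial_of_finrank_pos (R := K) (by omega)
    have hF : FullDet x := by
      refine fullDet_of_semisimple (Module.End.isSemisimple_of_squarefree_aeval_eq_zero
        (p := (Polynomial.X - Polynomial.C b) * (Polynomial.X - Polynomial.C e)) ?_ (LinearMap.ext fun p => ?_))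
      · rw [squarefree_mul_iff]
        exact ⟨(Polynomial.isCoprime_X_sub_C_of_isUnit_sub (sub_ne_zero.2 hbe').isUnit).isRelPrime,
          (Polynomial.irreducible_X_sub_C b).squarefree, (Polynomial.irreducible_X_sub_C e).squarefree⟩
      · simp [Algebra.algebraMap_eq_smul_one, hbe]
        module
    have hBE : ∀ p, B (E p) = 0 ∧ E (B p) = 0 := fun p => by
      simp only [hB, hE, RegUnipProd.sub_smul_one_apply, map_sub, map_smul, hbe]
      constructor <;> module
    have hcompl : IsCompl (LinearMap.ker B) (LinearMap.ker E) := by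
      refine ⟨disjoint_iff.2 ((Submodule.eq_bot_iff _).2 fun p ⟨h1, h2⟩ => ?_), codisjoint_iff.2 ?_⟩
      · have e1 := RegUnipProd.mem_eigKer.1 h1
        have e2 := RegUnipProd.mem_eigKer.1 h2
        rw [e1, ← sub_eq_zero, ← sub_smul] at e2
        exact (smul_eq_zero.1 e2).resolve_left (sub_ne_zero.2 hbe')
      · refine eq_top_iff.2 fun p _ => Submodule.mem_sup.2
          ⟨(b - e)⁻¹ • E p, Submodule.smul_mem _ _ (LinearMap.mem_ker.2 (hBE p).1), -((b - e)⁻¹ • B p),
            Submodule.neg_mem _ (Submodule.smul_mem _ _ (LinearMap.mem_ker.2 (hBE p).2)), ?_⟩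
        simp only [hB, hE, RegUnipProd.sub_smul_one_apply]
        match_scalars
        · field_simp [sub_ne_zero.2 hbe']
          ring
        · field_simp [sub_ne_zero.2 hbe']
          ring
    let bb := ((Module.finBasis K (LinearMap.ker B)).prod (Module.finBasis K (LinearMap.ker E))).map
      (Submodule.prodEquivOfIsCompl _ _ hcompl)
    let BB := bb.reindex ((Fintype.equivFin _).trans (finCongr (Module.finrank_eq_card_basis bb).symm))
    have hl : ∀ i, ∃ l : K, x (BB i) = l • BB i := by
      intro i
      obtain ⟨s, hs⟩ : ∃ s, BB i = bb s := ⟨_, Basis.reindex_apply bb _ i⟩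
      rw [hs]
      rcases s with s | s
      · refine ⟨b, ?_⟩
        have : bb (Sum.inl s) = (Module.finBasis K (LinearMap.ker B) s : V) := by simp [bb]
        rw [this]
        exact RegUnipProd.mem_eigKer.1 (Module.finBasis K (LinearMap.ker B) s).2
      · refine ⟨e, ?_⟩
        have : bb (Sum.inr s) = (Module.finBasis K (LinearMap.ker E) s : V) := by simp [bb]
        rw [this]
        exact RegUnipProd.mem_eigKer.1 (Module.finBasis K (LinearMap.ker E) s).2
    choose l hl using hl
    haveI : NeZero (finrank K V) := ⟨by omega⟩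
    exact prod_rotate BB hl hdx hF

theorem scalar_big [Finite K] (h4 : ∃ k : Fin 4 → K, Function.Injective k) (hn5 : 5 ≤ finrank K V)
    {x : Module.End K V} (hdx : LinearMap.det x = 1) (hp : ¬ Pseudo x) :
    ∃ lam : K, lam ^ finrank K V = 1 ∧ IsProd ({1} : Set K) x (lam • 1) (finrank K V) := by
  classical
  haveI : Nontrivial V := Module.nontrivial_of_finrank_pos (R := K) (by omega)
  have fin : IsProd ({1} : Set K) x 1 (finrank K V) →
      ∃ lam : K, lam ^ finrank K V = 1 ∧ IsProd ({1} : Set K) x (lam • 1) (finrank K V) :=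
    fun h => ⟨1, one_pow _, by rwa [one_smul]⟩
  have hns := not_scalar_of_not_pseudo hp
  by_cases hno : ∀ (a : K) (v : V), x v = a • v → v = 0
  · by_cases hirr : ∀ W : Submodule K V, (∀ w ∈ W, x w ∈ W) → W = ⊥ ∨ W = ⊤
    · obtain ⟨v, hv⟩ := cyc_of_irr hirr
      exact fin (cyclic_one h4 hn5 hv hdx (fullDet_of_irr hirr) hns)
    obtain ⟨W, hW, hWb, hd2, hA⟩ := exists_small hirr
    have hd : 2 ≤ finrank K W := by
      by_contra hlt
      obtain ⟨w, hw, hw0⟩ := Submodule.exists_mem_ne_zero_of_ne_bot hWb
      have hle : Submodule.span K {w} = W := Submodule.eq_of_le_of_finrank_le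
        (Submodule.span_le.2 (Set.singleton_subset_iff.2 hw)) (by rw [finrank_span_singleton hw0]; omega)
      obtain ⟨a, ha⟩ := Submodule.mem_span_singleton.1 (hle.symm ▸ hW w hw : x w ∈ Submodule.span K {w})
      exact hw0 (hno a w ha.symm)
    have hsum := Submodule.finrank_quotient_add_finrank W
    rcases lt_or_eq_of_le hd2 with hlt | heq
    · obtain ⟨p, hp'⟩ := exists_P hno _ hd2
      exact fin (scalar_step h4 hn5 hdx hW rfl hd hlt
        (not_pseudo_of_no_eigen (by omega) (quot_no_eigen hno hW)) hp')
    · exact scalar_half h4 hdx hno hW hA rfl heq.symm (by omega)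
  push Not at hno
  obtain ⟨a, u, hu, hu0⟩ := hno
  set U := Submodule.span K ({u} : Set V) with hUdef
  by_cases hqe : ∀ (r : K) (t : V ⧸ U), U.mapQ U x (invariant_line hu) t = r • t → t = 0
  · -- a single simple eigenvalue
    have hker : ∀ q, x q - a • q ∈ U → q ∈ U := fun q h => by
      rw [← Submodule.Quotient.mk_eq_zero]
      refine hqe a _ ?_
      rw [Submodule.mapQ_apply, ← Submodule.Quotient.mk_smul, Submodule.Quotient.eq]
      exact h
    set N : Module.End K V := x - a • 1 with hN
    set V1 := LinearMap.range N with hV1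
    have hV1i : ∀ w ∈ V1, x w ∈ V1 := by
      rintro _ ⟨q, rfl⟩
      exact ⟨x q, by simp only [hN, RegUnipProd.sub_smul_one_apply, map_sub, map_smul]⟩
    have hur : u ∉ V1 := fun ⟨q, hq⟩ => hu0 (by
      obtain ⟨o, ho⟩ := Submodule.mem_span_singleton.1 (hker q (by
        rw [← RegUnipProd.sub_smul_one_apply, ← hN, hq]; exact Submodule.mem_span_singleton_self u))
      rw [← hq, ← ho, map_smul, hN, RegUnipProd.sub_smul_one_apply, hu, sub_self, smul_zero])
    have hF : FullDet x := fullDet_of_eigen hu hur
    have hk : LinearMap.ker N = U := by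
      refine le_antisymm (fun q hq => hker q ?_) ((Submodule.span_singleton_le_iff_mem _ _).2 (RegUnipProd.mem_eigKer.2 hu))
      rw [← RegUnipProd.sub_smul_one_apply, ← hN, LinearMap.mem_ker.1 hq]
      exact zero_mem _
    have hdim : finrank K V1 + 1 = finrank K V := by
      have := LinearMap.finrank_range_add_finrank_ker N
      rwa [hk, finrank_span_singleton hu0] at this
    have hno1 : ∀ (r : K) (w : V1), x.restrict hV1i w = r • w → w = 0 := fun r w hw => by
      have h1 : x (w : V) = r • (w : V) := congrArg Subtype.val hw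
      have h2 := hqe r (Submodule.Quotient.mk (w : V)) (by
        rw [Submodule.mapQ_apply, h1, Submodule.Quotient.mk_smul])
      obtain ⟨o, ho⟩ := Submodule.mem_span_singleton.1 ((Submodule.Quotient.mk_eq_zero U).1 h2)
      by_cases ho0 : o = 0
      · exact Subtype.ext (by rw [← ho, ho0, zero_smul]; rfl)
      · exact absurd ((V1.smul_mem_iff ho0).1 (ho ▸ w.2)) hur
    by_cases hirr : ∀ W : Submodule K V1, (∀ w ∈ W, x.restrict hV1i w ∈ W) → W = ⊥ ∨ W = ⊤
    · obtain ⟨v1, hv1⟩ : ∃ v1 : V1, v1 ≠ 0 := by
        haveI : Nontrivial V1 := Module.nontrivial_of_finrank_pos (R := K) (by omega)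
        exact exists_ne 0
      refine fin (cyclic_one h4 hn5 (v := u + (v1 : V)) (fun p hp' hmem => ?_) hdx hF hns)
      have h1 : x (v1 : V) - a • (v1 : V) ∈ p := by
        have := p.sub_mem (hp' _ hmem) (p.smul_mem a hmem)
        rw [map_add, hu, smul_add, add_sub_add_left_eq_sub] at this
        exact this
      have hsub : V1 ≤ p := by
        rcases hirr (p.comap V1.subtype) (fun w hw => hp' _ hw) with e | e
        · exfalso
          have hm : (⟨x (v1 : V) - a • (v1 : V), V1.sub_mem (hV1i _ v1.2) (V1.smul_mem a v1.2)⟩ : V1) ∈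
              p.comap V1.subtype := h1
          rw [e, Submodule.mem_bot] at hm
          exact hv1 (hno1 a v1 (Subtype.ext (sub_eq_zero.1 (congrArg Subtype.val hm))))
        · intro w hw
          have : (⟨w, hw⟩ : V1) ∈ p.comap V1.subtype := e ▸ Submodule.mem_top
          exact this
      have hup : u ∈ p := by
        have := p.sub_mem hmem (hsub v1.2)
        rwa [add_sub_cancel_right] at this
      refine Submodule.eq_top_of_finrank_eq (le_antisymm (Submodule.finrank_le _) ?_)
      have := Submodule.finrank_lt_finrank_of_lt (lt_of_le_of_ne hsub fun e => hur (e ▸ hup))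
      omega
    haveI : Nontrivial V1 := Module.nontrivial_of_finrank_pos (R := K) (by omega)
    obtain ⟨W1, hW1, hW1b, hd2, -⟩ := exists_small hirr
    obtain ⟨p, hp'⟩ := exists_P hno1 _ hd2
    set W := W1.map V1.subtype with hWdef
    have hW : ∀ w ∈ W, x w ∈ W := by
      rintro _ ⟨w, hw, rfl⟩
      exact ⟨_, hW1 w hw, rfl⟩
    have hWd : finrank K W = finrank K W1 := (Submodule.equivMapOfInjective _ V1.subtype_injective W1).finrank_eq.symm
    have hd : 2 ≤ finrank K W1 := by
      by_contra hlt
      obtain ⟨w, hw, hw0⟩ := Submodule.exists_mem_ne_zero_of_ne_bot hW1b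
      have hle : Submodule.span K {w} = W1 := Submodule.eq_of_le_of_finrank_le
        (Submodule.span_le.2 (Set.singleton_subset_iff.2 hw)) (by rw [finrank_span_singleton hw0]; omega)
      obtain ⟨r, hr⟩ := Submodule.mem_span_singleton.1 (hle.symm ▸ hW1 w hw : x.restrict hV1i w ∈ Submodule.span K {w})
      exact hw0 (hno1 r w hr.symm)
    refine fin (scalar_step h4 hn5 hdx hW hWd hd (by omega) ?_ (p := fun i => (p i : V)) ?_)
    · rintro ⟨b, hb⟩
      have hk2 := LinearMap.finrank_range_add_finrank_ker (W.mapQ W x hW - b • 1)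
      have hsum := Submodule.finrank_quotient_add_finrank W
      have hle : LinearMap.ker (W.mapQ W x hW - b • 1) ≤ Submodule.span K {W.mkQ u} := by
        intro t ht
        obtain ⟨q, rfl⟩ := W.mkQ_surjective t
        have h1 : x q - b • q ∈ W := by
          have := RegUnipProd.mem_eigKer.1 ht
          rwa [Submodule.mkQ_apply, Submodule.mapQ_apply, ← Submodule.Quotient.mk_smul, Submodule.Quotient.eq] at this
        have htop : U ⊔ V1 = ⊤ := Submodule.eq_top_of_finrank_eq (le_antisymm (Submodule.finrank_le _) (by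
          have := Submodule.finrank_lt_finrank_of_lt (show V1 < U ⊔ V1 from lt_of_le_of_ne le_sup_right fun e =>
            hur (e ▸ Submodule.mem_sup_left (Submodule.mem_span_singleton_self u)))
          omega))
        obtain ⟨y, hy, v1, hv1, rfl⟩ := Submodule.mem_sup.1 (htop ▸ Submodule.mem_top : q ∈ U ⊔ V1)
        obtain ⟨o, rfl⟩ := Submodule.mem_span_singleton.1 hy
        have hWV : W ≤ V1 := by rintro _ ⟨w, -, rfl⟩; exact w.2
        have h2 : (o * (a - b)) • u + (x v1 - b • v1) ∈ W := by
          rw [map_add, map_smul, hu] at h1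
          convert h1 using 1
          module
        have h3 : o * (a - b) = 0 := by
          by_contra h3
          refine hur ((V1.smul_mem_iff h3).1 ?_)
          have := V1.sub_mem (hWV h2) (V1.sub_mem (hV1i _ hv1) (V1.smul_mem b hv1))
          rwa [add_sub_cancel_right] at this
        rw [h3, zero_smul, zero_add] at h2
        obtain ⟨w1, hw1, hw1e⟩ := h2
        have h4' := quot_no_eigen hno1 hW1 b (Submodule.Quotient.mk ⟨v1, hv1⟩) (by
          rw [Submodule.mapQ_apply, ← Submodule.Quotient.mk_smul, Submodule.Quotient.eq]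
          rw [show x.restrict hV1i ⟨v1, hv1⟩ - b • (⟨v1, hv1⟩ : V1) = w1 from Subtype.ext hw1e.symm]
          exact hw1)
        have hv1W : v1 ∈ W := ⟨_, (Submodule.Quotient.mk_eq_zero W1).1 h4', rfl⟩
        rw [map_add, map_smul, show W.mkQ v1 = 0 from (Submodule.Quotient.mk_eq_zero W).2 hv1W, add_zero]
        exact Submodule.smul_mem _ _ (Submodule.mem_span_singleton_self _)
      have := (Submodule.finrank_mono hle).trans (RegUnipProd.finrank_span_singleton_le _)
      omega
    · have := hp'.map' V1.subtype V1.ker_subtype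
      rwa [show V1.subtype ∘ Sum.elim p (fun i => x.restrict hV1i (p i)) =
        Sum.elim (fun i => (p i : V)) (fun i => x (p i : V)) by
          funext s; rcases s with i | i <;> rfl] at this
  push Not at hqe
  obtain ⟨r, t, ht, ht0⟩ := hqe
  obtain ⟨q, rfl⟩ := U.mkQ_surjective t
  rw [Submodule.mkQ_apply, Submodule.mapQ_apply, ← Submodule.Quotient.mk_smul, Submodule.Quotient.eq] at ht
  obtain ⟨o, ho⟩ := Submodule.mem_span_singleton.1 ht
  have hxq : x q = r • q + o • u := by rw [ho]; abel
  set W := Submodule.span K ({u, q} : Set V) with hWdef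
  have huW : u ∈ W := Submodule.subset_span (by simp)
  have hqW : q ∈ W := Submodule.subset_span (by simp)
  have hW : ∀ w ∈ W, x w ∈ W := fun w hw => by
    obtain ⟨s, t, rfl⟩ := Submodule.mem_span_pair.1 hw
    rw [map_add, map_smul, map_smul, hu, hxq]
    exact W.add_mem (W.smul_mem _ (W.smul_mem _ huW)) (W.smul_mem _ (W.add_mem (W.smul_mem _ hqW) (W.smul_mem _ huW)))
  have hW2 : finrank K W = 2 := by
    have hli : LinearIndependent K ![u, q] := linearIndependent_fin2.2
      ⟨fun e => ht0 ((Submodule.Quotient.mk_eq_zero U).2 (show q ∈ U by rw [show q = 0 from e]; exact zero_mem _)),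
        fun o' e => by
        rcases eq_or_ne o' 0 with rfl | ho'
        · simp at e; exact hu0 e.symm
        · refine ht0 ((Submodule.Quotient.mk_eq_zero U).2 (Submodule.mem_span_singleton.2 ⟨o'⁻¹, ?_⟩))
          rw [show u = o' • q from e.symm, smul_smul, inv_mul_cancel₀ ho', one_smul]⟩
    have := finrank_span_eq_card hli
    rwa [Matrix.range_cons, Matrix.range_cons, Matrix.range_empty, Set.union_empty, Set.singleton_union,
      Fintype.card_fin] at this
  by_cases hq : Pseudo (W.mapQ W x hW)
  swap
  · exact fin (step_two h4 hn5 hdx hp hW hW2 hq)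
  -- annihilated by a split quartic
  obtain ⟨b, hb⟩ := hq
  obtain ⟨z, hz⟩ : ∃ z, LinearMap.range (W.mapQ W x hW - b • 1) ≤ Submodule.span K {W.mkQ z} := by
    rcases eq_or_ne (LinearMap.range (W.mapQ W x hW - b • 1)) ⊥ with e | e
    · exact ⟨0, e ▸ bot_le⟩
    · obtain ⟨z', hz', hz0⟩ := Submodule.exists_mem_ne_zero_of_ne_bot e
      obtain ⟨z, rfl⟩ := W.mkQ_surjective z'
      exact ⟨z, (Submodule.eq_of_le_of_finrank_le ((Submodule.span_singleton_le_iff_mem _ _).2 hz')
        (by rw [finrank_span_singleton hz0]; omega)).ge⟩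
  obtain ⟨e, he⟩ := Submodule.mem_span_singleton.1 (hz (LinearMap.mem_range_self _ (W.mkQ z)))
  have hR : ([a, r, b + e, b].map fun s => x - s • (1 : Module.End K V)).prod = 0 := by
    refine LinearMap.ext fun p => ?_
    simp only [List.map_cons, List.map_nil, List.prod_cons, List.prod_nil, mul_one, Module.End.mul_apply,
      RegUnipProd.sub_smul_one_apply, LinearMap.zero_apply]
    obtain ⟨o1, ho1⟩ := Submodule.mem_span_singleton.1 (hz (LinearMap.mem_range_self _ (W.mkQ p)))
    have hm : x (x p - b • p) - (b + e) • (x p - b • p) ∈ W := by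
      rw [← Submodule.Quotient.mk_eq_zero]
      simp only [RegUnipProd.sub_smul_one_apply, Submodule.mkQ_apply, Submodule.mapQ_apply] at ho1 he
      have e1 : (Submodule.Quotient.mk (x p - b • p) : V ⧸ W) = o1 • Submodule.Quotient.mk z := by
        rw [Submodule.Quotient.mk_sub, Submodule.Quotient.mk_smul, ← ho1]
      rw [Submodule.Quotient.mk_sub, Submodule.Quotient.mk_smul, e1,
        show (Submodule.Quotient.mk (x (x p - b • p)) : V ⧸ W) = W.mapQ W x hW (Submodule.Quotient.mk (x p - b • p)) from rfl, e1,
        map_smul, Submodule.mapQ_apply]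
      rw [eq_comm, sub_eq_iff_eq_add] at he
      rw [he]
      module
    obtain ⟨s, t, hst⟩ := Submodule.mem_span_pair.1 hm
    rw [← hst]
    simp only [map_add, map_smul, map_sub, hu, hxq]
    module
  have hRpoly : aeval x (rootPoly [a, r, b + e, b]) = 0 := by rw [aeval_rootPoly]; exact hR
  have hD4 : (minpoly K x).natDegree ≤ 4 := by
    have := natDegree_le_of_dvd (minpoly.dvd K x hRpoly) (rootPoly_monic _).ne_zero
    rwa [natDegree_rootPoly] at this
  obtain ⟨v, Cs, hv, hC, hcompl, hdim⟩ := exists_complement x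
  set m := minpoly K x with hm
  have hmm : m.Monic := minpoly.monic (Algebra.IsIntegral.isIntegral x)
  have hroot : ∀ (s : K) (p : V), p ≠ 0 → x p = s • p → m.eval s = 0 := by
    intro s p hp0 hps
    have key : ∀ f : K[X], aeval x f p = f.eval s • p := by
      intro f
      induction f using Polynomial.induction_on' with
      | add f g hf hg => simp [map_add, hf, hg, add_smul]
      | monomial n c =>
        simp only [aeval_monomial, Algebra.algebraMap_eq_smul_one, smul_mul_assoc, one_mul, LinearMap.smul_apply,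
          eval_monomial, mul_smul]
        congr 1
        induction n with
        | zero => simp
        | succ n ih => rw [pow_succ', Module.End.mul_apply, ih, map_smul, hps, smul_smul, pow_succ]
    have := key m
    rw [hm, minpoly.aeval, LinearMap.zero_apply] at this
    exact (smul_eq_zero.1 this.symm).resolve_right hp0
  by_cases hD2 : m.natDegree ≤ 2
  · -- quadratic
    obtain ⟨h, hh⟩ := Polynomial.dvd_iff_isRoot.2 (hroot a u hu0 hu : m.IsRoot a)
    have hhm : h.Monic := (monic_X_sub_C a).of_mul_monic_left (hh ▸ hmm)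
    have hh1 : h.natDegree ≤ 1 := by
      have := (monic_X_sub_C a).natDegree_mul hhm
      rw [← hh, natDegree_X_sub_C] at this
      omega
    have hh1' : h.natDegree = 1 := by
      by_contra h0
      have : h = 1 := eq_one_of_monic_natDegree_zero hhm (by omega)
      rw [this, mul_one] at hh
      have := minpoly.aeval K x
      rw [← hm, hh, map_sub, aeval_X, aeval_C, sub_eq_zero, Algebra.algebraMap_eq_smul_one] at this
      exact hns a this
    obtain ⟨d0, hd0⟩ : ∃ d0, h = X - C d0 := ⟨-h.coeff 0, by
      rw [hhm.eq_X_add_C hh1', map_neg, sub_neg_eq_add, hhm.eq_X_add_C hh1']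
      simp⟩
    refine fin (quad_big h4 hn5 hdx hp (c := a) (d := d0) fun p => ?_)
    have := LinearMap.congr_fun (minpoly.aeval K x) p
    rw [← hm, hh, hd0] at this
    simp [Algebra.algebraMap_eq_smul_one] at this
    linear_combination (norm := module) this
  push Not at hD2
  have hquad : ∀ (f : K[X]), f.natDegree < m.natDegree → f ≠ 0 → aeval x f v ≠ 0 := fun f hf hf0 h0 => by
    have := natDegree_le_of_dvd (hv f h0) hf0
    omega
  have hev : ∀ b e : K, aeval x ((X - C e) * (X - C b)) v = x (x v - b • v) - e • (x v - b • v) := fun b e => by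
    simp [Algebra.algebraMap_eq_smul_one]
  have hvZ : ∀ f : K[X], aeval x f v ∈ Submodule.span K (Set.range fun i : Fin m.natDegree => (x ^ (i : ℕ)) v) := by
    intro f
    have : aeval x f = aeval x (f %ₘ m) := by
      conv_lhs => rw [← modByMonic_add_div f m]
      rw [map_add, map_mul, hm, minpoly.aeval, zero_mul, add_zero]
    rw [this, aeval_eq_sum_range' (n := m.natDegree) (by
      rcases eq_or_ne (f %ₘ m) 0 with e | e
      · rw [e]; simp; omega
      · exact natDegree_lt_natDegree e (degree_modByMonic_lt f hmm)), LinearMap.sum_apply]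
    refine sum_mem fun i hi => ?_
    rw [LinearMap.smul_apply]
    exact Submodule.smul_mem _ _ (Submodule.subset_span ⟨⟨i, Finset.mem_range.1 hi⟩, rfl⟩)
  have hne2 : ∀ b e : K, ((X - C e) * (X - C b) : K[X]) ≠ 0 := fun b e =>
    mul_ne_zero (X_sub_C_ne_zero e) (X_sub_C_ne_zero b)
  have hdeg2 : ∀ b e : K, ((X - C e) * (X - C b) : K[X]).natDegree = 2 := fun b e => by
    rw [(monic_X_sub_C e).natDegree_mul (monic_X_sub_C b), natDegree_X_sub_C, natDegree_X_sub_C]
  rcases Nat.lt_or_ge (finrank K Cs) 2 with hC1 | hC2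
  swap
  · obtain ⟨W', hW'C, hW', hW'2⟩ := exists_flag _ hR hC hC2
    refine fin (step_two h4 hn5 hdx hp hW' hW'2 (not_pseudo_of_ann hW' (v := v) fun b e h => ?_))
    rw [← hev] at h
    refine hquad _ (by rw [hdeg2]; omega) (hne2 b e) ?_
    exact Submodule.disjoint_def.1 hcompl.disjoint _ (hvZ _) (hW'C h)
  -- a line beside a cyclic hyperplane
  obtain ⟨u1, hu1C, hu10⟩ := Submodule.exists_mem_ne_zero_of_ne_bot
    (show Cs ≠ ⊥ from fun e => by rw [e, finrank_bot] at hdim; omega)
  have hCspan : Submodule.span K {u1} = Cs := Submodule.eq_of_le_of_finrank_le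
    ((Submodule.span_singleton_le_iff_mem _ _).2 hu1C) (by rw [finrank_span_singleton hu10]; omega)
  obtain ⟨a1, ha1⟩ := Submodule.mem_span_singleton.1 (hCspan.symm ▸ hC u1 hu1C : x u1 ∈ Submodule.span K {u1})
  obtain ⟨h, hh⟩ := Polynomial.dvd_iff_isRoot.2 (hroot a1 u1 hu10 ha1.symm : m.IsRoot a1)
  have hhm : h.Monic := (monic_X_sub_C a1).of_mul_monic_left (hh ▸ hmm)
  have hhd : h.natDegree + 1 = m.natDegree := by
    rw [hh, (monic_X_sub_C a1).natDegree_mul hhm, natDegree_X_sub_C, add_comm]
  set z1 := aeval x h v with hz1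
  have hxz : x z1 = a1 • z1 := by
    have := LinearMap.congr_fun (minpoly.aeval K x) v
    rw [← hm, hh, map_mul, Module.End.mul_apply, map_sub, aeval_X, aeval_C, Algebra.algebraMap_eq_smul_one,
      RegUnipProd.sub_smul_one_apply, LinearMap.zero_apply, sub_eq_zero] at this
    exact this
  have hz10 : z1 ≠ 0 := hquad h (by omega) hhm.ne_zero
  have hW1 : ∀ w ∈ Submodule.span K ({u1, z1} : Set V), x w ∈ Submodule.span K ({u1, z1} : Set V) := fun w hw => by
    obtain ⟨s, t, rfl⟩ := Submodule.mem_span_pair.1 hw
    rw [map_add, map_smul, map_smul, ← ha1, hxz, Submodule.mem_span_pair]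
    exact ⟨s * a1, t * a1, by module⟩
  have hsep : ∀ (s t : K) (f : K[X]), f.natDegree < m.natDegree → s • u1 + t • z1 = aeval x f v →
      s = 0 ∧ f = t • h := by
    intro s t f hf e
    have e1 : s • u1 = aeval x (f - t • h) v := by
      rw [map_sub, map_smul, LinearMap.sub_apply, LinearMap.smul_apply, ← hz1, ← e, add_sub_cancel_right]
    have e2 := Submodule.disjoint_def.1 hcompl.disjoint _ (hvZ _) (e1 ▸ Cs.smul_mem s hu1C)
    refine ⟨(smul_eq_zero.1 (e1.trans e2)).resolve_right hu10, ?_⟩
    by_contra hne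
    refine hquad (f - t • h) (lt_of_le_of_lt (natDegree_sub_le _ _) (max_lt hf ?_)) (sub_ne_zero.2 hne) e2
    exact lt_of_le_of_lt (natDegree_smul_le _ _) (by omega)
  have hW12 : finrank K (Submodule.span K ({u1, z1} : Set V)) = 2 := by
    have hli : LinearIndependent K ![u1, z1] := by
      rw [LinearIndependent.pair_iff]
      intro s t e
      obtain ⟨hs, h0⟩ := hsep s t 0 (by simp; omega) (by simpa using e)
      exact ⟨hs, (smul_eq_zero.1 h0.symm).resolve_right hhm.ne_zero⟩
    have := finrank_span_eq_card hli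
    rwa [Matrix.range_cons, Matrix.range_cons, Matrix.range_empty, Set.union_empty, Set.singleton_union,
      Fintype.card_fin] at this
  refine fin (step_two h4 hn5 hdx hp hW1 hW12 (not_pseudo_of_ann hW1 (v := v) fun b e hmem => ?_))
  rw [← hev] at hmem
  obtain ⟨s, t, hst⟩ := Submodule.mem_span_pair.1 hmem
  obtain ⟨-, hf⟩ := hsep s t _ (by rw [hdeg2]; omega) hst
  have h1 : ((X - C e) * (X - C b) : K[X]).natDegree = h.natDegree := by
    rw [hf, natDegree_smul h (show t ≠ 0 from fun e' => hne2 b e (by rw [hf, e', zero_smul]))]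
  rw [hdeg2] at h1
  omega

end CfsgLib.PSLCover
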