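import Cfsg.Agent.Lib.PSLCover.World

/-! Central targets through an invariant subspace. -/

set_option autoImplicit false
set_option linter.unusedSectionVars false

namespace CfsgLib.PSLCover

open Module LinearMap

universe u v w

variable {K : Type u} [Field K] {V : Type v} [AddCommGroup V] [Module K V] [FiniteDimensional K V]

theorem reach_eq_top_univ {W : Type v} [AddCommGroup W] [Module K W] [FiniteDimensional K W] {Q : Type w}
    [AddCommGroup Q] [Module K Q] [FiniteDimensional K Q] {A : Module.End K W} (hA : IsUnit A)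
    {L : List (Module.End K Q)} (hne : L ≠ []) (hd : Div Set.univ L) : Reach A L = ⊤ := by
  by_contra h
  obtain ⟨Lam, hLam, hker⟩ := RegUnipProd.sep_proper h
  obtain ⟨z, rfl⟩ := pair_surjective Lam
  have hz : z ≠ 0 := fun e => hLam (by rw [e, map_zero])
  have hint := intertwine hA L z hker
  set Z := z ∘ₗ (A ^ L.length) with hZ
  have hZ0 : Z ≠ 0 := fun e => hz (by
    obtain ⟨u, hu⟩ := hA.pow L.length
    refine LinearMap.ext fun w => ?_
    have := LinearMap.congr_fun e ((↑u⁻¹ : Module.End K W) w)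
    rwa [hZ, LinearMap.comp_apply, ← hu, ← Module.End.mul_apply, Units.mul_inv, Module.End.one_apply] at this)
  have happ : ∀ f ∈ L, ∀ w, f (Z w) = Z (A w) := fun f hf w => LinearMap.congr_fun (hint f hf) w
  exact hZ0 (LinearMap.range_eq_bot.1 (hd.2 (LinearMap.range Z)
    (fun f hf v hv => by obtain ⟨w, rfl⟩ := hv; exact ⟨A w, (happ f hf w).symm⟩)
    (fun f hf f' hf' v hv => by obtain ⟨w, rfl⟩ := hv; rw [happ f hf, happ f' hf'])
    fun a v _ hall => hd.1 a (Set.mem_univ a) v hall))

theorem step_univ {W : Type v} [AddCommGroup W] [Module K W] [FiniteDimensional K W] {Q : Type w}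
    [AddCommGroup Q] [Module K Q] [FiniteDimensional K Q] {A : Module.End K W} {r : Q →ₗ[K] W}
    {x' y' : Module.End K Q} {k : ℕ} (hk : 1 ≤ k) (hAu : IsUnit A)
    (hQ : Good ({1} : Set K) Set.univ x' y' k) {pre : List (Module.End K (W × Q))}
    (hpre : ∀ f ∈ pre, ConjIn ({1} : Set K) (blk A r x') f) {u : Q →ₗ[K] W} {g : Module.End K (W × Q)}
    (hg : g = pre.prod * blk (A ^ k) u y') : IsProd ({1} : Set K) (blk A r x') g (pre.length + k) := by
  obtain ⟨L', hlen, hconj, hprod, hdiv⟩ := hQ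
  have hne : L' ≠ [] := fun e => by rw [e] at hlen; simp at hlen; omega
  obtain ⟨u0, hlift⟩ := exists_lift_prod (x := blk A r x') A L' fun f hf =>
    conjIn_lift (A := A) (fun ρ hρ _ => ⟨LinearEquiv.refl K W, fun _ => rfl, by
      rw [Set.mem_singleton_iff] at hρ
      rw [hρ, mul_one]; simp⟩) (hconj f hf)
  obtain ⟨ys, hyl, hys, -, hyp⟩ := hlift (u - u0)
    (by rw [reach_eq_top_univ hAu hne hdiv]; exact Submodule.mem_top)
  refine ⟨pre ++ ys, by simp [hyl, hlen], fun f hf => ?_, ?_⟩
  · rcases List.mem_append.1 hf with h | h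
    · exact hpre f h
    · exact (hys f h).1
  · rw [List.prod_append, hyp, hg, hlen, hprod, add_sub_cancel]

theorem not_scalar_of_not_pseudo {x : Module.End K V} (hp : ¬ Pseudo x) (s : K) : x ≠ s • 1 := fun e =>
  hp ⟨s, by rw [e, sub_self, LinearMap.range_zero, finrank_bot]; exact Nat.zero_le _⟩

/-- More factors than the dimension. -/
theorem good_ext [Finite K] (h4 : ∃ k : Fin 4 → K, Function.Injective k) {n m : ℕ} (hn : finrank K V = n)
    (h3 : 3 ≤ n) (hm : n ≤ m) {x g : Module.End K V} (hdx : LinearMap.det x ≠ 0) (hp : ¬ Pseudo x)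
    (hg : (∀ s : K, g ≠ s • 1) ∨ n < m) (hdet : LinearMap.det g = LinearMap.det x ^ m) :
    Good ({1} : Set K) Set.univ x g m := by
  induction m, hm using Nat.le_induction generalizing g with
  | base => exact good_not_pseudo h4 hn h3 hdx hp (hg.resolve_right (lt_irrefl n)) hdet
  | succ m hm ih =>
    obtain ⟨y, h, hy, hgh, hd, hh⟩ := split_off (g := g) hdx (hdet ▸ pow_ne_zero _ hdx) (not_scalar_of_not_pseudo hp)
    obtain ⟨j, rfl⟩ : ∃ j, m = j + 1 := ⟨m - 1, by omega⟩
    rw [hdet, pow_succ'] at hd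
    exact good_cons hy (ih (Or.inl hh) (mul_left_cancel₀ hdx hd).symm) hgh

/-- Two vectors independent with their images. -/
theorem exists_P2 (hn : 4 ≤ finrank K V) {x : Module.End K V} (hp : ¬ Pseudo x) :
    ∃ p : Fin 2 → V, LinearIndependent K (Sum.elim p fun i => x (p i)) := by
  classical
  suffices ∃ p0 p1 : V, ∀ a b a' b' : K, a • p0 + b • p1 + (a' • x p0 + b' • x p1) = 0 →
      a = 0 ∧ b = 0 ∧ a' = 0 ∧ b' = 0 by
    obtain ⟨p0, p1, h⟩ := this
    refine ⟨![p0, p1], ?_⟩
    rw [Fintype.linearIndependent_iff]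
    intro g hg
    simp [Fintype.sum_sum_type, Fin.sum_univ_two] at hg
    obtain ⟨h0, h1, h2, h3⟩ := h _ _ _ _ hg
    rintro (i | i) <;> fin_cases i <;> assumption
  by_cases hc : ∃ c : K, finrank K (LinearMap.range (x - c • 1)) = 2
  · obtain ⟨c, hc⟩ := hc
    set N : Module.End K V := x - c • 1 with hN
    set K0 := LinearMap.ker N with hK0
    set R := LinearMap.range N with hR
    have hkd := LinearMap.finrank_range_add_finrank_ker N
    rw [← hR, ← hK0, hc] at hkd
    have proper : ∀ (S : Submodule K V), finrank K S < finrank K V → S ≠ ⊤ := fun S h e => by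
      rw [e, finrank_top] at h; exact lt_irrefl _ h
    obtain ⟨p0, hp0, hp0'⟩ := exists_off_two (proper K0 (by omega)) (proper R (by omega))
    have le1 : ∀ S : Submodule K V, finrank K (S ⊔ Submodule.span K {p0} : Submodule K V) ≤ finrank K S + 1 :=
      fun S => (Submodule.finrank_add_le_finrank_add_finrank _ _).trans
        (Nat.add_le_add_left (RegUnipProd.finrank_span_singleton_le p0) _)
    obtain ⟨p1, hp1, hp1'⟩ := exists_off_two (proper _ (lt_of_le_of_lt (le1 K0) (by omega)))
      (proper _ (lt_of_le_of_lt (le1 R) (by omega)))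
    have sep : ∀ S : Submodule K V, p0 ∉ S → p1 ∉ S ⊔ Submodule.span K {p0} → ∀ a b : K, a • p0 + b • p1 ∈ S →
        a = 0 ∧ b = 0 := by
      intro S h0 h1 a b hab
      have hb : b = 0 := by
        by_contra hb
        refine h1 (((S ⊔ Submodule.span K {p0}).smul_mem_iff hb).1 ?_)
        rw [show b • p1 = (a • p0 + b • p1) + (-a) • p0 by module]
        exact add_mem (Submodule.mem_sup_left hab)
          (Submodule.mem_sup_right (Submodule.smul_mem _ _ (Submodule.mem_span_singleton_self p0)))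
      rw [hb, zero_smul, add_zero] at hab
      exact ⟨by_contra fun ha => h0 ((S.smul_mem_iff ha).1 hab), hb⟩
    refine ⟨p0, p1, fun a b a' b' h => ?_⟩
    have hx : ∀ v, x v = N v + c • v := fun v => by rw [hN, RegUnipProd.sub_smul_one_apply, sub_add_cancel]
    rw [hx, hx] at h
    obtain ⟨h1, h2⟩ := sep R hp0' hp1' (a + a' * c) (b + b' * c) ⟨-(a' • p0 + b' • p1), by
      rw [map_neg, map_add, map_smul, map_smul]; linear_combination (norm := module) -h⟩
    obtain ⟨h3, h4⟩ := sep K0 hp0 hp1 a' b' (LinearMap.mem_ker.2 (by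
      rw [map_add, map_smul, map_smul]
      have ea : a = -(a' * c) := by linear_combination h1
      have eb : b = -(b' * c) := by linear_combination h2
      rw [ea, eb] at h
      linear_combination (norm := module) h))
    rw [h3, zero_mul, add_zero] at h1
    rw [h4, zero_mul, add_zero] at h2
    exact ⟨h1, h2, h3, h4⟩
  push Not at hc
  obtain ⟨p0, hp0⟩ := exists_not_eigen (not_scalar_of_not_pseudo hp)
  set S := Submodule.span K ({p0, x p0} : Set V) with hS
  have h00 : p0 ≠ 0 := fun e => hp0 (by rw [e, map_zero]; exact zero_mem _)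
  have hSd : finrank K S ≤ 2 := by
    have := finrank_span_finset_le_card (R := K) ({p0, x p0} : Finset V)
    rw [Finset.coe_insert, Finset.coe_singleton, Set.finrank] at this
    exact this.trans Finset.card_le_two
  suffices h : ∃ p1 : V, ∀ a b : K, a • p1 + b • x p1 ∈ S → a = 0 ∧ b = 0 by
    obtain ⟨p1, hp1⟩ := h
    refine ⟨p0, p1, fun a b a' b' hab => ?_⟩
    obtain ⟨h1, h2⟩ := hp1 b b' (by
      rw [show b • p1 + b' • x p1 = -(a • p0 + a' • x p0) by linear_combination (norm := module) hab]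
      exact S.neg_mem (S.add_mem (S.smul_mem _ (Submodule.subset_span (by simp))) (S.smul_mem _ (Submodule.subset_span (by simp)))))
    rw [h1, h2, zero_smul, zero_smul, add_zero, add_zero] at hab
    have h3 : a' = 0 := by
      by_contra h3
      refine hp0 (Submodule.mem_span_singleton.2 ⟨-(a'⁻¹ * a), ?_⟩)
      rw [neg_smul, mul_smul, eq_neg_of_add_eq_zero_left hab, smul_neg, neg_neg, smul_smul, inv_mul_cancel₀ h3, one_smul]
    rw [h3, zero_smul, add_zero] at hab
    exact ⟨(smul_eq_zero.1 hab).resolve_right h00, h1, h3, h2⟩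
  by_contra hbad
  push Not at hbad
  -- everything is an eigenvector modulo `S`
  have dep : ∀ v, ∃ a b : K, a • v + b • x v ∈ S ∧ ¬ (a = 0 ∧ b = 0) := fun v => by
    obtain ⟨a, b, h, h'⟩ := hbad v
    exact ⟨a, b, h, fun e => h' e.1 e.2⟩
  let α := S.mkQ
  have hQ : 2 ≤ finrank K (V ⧸ S) := by have := Submodule.finrank_quotient_add_finrank S; omega
  have dep' : ∀ v, α v ≠ 0 → α (x v) ∈ Submodule.span K {α v} := fun v hv => by
    obtain ⟨a, b, hab, hne⟩ := dep v
    have h0 : a • α v + b • α (x v) = 0 := by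
      rw [← map_smul, ← map_smul, ← map_add]
      exact (Submodule.Quotient.mk_eq_zero S).2 hab
    have hb : b ≠ 0 := fun e => by
      rw [e, zero_smul, add_zero, smul_eq_zero] at h0
      exact hne ⟨h0.resolve_right hv, e⟩
    refine Submodule.mem_span_singleton.2 ⟨-(b⁻¹ * a), ?_⟩
    rw [neg_smul, mul_smul, eq_neg_of_add_eq_zero_left h0, smul_neg, neg_neg, smul_smul, inv_mul_cancel₀ hb, one_smul]
  have hker : ∀ k, α k = 0 → α (x k) = 0 := fun k hk => by
    by_contra hne
    obtain ⟨q, hq⟩ : ∃ q, q ∉ Submodule.span K {α (x k)} := by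
      by_contra h; push Not at h
      have := finrank_span_singleton (K := K) hne
      rw [Submodule.eq_top_iff'.2 h, finrank_top] at this
      omega
    obtain ⟨v, rfl⟩ := S.mkQ_surjective q
    have hv : α v ≠ 0 := fun e => hq (by show α v ∈ _; rw [e]; exact zero_mem _)
    have h1 := dep' v hv
    have h2 := dep' (v + k) (by rwa [map_add, hk, add_zero])
    rw [map_add, hk, add_zero, map_add, map_add] at h2
    obtain ⟨c, hc'⟩ := Submodule.mem_span_singleton.1 ((Submodule.add_mem_iff_right _ h1).1 h2)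
    rcases eq_or_ne c 0 with rfl | hc0
    · exact hne (by rw [← hc', zero_smul])
    · exact hq (Submodule.mem_span_singleton.2 ⟨c⁻¹, by rw [← hc', smul_smul, inv_mul_cancel₀ hc0, one_smul]⟩)
  let y : Module.End K (V ⧸ S) := S.mapQ S x fun v hv =>
    (Submodule.Quotient.mk_eq_zero S).1 (hker v ((Submodule.Quotient.mk_eq_zero S).2 hv))
  obtain ⟨c, hc'⟩ := LinearMap.exists_eq_smul_id_of_forall_notLinearIndependent (f := y) (fun q hli => by
    obtain ⟨v, rfl⟩ := S.mkQ_surjective q
    rw [LinearIndependent.pair_iff] at hli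
    by_cases hv : α v = 0
    · exact one_ne_zero (hli 1 0 (by rw [show S.mkQ v = 0 from hv]; simp)).1
    obtain ⟨a, ha⟩ := Submodule.mem_span_singleton.1 (dep' v hv)
    have hy : y (S.mkQ v) = a • α v := by rw [ha]; rfl
    exact one_ne_zero (hli (-a) 1 (by rw [hy]; simp [α])).2)
  refine hc c (le_antisymm ((Submodule.finrank_mono ?_).trans hSd) (by
    by_contra h; exact hp ⟨c, by omega⟩))
  rintro _ ⟨v, rfl⟩
  rw [RegUnipProd.sub_smul_one_apply, ← Submodule.Quotient.mk_eq_zero S, Submodule.Quotient.mk_sub,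
    Submodule.Quotient.mk_smul]
  have := LinearMap.congr_fun hc' (S.mkQ v)
  rw [show y (S.mkQ v) = S.mkQ (x v) from rfl] at this
  simp only [Submodule.mkQ_apply, LinearMap.smul_apply, LinearMap.id_apply, Module.End.one_apply] at this
  rw [this, sub_self]

/-- The identity through an invariant subspace. -/
theorem scalar_step [Finite K] (h4 : ∃ k : Fin 4 → K, Function.Injective k) (hn5 : 5 ≤ finrank K V)
    {x : Module.End K V} (hdx : LinearMap.det x = 1) {W : Submodule K V} (hW : ∀ w ∈ W, x w ∈ W)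
    {d : ℕ} (hWd : finrank K W = d) (hd : 2 ≤ d) (hd2 : d + d < finrank K V)
    (hq : ¬ Pseudo (W.mapQ W x hW)) {p : Fin d → V} (hp : LinearIndependent K (Sum.elim p fun i => x (p i))) :
    IsProd ({1} : Set K) x 1 (finrank K V) := by
  classical
  set A := x.restrict hW with hAdef
  set x' := W.mapQ W x hW with hx'def
  obtain ⟨φ, hφ, hφ'⟩ := exists_split W
  obtain ⟨r, hr⟩ := conj_eq_blk φ hφ hφ' x hW
  have hdblk : LinearMap.det A * LinearMap.det x' = 1 := by
    rw [← hdx, ← LinearMap.det_conj x φ]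
    show _ = LinearMap.det (φ.conj x)
    rw [hr, det_blk]
  have hdA : LinearMap.det A ≠ 0 := left_ne_zero_of_mul_eq_one hdblk
  have hdx' : LinearMap.det x' ≠ 0 := right_ne_zero_of_mul_eq_one hdblk
  have hAu : IsUnit A := (LinearMap.isUnit_iff_isUnit_det A).2 (isUnit_iff_ne_zero.2 hdA)
  let bW := Module.finBasisOfFinrankEq K W hWd
  let w : Fin d → V := fun i => (bW i : V)
  have hw : LinearIndependent K w := bW.linearIndependent.map' W.subtype W.ker_subtype
  let i0 : Fin d := ⟨0, by omega⟩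
  obtain ⟨k, hk⟩ : ∃ k, finrank K V = k + 2 := ⟨finrank K V - 2, by omega⟩
  obtain ⟨Au, hAk⟩ := hAu.pow k
  let L : W →ₗ[K] V := W.subtype ∘ₗ (↑Au⁻¹ : Module.End K W)
  have hLA : ∀ a : W, L ((A ^ k) a) = (a : V) := fun a => by
    show (((↑Au⁻¹ : Module.End K W) ((A ^ k) a) : W) : V) = _
    rw [← hAk, ← Module.End.mul_apply, Units.inv_mul, Module.End.one_apply]
  have hLinj : LinearMap.ker L = ⊥ := (Submodule.eq_bot_iff _).2 fun a ha => by
    have h2 : (↑Au : Module.End K W) ((↑Au⁻¹ : Module.End K W) a) = a := by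
      rw [← Module.End.mul_apply, Units.mul_inv, Module.End.one_apply]
    rw [← h2, show (↑Au⁻¹ : Module.End K W) a = 0 from Subtype.ext (LinearMap.mem_ker.1 ha), map_zero]
  let z : Fin d → V := fun i => L (bW i)
  have hz : LinearIndependent K z := bW.linearIndependent.map' L hLinj
  obtain ⟨e1, e2, hd1, hd2', he1, he2, he12⟩ := exists_route (by omega) hd2.le hp hw hz (Or.inl hd2)
  let u : Fin d → V := fun i => e2 (p i)
  have hwu : LinearIndependent K (Sum.elim w u) := by
    have := hp.map' (e1 : V →ₗ[K] V) (LinearEquiv.ker e1)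
    rwa [show (e1 : V →ₗ[K] V) ∘ Sum.elim p (fun i => x (p i)) = Sum.elim w u by
      funext s; rcases s with i | i <;> simp [he1, u, he12]] at this
  set x1 := e2.conj x with hx1
  have hc1 : ConjIn ({1} : Set K) x x1 := ⟨e2, hd2', fun v => by simp [x1, LinearEquiv.conj_apply]⟩
  have hx1u : ∀ i, x1 (u i) = z i := fun i => by simp [x1, u, LinearEquiv.conj_apply, he2]
  set x2 := e1.conj x with hx2
  have hc2 : ConjIn ({1} : Set K) x x2 := ⟨e1, hd1, fun v => by simp [x2, LinearEquiv.conj_apply]⟩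
  have hx2w : ∀ i, x2 (w i) = u i := fun i => by simp [x2, LinearEquiv.conj_apply, ← he1, he12, u]
  obtain ⟨xi, hxi, hxi'⟩ := exists_inverse (f := x1) (by rw [hc1.det_eq, hdx]; exact one_ne_zero)
  have mk : ∀ y, ConjIn ({1} : Set K) x y → (∀ i, y (w i) = u i) →
      ∃ h : Module.End K V, 1 = x1 * y * h ∧ ∀ a : W, h (a : V) = ((A ^ k) a : V) := by
    intro y hy hyw
    obtain ⟨yi, hyi, hyi'⟩ := exists_inverse (f := y) (by rw [hy.det_eq, hdx]; exact one_ne_zero)
    refine ⟨yi * xi, LinearMap.ext fun v => by simp [hxi, hyi], fun a => ?_⟩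
    have hPL : ∀ b : W, x1 (y (b : V)) = L b := fun b => LinearMap.congr_fun
      (bW.ext (f₁ := x1 ∘ₗ y ∘ₗ W.subtype) (f₂ := L) fun i => by
        show x1 (y (w i)) = L (bW i)
        rw [hyw, hx1u]) b
    rw [Module.End.mul_apply, ← hLA a, ← hPL, hxi', hyi']
  have hsum := Submodule.finrank_quotient_add_finrank W
  suffices key : ∃ (y h : Module.End K V) (hh : ∀ a ∈ W, h a ∈ W), ConjIn ({1} : Set K) x y ∧ (∀ i, y (w i) = u i) ∧
      1 = x1 * y * h ∧ (∀ a : W, h (a : V) = ((A ^ k) a : V)) ∧ ((∀ s : K, W.mapQ W h hh ≠ s • 1) ∨ d ≥ 3) by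
    obtain ⟨y, h, hh, hcy, hy, hgh, hhA, hor⟩ := key
    obtain ⟨r', hr'⟩ := conj_eq_blk φ hφ hφ' h hh
    have hres : h.restrict hh = A ^ k := LinearMap.ext fun a => Subtype.ext (hhA a)
    rw [hres] at hr'
    have hdety : LinearMap.det (W.mapQ W h hh) = LinearMap.det x' ^ k := by
      have e0 : LinearMap.det h = LinearMap.det A ^ k * LinearMap.det (W.mapQ W h hh) := by
        rw [← LinearMap.det_conj h φ]
        show LinearMap.det (φ.conj h) = _
        rw [hr', det_blk, map_pow]
      have e3 := congrArg LinearMap.det hgh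
      rw [map_mul, map_mul, hc1.det_eq, hcy.det_eq, map_one, hdx, one_mul, one_mul, e0] at e3
      refine mul_left_cancel₀ (pow_ne_zero k hdA) ?_
      rw [← e3, ← mul_pow, hdblk, one_pow]
    have hQ := good_ext h4 (n := finrank K (V ⧸ W)) (m := k) rfl (by omega) (by omega) hdx' hq
      (hor.imp id fun h3' => by omega) hdety
    have hs := step_univ (A := A) (r := r) (by omega : 1 ≤ k) hAu hQ (pre := [φ.conj x1, φ.conj y])
      (fun f hf => by
        rw [← hr]
        rcases List.mem_cons.1 hf with rfl | hf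
        · exact hc1.transfer φ
        · rw [List.mem_singleton] at hf; exact hf ▸ hcy.transfer φ)
      (u := r') (g := φ.conj 1) (by
        rw [← hr', List.prod_cons, List.prod_singleton, hgh]
        exact (map_mul φ.conjRingEquiv (x1 * y) h).trans (congrArg (· * φ.conj h) (map_mul φ.conjRingEquiv x1 y)))
    rw [← hr, show [φ.conj x1, φ.conj y].length + k = finrank K V by simp [hk, Nat.add_comm]] at hs
    obtain ⟨M, hM1, hM2, hM3⟩ := hs
    have e : ∀ F : Module.End K V, φ.symm.conj (φ.conj F) = F := fun F => LinearMap.ext fun v => by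
      simp [LinearEquiv.conj_apply]
    refine ⟨M.map φ.symm.conj, by simp [hM1], fun f hf => ?_, ?_⟩
    · obtain ⟨f', hf', rfl⟩ := List.mem_map.1 hf
      have := (hM2 f' hf').transfer φ.symm
      rwa [e] at this
    · exact ((map_list_prod φ.symm.conjRingEquiv M).symm.trans (congrArg φ.symm.conj hM3)).trans (e 1)
  obtain ⟨h, hgh, hhA⟩ := mk x2 hc2 hx2w
  have memh : ∀ {h : Module.End K V}, (∀ a : W, h (a : V) = ((A ^ k) a : V)) → ∀ a ∈ W, h a ∈ W := fun hh a ha => by
    rw [show a = ((⟨a, ha⟩ : W) : V) from rfl, hh]; exact Submodule.coe_mem _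
  by_cases hgood : (∀ s : K, W.mapQ W h (memh hhA) ≠ s • 1) ∨ d ≥ 3
  · exact ⟨x2, h, memh hhA, hc2, hx2w, hgh, hhA, hgood⟩
  push Not at hgood
  obtain ⟨⟨ν, hν⟩, hd3⟩ := hgood
  -- the variant
  set S := Submodule.span K (Set.range (Sum.elim w u)) with hS
  have hSt : S ≠ ⊤ := fun e => by
    have := finrank_span_eq_card hwu
    rw [← hS, e, finrank_top] at this
    simp at this
    omega
  obtain ⟨y0, hy0⟩ : ∃ y0, y0 ∉ S := by by_contra h; push Not at h; exact hSt (Submodule.eq_top_iff'.2 h)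
  obtain ⟨ζ, hζy, hζ⟩ := RegUnipProd.sep hy0
  have hζw : ∀ i, ζ (w i) = 0 := fun i => hζ _ (Submodule.subset_span ⟨Sum.inl i, rfl⟩)
  have hζu : ∀ i, ζ (u i) = 0 := fun i => hζ _ (Submodule.subset_span ⟨Sum.inr i, rfl⟩)
  let N : V ≃ₗ[K] V := LinearEquiv.ofLinearMap (1 + ζ.smulRight (w i0)) (1 - ζ.smulRight (w i0))
    (LinearMap.ext fun v => by simp [hζw, sub_eq_add_neg]) (LinearMap.ext fun v => by simp [hζw, sub_eq_add_neg])
  have hNd : LinearMap.det (N : V →ₗ[K] V) = 1 := by
    show LinearMap.det (1 + ζ.smulRight (w i0)) = 1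
    exact RegUnipProd.det_one_add_sq_zero _ (LinearMap.ext fun v => by simp [hζw])
  have hcy : ConjIn ({1} : Set K) x (N.conj x2) :=
    hc2.trans ⟨N, hNd, fun v => by simp [LinearEquiv.conj_apply]⟩
  have hy : ∀ v, N.conj x2 v = x2 v - ζ v • u i0 + ζ (x2 v) • w i0 := fun v => by
    have : N.symm v = v - ζ v • w i0 := rfl
    rw [LinearEquiv.conj_apply_apply, this, map_sub, map_smul, hx2w]
    show (x2 v - ζ v • u i0) + ζ (x2 v - ζ v • u i0) • w i0 = _
    rw [map_sub, map_smul, hζu, smul_zero, sub_zero]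
  have hyw : ∀ i, N.conj x2 (w i) = u i := fun i => by rw [hy, hx2w, hζw, hζu]; simp
  obtain ⟨h', hgh', hhA'⟩ := mk _ hcy hyw
  refine ⟨_, h', memh hhA', hcy, hyw, hgh', hhA', Or.inl fun ν' hν' => ?_⟩
  set Z := Submodule.span K (Set.range z) with hZ
  set U := Submodule.span K (Set.range u) with hU
  have hUZ : ∀ v, x1 v ∈ Z → v ∈ U := fun v hv => by
    have e : Z = U.map x1 := by
      rw [hZ, hU, Submodule.map_span, ← Set.range_comp]
      congr 2
      funext i
      exact (hx1u i).symm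
    obtain ⟨t, ht, htv⟩ : x1 v ∈ U.map x1 := e ▸ hv
    rw [← hxi' v, ← htv, hxi']
    exact ht
  have mod : ∀ {y h : Module.End K V} (hh : ∀ a ∈ W, h a ∈ W) {ν : K}, (∀ i, y (w i) = u i) → 1 = x1 * y * h →
      W.mapQ W h hh = ν • 1 → ∀ v, v - ν • x1 (y v) ∈ Z := fun {y h} hh {ν} hyw hgh hν v => by
    have h0 := LinearMap.congr_fun hν (Submodule.Quotient.mk v)
    rw [Submodule.mapQ_apply, LinearMap.smul_apply, Module.End.one_apply, ← Submodule.Quotient.mk_smul,
      Submodule.Quotient.eq] at h0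
    rw [show v - ν • x1 (y v) = x1 (y (h v - ν • v)) by
      rw [map_sub, map_sub, map_smul, map_smul, show x1 (y (h v)) = v from (LinearMap.congr_fun hgh v).symm],
      show h v - ν • v = ((⟨_, h0⟩ : W) : V) from rfl, ← bW.sum_repr ⟨_, h0⟩, Submodule.coe_sum, map_sum, map_sum]
    refine sum_mem fun i _ => ?_
    rw [Submodule.coe_smul, map_smul, map_smul, show y (bW i : V) = u i from hyw i, hx1u]
    exact Submodule.smul_mem _ _ (Submodule.subset_span ⟨i, rfl⟩)
  obtain ⟨x2i, hx2i, -⟩ := exists_inverse (f := x2) (by rw [hc2.det_eq, hdx]; exact one_ne_zero)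
  have h1 := hUZ (ν' • N.conj x2 (x2i y0) - ν • x2 (x2i y0)) (by
    have := sub_mem (mod (memh hhA) hx2w hgh hν (x2i y0)) (mod (memh hhA') hyw hgh' hν' (x2i y0))
    convert this using 1
    rw [map_sub, map_smul, map_smul]; abel)
  rw [hy, hx2i, hζy, one_smul] at h1
  have h2 : (ν' - ν) • y0 + ν' • w i0 ∈ U := by
    have := add_mem h1 (U.smul_mem (ν' * ζ (x2i y0)) (Submodule.subset_span ⟨i0, rfl⟩))
    convert this using 1
    module
  have hζU : ∀ t ∈ U, ζ t = 0 := fun t ht => by
    have : U ≤ LinearMap.ker ζ := Submodule.span_le.2 (by rintro _ ⟨i, rfl⟩; exact hζu i)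
    exact this ht
  have h3 := hζU _ h2
  rw [map_add, map_smul, map_smul, hζy, hζw, smul_eq_mul, mul_one, smul_zero, add_zero, sub_eq_zero] at h3
  subst h3
  rw [sub_self, zero_smul, zero_add] at h2
  by_cases hν0 : ν' = 0
  · refine hy0 ?_
    have := mod (memh hhA') hyw hgh' hν' (x1 y0)
    rw [hν0, zero_smul, sub_zero] at this
    exact Submodule.span_mono (by rintro _ ⟨i, rfl⟩; exact ⟨Sum.inr i, rfl⟩) (hUZ _ this)
  · have hwU : w i0 ∈ U := (Submodule.smul_mem_iff _ hν0).1 h2
    exact hwu.notMem_span_image (s := Set.range Sum.inr) (x := Sum.inl i0) (by simp) (by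
      rw [← Set.range_comp]; exact hwU)

end CfsgLib.PSLCover
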