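import Cfsg.Agent.Lib.PSLCover.HQuad
import Cfsg.Agent.Lib.PSLCover.Complement
import Cfsg.Agent.Lib.PSLCover.ScalarStep
import Cfsg.Agent.Lib.PSLCover.ScalarQuad

/-! Central targets in dimension four. -/

set_option autoImplicit false
set_option linter.unusedSectionVars false

namespace CfsgLib.PSLCover

open Module LinearMap Polynomial
open CfsgLib.SLCommutator (Cyc)

universe u v

variable {K : Type u} [Field K] {V : Type v} [AddCommGroup V] [Module K V] [FiniteDimensional K V]

/-- A map of determinant one carrying `x` to a multiple of its inverse. -/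
theorem prod_flip {x E : Module.End K V} {δ : K} (hδ : δ * δ = 1) (hE : LinearMap.det E = 1)
    (hx : x * E * x = δ • E) : IsProd ({1} : Set K) x 1 4 := by
  obtain ⟨Eu, hEu⟩ := (LinearMap.isUnit_iff_isUnit_det E).2 (by rw [hE]; exact isUnit_one)
  let e : V ≃ₗ[K] V := LinearMap.GeneralLinearGroup.toLinearEquiv Eu
  have he : (e : V →ₗ[K] V) = E := LinearMap.ext fun q => by
    show (Eu : Module.End K V) q = _
    rw [hEu]
  have hxy : ∀ q, x (e.conj x q) = δ • q := fun q => by
    obtain ⟨p, rfl⟩ := e.surjective q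
    rw [LinearEquiv.conj_apply_apply, e.symm_apply_apply, ← LinearEquiv.coe_coe, he]
    exact LinearMap.congr_fun hx p
  refine ⟨[x, e.conj x, x, e.conj x], rfl, fun f hf => ?_, ?_⟩
  · have h0 : ConjIn ({1} : Set K) x x := ConjIn.refl (H := ({1} : Set K)) (Set.mem_singleton 1) x
    have h1 : ConjIn ({1} : Set K) x (e.conj x) :=
      ⟨e, by rw [Set.mem_singleton_iff, he, hE], fun v => by simp [LinearEquiv.conj_apply]⟩
    simp only [List.mem_cons, List.not_mem_nil, or_false] at hf
    rcases hf with rfl | rfl | rfl | rfl <;> assumption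
  · refine LinearMap.ext fun q => ?_
    simp only [List.prod_cons, List.prod_nil, mul_one, Module.End.mul_apply, hxy, map_smul, smul_smul, hδ, one_smul,
      Module.End.one_apply]

/-- A pair whose product is similar to its inverse. -/
theorem prod_pair {x y : Module.End K V} (hy : ConjIn (Set.univ : Set K) x y) (e : V ≃ₗ[K] V)
    (he : ∀ p, x (y (e (x (y p)))) = e p) (hF : FullDet x) : IsProd ({1} : Set K) x 1 4 := by
  refine IsProd.of_full (H := (Set.univ : Set K)) hF ⟨[x, y, e.conj x, e.conj y], rfl, fun f hf => ?_, ?_⟩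
  · have h0 : ConjIn (Set.univ : Set K) x x := ConjIn.refl (H := (Set.univ : Set K)) (Set.mem_univ 1) x
    have h1 : ∀ z, ConjIn (Set.univ : Set K) x z → ConjIn (Set.univ : Set K) x (e.conj z) := fun z hz =>
      hz.comp closed_univ ⟨e, trivial, fun v => by simp [LinearEquiv.conj_apply]⟩
    simp only [List.mem_cons, List.not_mem_nil, or_false] at hf
    rcases hf with rfl | rfl | rfl | rfl
    exacts [h0, hy, h1 _ h0, h1 _ hy]
  · refine LinearMap.ext fun q => ?_
    obtain ⟨p, rfl⟩ := e.surjective q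
    simp only [List.prod_cons, List.prod_nil, mul_one, Module.End.mul_apply, LinearEquiv.conj_apply_apply,
      LinearEquiv.symm_apply_apply, he, Module.End.one_apply]

/-- The orbit span is invariant. -/
theorem orbit_mem {x : Module.End K V} (v : V) (f : K[X]) :
    aeval x f v ∈ Submodule.span K (Set.range fun i : Fin (minpoly K x).natDegree => (x ^ (i : ℕ)) v) := by
  have hmm := minpoly.monic (Algebra.IsIntegral.isIntegral (R := K) x)
  have : aeval x f = aeval x (f %ₘ minpoly K x) := by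
    conv_lhs => rw [← modByMonic_add_div f (minpoly K x)]
    rw [map_add, map_mul, minpoly.aeval, zero_mul, add_zero]
  rw [this]
  rcases eq_or_ne (f %ₘ minpoly K x) 0 with e | e
  · rw [e, map_zero, LinearMap.zero_apply]; exact zero_mem _
  rw [aeval_eq_sum_range' (natDegree_lt_natDegree e (degree_modByMonic_lt f hmm)), LinearMap.sum_apply]
  refine sum_mem fun i hi => ?_
  rw [LinearMap.smul_apply]
  exact Submodule.smul_mem _ _ (Submodule.subset_span ⟨⟨i, Finset.mem_range.1 hi⟩, rfl⟩)

/-- A split cyclic product, inverse-closed. -/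
theorem inv_equiv {T : Module.End K V} {l : List K} (h : RegL T l) (hl : ∀ r ∈ l, r ≠ 0)
    (hp : l.Perm (l.map fun r => r⁻¹)) (hd : LinearMap.det T ≠ 0) :
    ∃ e : V ≃ₗ[K] V, ∀ p, T (e (T p)) = e p := by
  obtain ⟨T', h1, h2⟩ := exists_inverse (f := T) hd
  obtain ⟨e, -, he⟩ := h.isConj (h.inv h1 h2 hl) hp
  exact ⟨e, fun p => by rw [← he, h1]⟩

/-- Two blocks with the same quadratic. -/
theorem scalar_frame {x : Module.End K V} {τ δ : K} (hq : ∀ v, x (x v) = τ • x v - δ • v)
    (B : Basis (Fin 4) K V) (b01 : x (B 0) = B 1) (b23 : x (B 2) = B 3) (hdx : LinearMap.det x = 1) :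
    IsProd ({1} : Set K) x 1 4 := by
  have c1 : x (B 1) = τ • B 1 - δ • B 0 := by rw [← b01, hq]
  have c3 : x (B 3) = τ • B 3 - δ • B 2 := by rw [← b23, hq]
  have r : ∀ i : Fin 4, B.repr (B i) = Finsupp.single i 1 := fun i => B.repr_self i
  have hm : LinearMap.toMatrix B B x = !![0, -δ, 0, 0; 1, τ, 0, 0; 0, 0, 0, -δ; 0, 0, 1, τ] := by
    ext i j
    rw [LinearMap.toMatrix_apply]
    fin_cases j <;> simp [b01, b23, c1, c3, r] <;> fin_cases i <;> simp [Finsupp.single_apply]
  have hδ : δ * δ = 1 := by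
    rw [← hdx, ← LinearMap.det_toMatrix B, hm, Matrix.det_succ_row_zero]
    simp [Fin.sum_univ_succ, Matrix.det_fin_three, Fin.succAbove]
  let E : Module.End K V := B.constr K ![B 0, τ • B 0 - B 1, B 2, τ • B 2 - B 3]
  have E0 : E (B 0) = B 0 := B.constr_basis K _ 0
  have E1 : E (B 1) = τ • B 0 - B 1 := B.constr_basis K _ 1
  have E2 : E (B 2) = B 2 := B.constr_basis K _ 2
  have E3 : E (B 3) = τ • B 2 - B 3 := B.constr_basis K _ 3
  have hmE : LinearMap.toMatrix B B E = !![1, τ, 0, 0; 0, -1, 0, 0; 0, 0, 1, τ; 0, 0, 0, -1] := by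
    ext i j
    rw [LinearMap.toMatrix_apply]
    fin_cases j <;> simp [E0, E1, E2, E3, r] <;> fin_cases i <;> simp [Finsupp.single_apply]
  refine prod_flip (E := E) hδ ?_ (B.ext fun i => ?_)
  · rw [← LinearMap.det_toMatrix B, hmE, Matrix.det_succ_row_zero]
    simp [Fin.sum_univ_succ, Matrix.det_fin_three, Fin.succAbove]
  · fin_cases i <;>
      simp [Module.End.mul_apply, b01, b23, c1, c3, E0, E1, E2, E3, map_sub, map_smul] <;> module

/-- A cyclic vector. -/
theorem scalar_cyclic_four [Finite K] (h4 : ∃ k : Fin 4 → K, Function.Injective k) (hn : finrank K V = 4)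
    {x : Module.End K V} (hdx : LinearMap.det x = 1) {v : V} (hv : Cyc x v)
    (hli : LinearIndependent K fun i : Fin 4 => (x ^ (i : ℕ)) v) (hD : (minpoly K x).natDegree = 4) :
    IsProd ({1} : Set K) x 1 4 := by
  classical
  haveI : Nontrivial V := Module.nontrivial_of_finrank_pos (R := K) (by omega)
  by_cases hF : FullDet x
  · obtain ⟨η, hη0, hη⟩ := exists_ne_four h4 (1 : K)
    obtain ⟨y, g, hg, hr, -, -, -⟩ := cyclic_pair_eta h4 hv (j := 2) hn le_rfl (by rw [hdx, one_mul]) hη0
      (fun h => hη (by rw [h, one_mul])) hη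
    have hy : ConjIn (Set.univ : Set K) x y := ⟨g, trivial, hg⟩
    obtain ⟨e, he⟩ := inv_equiv hr (by simp [hη0]) (by simpa using List.Perm.swap η⁻¹ η [1, 1])
      (by rw [map_mul, hy.det_eq, hdx, one_mul]; exact one_ne_zero)
    exact prod_pair hy e (fun p => by simpa using he p) hF
  -- otherwise the square of a quadratic
  have hint := Algebra.IsIntegral.isIntegral (R := K) x
  obtain ⟨m, hm⟩ : ∃ m, m = minpoly K x := ⟨_, rfl⟩
  have hmm : m.Monic := hm ▸ minpoly.monic hint
  rw [← hm] at hD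
  have sq : ∀ (f h : K[X]), Irreducible f → f.Monic → m = f * h → f ∣ h := by
    intro f h hf hfm hfh
    by_contra hndvd
    have hhm : h.Monic := hfm.of_mul_monic_left (hfh ▸ hmm)
    refine hF (fullDet_of_simple_factor hf ((hf.coprime_iff_not_dvd).2 hndvd)
      (by rw [← hfh, hm, minpoly.aeval]) fun h0 => ?_)
    have h1 := natDegree_le_of_dvd (minpoly.dvd K x h0) hhm.ne_zero
    have h2 := hfm.natDegree_mul hhm
    rw [← hfh] at h2
    rw [← hm] at h1
    have := hf.natDegree_pos
    omega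
  obtain ⟨q, hqm, hqd, hmq⟩ : ∃ q : K[X], q.Monic ∧ q.natDegree = 2 ∧ m = q * q := by
    obtain ⟨f, hfm, hfi, hfd⟩ := exists_monic_irreducible_factor m (hm ▸ minpoly.not_isUnit K x)
    obtain ⟨h, hh⟩ := hfd
    obtain ⟨h', rfl⟩ := sq f h hfi hfm hh
    have hh'm : h'.Monic := hfm.of_mul_monic_left (hfm.of_mul_monic_left (hh ▸ hmm))
    have hdeg := hfm.natDegree_mul (hfm.mul hh'm)
    rw [← hh, hfm.natDegree_mul hh'm, hD] at hdeg
    have := hfi.natDegree_pos
    rcases (show f.natDegree = 2 ∧ h'.natDegree = 0 ∨ f.natDegree = 1 ∧ h'.natDegree = 2 by omega) with ⟨e, e'⟩ | ⟨e, e'⟩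
    · exact ⟨f, hfm, e, by rw [hh, eq_one_of_monic_natDegree_zero hh'm e', mul_one]⟩
    obtain ⟨f', hf'm, hf'i, hf'd⟩ := exists_monic_irreducible_factor h' fun hu => by
      rw [hh'm.isUnit_iff] at hu; rw [hu, natDegree_one] at e'; omega
    obtain ⟨k, hk⟩ := hf'd
    have hkm : k.Monic := hf'm.of_mul_monic_left (hk ▸ hh'm)
    have hd2 := hf'm.natDegree_mul hkm
    rw [← hk, e'] at hd2
    have := hf'i.natDegree_pos
    rcases (show k.natDegree = 0 ∨ f'.natDegree = 1 ∧ k.natDegree = 1 by omega) with e2 | ⟨e1, e2⟩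
    · exfalso
      rw [eq_one_of_monic_natDegree_zero hkm e2, mul_one] at hk
      subst hk
      rcases hf'i.prime.dvd_mul.1 (sq h' (f * f) hf'i hf'm (by rw [hh]; ring)) with hd | hd <;>
        · have := natDegree_le_of_dvd hd hfm.ne_zero; omega
    have lin : ∀ p : K[X], p.Monic → p.natDegree = 1 → ∃ r, p = X - C r := fun p hp hp1 =>
      ⟨-p.coeff 0, by rw [map_neg, sub_neg_eq_add]; exact hp.eq_X_add_C hp1⟩
    obtain ⟨a, rfl⟩ := lin f hfm e
    obtain ⟨r, rfl⟩ := lin f' hf'm e1
    obtain ⟨s, rfl⟩ := lin k hkm e2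
    have simple : ∀ r s : K, m = (X - C r) * ((X - C a) * (X - C a) * (X - C s)) → r ≠ a → r ≠ s → False := by
      intro r s h hra hrs
      obtain ⟨c, hc⟩ := sq _ _ (irreducible_X_sub_C r) (monic_X_sub_C r) h
      have := congrArg (eval r) hc
      simp [sub_eq_zero, hra, hrs] at this
    by_cases hrs : r = s
    · subst hrs
      exact ⟨(X - C a) * (X - C r), hfm.mul hf'm, by rw [hfm.natDegree_mul hf'm]; simp, by rw [hh, hk]; ring⟩
    by_cases hra : r = a
    · exact (simple s r (by rw [hh, hk]; ring) (fun h => hrs (hra.trans h.symm)) (Ne.symm hrs)).elim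
    · exact (simple r s (by rw [hh, hk]; ring) hra hrs).elim
  obtain ⟨τ, hτ⟩ : ∃ τ, τ = -q.coeff 1 := ⟨_, rfl⟩
  obtain ⟨δ, hδ⟩ : ∃ δ, δ = q.coeff 0 := ⟨_, rfl⟩
  have hqe : q = X ^ 2 - C τ * X + C δ := by
    rw [hτ, hδ, map_neg]
    conv_lhs => rw [hqm.as_sum, hqd]
    simp [Finset.sum_range_succ]
    ring
  have hcp : LinearMap.charpoly x = m := eq_of_monic_of_dvd_of_natDegree_le hmm (LinearMap.charpoly_monic x)
    (hm ▸ LinearMap.minpoly_dvd_charpoly x) (by rw [LinearMap.charpoly_natDegree, hn, hD])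
  have hδ2 : δ * δ = 1 := by
    have := LinearMap.det_eq_sign_charpoly_coeff x
    rw [hdx, hn, hcp, hmq, mul_coeff_zero, ← hδ] at this
    linear_combination -this
  have hrel := LinearMap.congr_fun (minpoly.aeval K x) v
  rw [← hm, hmq, hqe] at hrel
  simp [Algebra.algebraMap_eq_smul_one, pow_two, Module.End.mul_apply] at hrel
  let B := basisOfLinearIndependentOfCardEqFinrank hli (by simp [hn])
  have hB : ∀ i : Fin 4, B i = (x ^ (i : ℕ)) v := fun i => by simp [B]
  have hB0 : B 0 = v := by rw [hB]; simp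
  have b01 : x (B 0) = B 1 := by rw [hB, hB]; simp
  have b12 : x (B 1) = B 2 := by rw [hB, hB]; simp [pow_succ', Module.End.mul_apply]
  have b23 : x (B 2) = B 3 := by rw [hB, hB]; simp [pow_succ', Module.End.mul_apply]
  rw [← hB0, b01, b12] at hrel
  simp only [map_sub, map_add, map_smul, b01, b12, b23] at hrel
  have b34 : x (B 3) = (τ + τ) • B 3 - (τ * τ + δ + δ) • B 2 + ((τ + τ) * δ) • B 1 - (δ * δ) • B 0 := by
    linear_combination (norm := module) hrel
  let E : Module.End K V := B.constr K ![B 3, δ • B 2, (δ * δ) • B 1, (δ * δ * δ) • B 0]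
  have E0 : E (B 0) = B 3 := B.constr_basis K _ 0
  have E1 : E (B 1) = δ • B 2 := B.constr_basis K _ 1
  have E2 : E (B 2) = (δ * δ) • B 1 := B.constr_basis K _ 2
  have E3 : E (B 3) = (δ * δ * δ) • B 0 := B.constr_basis K _ 3
  have r : ∀ i : Fin 4, B.repr (B i) = Finsupp.single i 1 := fun i => B.repr_self i
  have hmE : LinearMap.toMatrix B B E = !![0, 0, 0, δ * δ * δ; 0, 0, δ * δ, 0; 0, δ, 0, 0; 1, 0, 0, 0] := by
    ext i j
    rw [LinearMap.toMatrix_apply]
    fin_cases j <;> simp [E0, E1, E2, E3, r] <;> fin_cases i <;> simp [Finsupp.single_apply]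
  refine prod_flip (E := E) hδ2 ?_ (B.ext fun i => ?_)
  · rw [← LinearMap.det_toMatrix B, hmE, Matrix.det_succ_row_zero]
    simp [Fin.sum_univ_succ, Matrix.det_fin_three, Fin.succAbove]
    linear_combination (δ * δ * δ * δ + δ * δ + 1) * hδ2
  · fin_cases i <;>
      simp [Module.End.mul_apply, b01, b12, b23, b34, E0, E1, E2, E3, map_sub, map_add, map_smul] <;> module

/-- A cyclic hyperplane beside a line. -/
theorem scalar_line_four (h4 : ∃ k : Fin 4 → K, Function.Injective k) (hn : finrank K V = 4) {x : Module.End K V}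
    (hdx : LinearMap.det x = 1) {Z C : Submodule K V} (hc : IsCompl Z C) (hZ : ∀ w ∈ Z, x w ∈ Z)
    (hZ3 : finrank K Z = 3) {u : V} (huC : u ∈ C) (hu0 : u ≠ 0) {a : K} (hu : x u = a • u)
    {vZ : Z} (hv : Cyc (x.restrict hZ) vZ) : IsProd ({1} : Set K) x 1 4 := by
  classical
  have hC1 : finrank K C = 1 := by
    have := Submodule.finrank_add_eq_of_isCompl hc
    omega
  have hCa : ∀ c ∈ C, x c = a • c := by
    intro c hcC
    obtain ⟨s, hs⟩ := (finrank_eq_one_iff_of_nonzero' (⟨u, huC⟩ : C) (fun e => hu0 (congrArg Subtype.val e))).1 hC1 ⟨c, hcC⟩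
    rw [show c = s • u from (congrArg Subtype.val hs).symm, map_smul, hu, smul_comm]
  let φ := Submodule.prodEquivOfIsCompl Z C hc
  have hφ : ∀ (z : Z) (c : C), φ (z, c) = (z : V) + c := fun z c => Submodule.coe_prodEquivOfIsCompl' Z C hc (z, c)
  have hur : u ∉ LinearMap.range (x - a • 1) := by
    rintro ⟨p, hp⟩
    obtain ⟨⟨z, c⟩, rfl⟩ := φ.surjective p
    rw [RegUnipProd.sub_smul_one_apply, hφ, map_add, hCa c c.2, smul_add, add_sub_add_right_eq_sub] at hp
    exact hu0 (Submodule.disjoint_def.1 hc.disjoint u (hp ▸ Z.sub_mem (hZ _ z.2) (Z.smul_mem a z.2)) huC)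
  have hF : FullDet x := fullDet_of_eigen hu hur
  set A := x.restrict hZ with hA
  have hxφ : ∀ (z : Z) (c : C), x (φ (z, c)) = φ (A z, a • c) := fun z c => by
    rw [hφ, hφ, map_add, hCa c c.2]
    rfl
  have hdA : a * LinearMap.det A = 1 := by
    have e : x = φ.conj (LinearMap.prodMap A (a • (1 : Module.End K C))) := LinearMap.ext fun p => by
      obtain ⟨⟨z, c⟩, rfl⟩ := φ.surjective p
      rw [hxφ, LinearEquiv.conj_apply_apply, φ.symm_apply_apply]
      rfl
    rw [e, LinearEquiv.conj_apply, LinearMap.comp_assoc, LinearMap.det_conj, LinearMap.det_prodMap, LinearMap.det_smul, hC1, map_one] at hdx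
    linear_combination hdx
  have hdA0 : LinearMap.det A ≠ 0 := right_ne_zero_of_mul_eq_one hdA
  have ha0 : a ≠ 0 := left_ne_zero_of_mul_eq_one hdA
  have mk : ∀ {Y : Module.End K Z}, ConjIn (Set.univ : Set K) A Y → ∃ y : Module.End K V,
      ConjIn (Set.univ : Set K) x y ∧ ∀ (z : Z) (c : C), x (y (φ (z, c))) = φ ((A * Y) z, (a * a) • c) := by
    rintro Y ⟨g, -, hg⟩
    let G := φ.symm ≪≫ₗ LinearEquiv.prodCongr g (LinearEquiv.refl K C) ≪≫ₗ φ
    have hG : ∀ (z : Z) (c : C), G (φ (z, c)) = φ (g z, c) := fun z c => by simp [G]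
    refine ⟨G.conj x, ⟨G, trivial, fun v => by simp [LinearEquiv.conj_apply]⟩, fun z c => ?_⟩
    obtain ⟨z, rfl⟩ := g.surjective z
    rw [← hG, LinearEquiv.conj_apply_apply, G.symm_apply_apply, hxφ, hG, hxφ, ← hg, smul_smul]
    rfl
  obtain ⟨η, hη0, hη⟩ := exists_ne_four h4 (1 : K)
  by_cases ha4 : a * a * (a * a) = 1
  · obtain ⟨s, hs⟩ : ∃ s, s = (a * a)⁻¹ := ⟨_, rfl⟩
    have hss : s * s = 1 := by rw [hs, ← mul_inv, ha4, inv_one]
    obtain ⟨Y, w, g, hg, -, hr, -, -, -⟩ := exists_ky hv hdA0 (m := 2) one_le_two hZ3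
      (fun i => if i = 0 then s else if i = 1 then η else η⁻¹)
      (by
        simp [Finset.prod_range_succ, hη0, hs]
        field_simp
        linear_combination -(a * LinearMap.det A + 1) * hdA)
      (fun i hi => by
        interval_cases i
        · simp only [if_true, show (2 : ℕ) ≠ 0 by omega, show (2 : ℕ) ≠ 1 by omega, if_false]
          intro h
          apply hη
          rw [h, ← mul_inv, inv_eq_one] at hss
          exact hss
        · simp only [if_true, show (1 : ℕ) ≠ 0 by omega, show (2 : ℕ) ≠ 0 by omega, show (2 : ℕ) ≠ 1 by omega, if_false]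
          intro h
          exact hη (by nth_rw 2 [h]; exact mul_inv_cancel₀ hη0))
      (fun i hi => by
        obtain rfl : i = 0 := by omega
        refine Or.inl fun j hj => ?_
        obtain rfl : j = 0 := by omega
        simp only [if_true, show (0 : ℕ) + 1 = 1 from rfl, show (1 : ℕ) ≠ 0 by omega, if_false]
        intro h
        exact hη (by rw [← h]; exact hss))
    simp [List.range_succ] at hr
    obtain ⟨eZ, heZ⟩ := inv_equiv hr (by simp [hη0, hs, ha0]) (by
        simp only [List.map_cons, List.map_nil, inv_inv, inv_eq_of_mul_eq_one_right hss]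
        exact (List.Perm.swap _ _ _).cons _) (by
        rw [map_mul, (show ConjIn (Set.univ : Set K) A Y from ⟨g, trivial, hg⟩).det_eq]
        exact mul_ne_zero hdA0 hdA0)
    obtain ⟨y, hy, hT⟩ := mk (Y := Y) ⟨g, trivial, hg⟩
    refine prod_pair hy (φ.symm ≪≫ₗ LinearEquiv.prodCongr eZ (LinearEquiv.refl K C) ≪≫ₗ φ) (fun p => ?_) hF
    obtain ⟨⟨z, c⟩, rfl⟩ := φ.surjective p
    simp only [hT, LinearEquiv.trans_apply, LinearEquiv.symm_apply_apply, LinearEquiv.prodCongr_apply,
      LinearEquiv.refl_apply, heZ, smul_smul, ha4, one_smul]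
  · obtain ⟨s, hs⟩ : ∃ s, s = (a * a)⁻¹ := ⟨_, rfl⟩
    have haa : a * a ≠ 1 := fun e => ha4 (by rw [e, one_mul])
    have hs1 : s ≠ 1 := fun e => haa (by rw [hs, inv_eq_one] at e; exact e)
    obtain ⟨Y, w, g, hg, -, hr, -, -, -⟩ := exists_ky hv hdA0 (m := 2) one_le_two hZ3
      (fun i => if i = 2 then s else 1)
      (by
        simp [Finset.prod_range_succ, hs]
        field_simp
        linear_combination -(a * LinearMap.det A + 1) * hdA)
      (fun i hi => by simp [show i ≠ 2 by omega, hs1.symm])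
      (fun i hi => Or.inr (by simp [show i ≠ 2 by omega, show i + 1 ≠ 2 by omega]))
    simp [List.range_succ] at hr
    obtain ⟨y, hy, hT⟩ := mk (Y := Y) ⟨g, trivial, hg⟩
    have hCreg : RegL ((a * a) • (1 : Module.End K C)) [a * a] := by
      refine ⟨by simp [hC1], by simp, fun r p q _ _ hq => ?_⟩
      obtain ⟨o, ho⟩ := (finrank_eq_one_iff_of_nonzero' q hq).1 hC1 p
      exact Submodule.mem_span_singleton.2 ⟨o, ho⟩
    have hfull : RegL (x * y) ([1, 1, s] ++ [a * a]) := by
      refine RegL.glue hr hCreg ((φ : (Z × C) →ₗ[K] V) ∘ₗ LinearMap.inl K Z C)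
        (LinearMap.snd K Z C ∘ₗ (φ.symm : V →ₗ[K] Z × C)) ?_ ?_ ?_ ?_ ?_ ?_
      · exact φ.injective.comp LinearMap.inl_injective
      · exact fun c => ⟨φ (0, c), by simp⟩
      · refine le_antisymm ?_ fun p hp => ?_
        · rintro _ ⟨z, rfl⟩; simp
        · obtain ⟨⟨z, c⟩, rfl⟩ := φ.surjective p
          simp at hp
          exact ⟨z, by simp [hp]⟩
      · intro z
        simpa using hT z 0
      · intro p
        obtain ⟨⟨z, c⟩, rfl⟩ := φ.surjective p
        simp [Module.End.mul_apply, hT]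
      · intro r p z hp hp0 hz
        obtain ⟨⟨z', c⟩, rfl⟩ := φ.surjective p
        rw [Module.End.mul_apply, hT, ← map_smul] at hp
        have hc' : (a * a) • c = r • c := congrArg Prod.snd (φ.injective hp)
        have hc0 : c ≠ 0 := fun e => hp0 (by simp [e])
        have hr' : r = a * a := by
          have h1 : (a * a - r) • c = 0 := by rw [sub_smul, hc', sub_self]
          exact (sub_eq_zero.1 ((smul_eq_zero.1 h1).resolve_right hc0)).symm
        by_contra hz0
        have hm := hr.eig_mem hz hz0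
        simp [hr', haa] at hm
        exact ha4 (by
          rw [hs] at hm
          nth_rw 2 [hm]
          exact mul_inv_cancel₀ (mul_ne_zero ha0 ha0))
    obtain ⟨e, he⟩ := inv_equiv hfull (by simp [hs, ha0]) (by
        simp only [List.cons_append, List.nil_append, List.map_cons, List.map_nil, inv_one, hs, inv_inv]
        exact ((List.Perm.swap _ _ []).cons _).cons _) (by
        rw [map_mul, hy.det_eq, hdx, one_mul]; exact one_ne_zero)
    exact prod_pair hy e (fun p => by simpa using he p) hF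

/-- Dimension four. -/
theorem scalar_four [Finite K] (h4 : ∃ k : Fin 4 → K, Function.Injective k) (hn : finrank K V = 4)
    {x : Module.End K V} (hdx : LinearMap.det x = 1) (hp : ¬ Pseudo x) : IsProd ({1} : Set K) x 1 4 := by
  classical
  haveI : Nontrivial V := Module.nontrivial_of_finrank_pos (R := K) (by omega)
  obtain ⟨v, C, hv, hC, hcompl, hdim⟩ := exists_complement x
  have hint := Algebra.IsIntegral.isIntegral (R := K) x
  obtain ⟨D, hD⟩ : ∃ D, D = (minpoly K x).natDegree := ⟨_, rfl⟩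
  have hli := orbit_independent hv
  have hpos := minpoly.natDegree_pos hint
  have hD1 : D ≠ 1 := fun h => by
    have e := minpoly.aeval K x
    rw [(minpoly.monic hint).eq_X_add_C (hD ▸ h), map_add, aeval_X, aeval_C, Algebra.algebraMap_eq_smul_one] at e
    refine not_scalar_of_not_pseudo hp (-(minpoly K x).coeff 0) ?_
    rw [neg_smul, eq_neg_iff_add_eq_zero, e]
  have cyc : ∀ (p : Submodule K V), (∀ w ∈ p, x w ∈ p) → v ∈ p → ∀ i : ℕ, (x ^ i) v ∈ p := fun p hp' hvp i => by
    induction i with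
    | zero => simpa using hvp
    | succ i ih => rw [pow_succ', Module.End.mul_apply]; exact hp' _ ih
  rw [hn, ← hD] at hdim
  rcases (show D = 2 ∨ D = 3 ∨ D = 4 by omega) with e | e | e
  · -- quadratic
    obtain ⟨τ, hτ⟩ : ∃ τ, τ = -(minpoly K x).coeff 1 := ⟨_, rfl⟩
    obtain ⟨δ, hδ⟩ : ∃ δ, δ = (minpoly K x).coeff 0 := ⟨_, rfl⟩
    have hq : ∀ w, x (x w) = τ • x w - δ • w := fun w => by
      have := LinearMap.congr_fun (minpoly.aeval K x) w
      rw [(minpoly.monic hint).as_sum, ← hD, e] at this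
      simp [Finset.sum_range_succ, Algebra.algebraMap_eq_smul_one, pow_two] at this
      rw [hτ, hδ]
      linear_combination (norm := module) this
    by_cases hno : ∀ (a : K) (w : V), x w = a • w → w = 0
    · obtain ⟨B, b01, b23, -⟩ := exists_frame4 hn hq hno
      exact scalar_frame hq B b01 b23 hdx
    push Not at hno
    obtain ⟨c, w, hw, hw0⟩ := hno
    have hc : c * c - τ * c + δ = 0 := by
      have := hq w
      rw [hw, map_smul, hw, smul_smul, smul_smul] at this
      have h2 : (c * c - τ * c + δ) • w = 0 := by linear_combination (norm := module) this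
      exact (smul_eq_zero.1 h2).resolve_right hw0
    obtain ⟨B, b01, b23⟩ := quad_frame hn (c := c) (d := τ - c) (LinearMap.ext fun p => by
      simp only [Module.End.mul_apply, RegUnipProd.sub_smul_one_apply, map_sub, map_smul, LinearMap.zero_apply, hq,
        show δ = τ * c - c * c by linear_combination hc]
      module) hp
    exact scalar_frame hq B b01 b23 hdx
  · -- a line and a cyclic hyperplane
    set Z := Submodule.span K (Set.range fun i : Fin (minpoly K x).natDegree => (x ^ (i : ℕ)) v) with hZdef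
    have hZ : ∀ w ∈ Z, x w ∈ Z := fun w hw => by
      induction hw using Submodule.span_induction with
      | mem p hp' =>
        obtain ⟨i, rfl⟩ := hp'
        have := orbit_mem (x := x) v (X ^ ((i : ℕ) + 1))
        rwa [map_pow, aeval_X, pow_succ', Module.End.mul_apply] at this
      | zero => simp
      | add p q _ _ hp' hq => rw [map_add]; exact add_mem hp' hq
      | smul r p _ hp' => rw [map_smul]; exact Z.smul_mem r hp'
    have hZ3 : finrank K Z = 3 := by rw [hZdef, finrank_span_eq_card hli, Fintype.card_fin, ← hD, e]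
    have hvZ : v ∈ Z := Submodule.subset_span ⟨⟨0, hpos⟩, by simp⟩
    obtain ⟨u, huC, hu0⟩ := Submodule.exists_mem_ne_zero_of_ne_bot
      (show C ≠ ⊥ from fun h => by rw [h, finrank_bot] at hdim; omega)
    obtain ⟨a, ha⟩ := (finrank_eq_one_iff_of_nonzero' (⟨u, huC⟩ : C) (fun h => hu0 (congrArg Subtype.val h))).1
      (show finrank K C = 1 by omega) ⟨x u, hC u huC⟩
    refine scalar_line_four h4 hn hdx hcompl hZ hZ3 huC hu0 (congrArg Subtype.val ha).symm (vZ := ⟨v, hvZ⟩)
      fun p hp' hvp => ?_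
    have key : Z ≤ p.map Z.subtype := by
      refine Submodule.span_le.2 ?_
      rintro _ ⟨i, rfl⟩
      exact cyc (p.map Z.subtype) (by rintro _ ⟨q, hq, rfl⟩; exact ⟨_, hp' q hq, rfl⟩) ⟨_, hvp, rfl⟩ i
    rw [Submodule.eq_top_iff']
    intro q
    obtain ⟨q', hq', hqq⟩ := key q.2
    exact (Subtype.ext hqq : q' = q) ▸ hq'
  · -- cyclic
    have hCb : C = ⊥ := Submodule.finrank_eq_zero.1 (by omega)
    have htop := hcompl.sup_eq_top
    rw [hCb, sup_bot_eq] at htop
    have e' : (minpoly K x).natDegree = 4 := hD ▸ e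
    refine scalar_cyclic_four h4 hn hdx (v := v) (fun p hp' hvp => ?_) ?_ e'
    · rw [eq_top_iff, ← htop, Submodule.span_le]
      rintro _ ⟨i, rfl⟩
      exact cyc p hp' hvp i
    · exact hli.comp (Fin.cast e'.symm) (Fin.cast_injective _)

end CfsgLib.PSLCover
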