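import Cfsg.Agent.Lib.PSLCover.HQuad
import Cfsg.Agent.Lib.PSLCover.HThree

/-! Non-scalar targets for non-pseudo maps. -/

set_option autoImplicit false
set_option linter.unusedSectionVars false

namespace CfsgLib.PSLCover

open Module LinearMap

universe u v

variable {K : Type u} [Field K] {V : Type v} [AddCommGroup V] [Module K V] [FiniteDimensional K V]

theorem good_not_pseudo [Finite K] (h4 : ∃ k : Fin 4 → K, Function.Injective k) {n : ℕ} (hn : finrank K V = n)
    (h3 : 3 ≤ n) {x g : Module.End K V} (hdx : LinearMap.det x ≠ 0) (hp : ¬ Pseudo x) (hg : ∀ s : K, g ≠ s • 1)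
    (hdet : LinearMap.det g = LinearMap.det x ^ n) : Good ({1} : Set K) Set.univ x g n :=
  eigen_induction (fun x g h3 hdx hno hg hdet => good_no_eigen h4 _ x g _ rfl h3 le_rfl hdx hno (Or.inl hg) hdet)
    (fun x g hn hdx hp hg hdet => by rw [hn] at hdet ⊢; exact good_three h4 hn hdx hp hg hdet)
    (fun x g hq hdx hp hg hdet => good_quad h4 hq hdx hp hg hdet) n x g hn h3 hdx hp hg hdet

end CfsgLib.PSLCover
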