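import Cfsg.Agent.Lib.PSLCover.ScalarThree
import Cfsg.Agent.Lib.PSLCover.ScalarFour
import Cfsg.Agent.Lib.PSLCover.ScalarBig
import Cfsg.Agent.Lib.PSLCover.World
import Cfsg.Agent.Lib.PSLCover.PseudoTop

/-! Every element, up to a central factor, is a product of `n` conjugates. -/

set_option autoImplicit false
set_option linter.unusedSectionVars false

namespace CfsgLib.PSLCover

open Module LinearMap

universe u v

variable {K : Type u} [Field K] {V : Type v} [AddCommGroup V] [Module K V] [FiniteDimensional K V]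

theorem prod_all [Finite K] (h4 : ∃ k : Fin 4 → K, Function.Injective k) {n : ℕ} (hn : finrank K V = n) (h3 : 3 ≤ n)
    {x g : Module.End K V} (hdx : LinearMap.det x = 1) (hxs : ∀ s : K, x ≠ s • 1) (hdg : LinearMap.det g = 1) :
    ∃ lam : K, lam ^ n = 1 ∧ IsProd ({1} : Set K) x (lam • g) n := by
  by_cases hp : Pseudo x
  · exact prod_pseudo h4 hn h3 hdx hp hxs hdg
  by_cases hg : ∃ s : K, g = s • 1
  · obtain ⟨μ, rfl⟩ := hg
    have hμ : μ ^ n = 1 := by rwa [LinearMap.det_smul, map_one, mul_one, hn] at hdg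
    have hμ0 : μ ≠ 0 := fun e => by rw [e, zero_pow (by omega)] at hμ; exact zero_ne_one hμ
    obtain ⟨lam, hlam, h⟩ : ∃ lam : K, lam ^ n = 1 ∧ IsProd ({1} : Set K) x (lam • 1) n := by
      rcases (show n = 3 ∨ n = 4 ∨ 5 ≤ n by omega) with rfl | rfl | h5
      · exact scalar_three h4 hn hdx hp
      · exact ⟨1, one_pow 4, by rw [one_smul]; exact scalar_four h4 hn hdx hp⟩
      · have := scalar_big h4 (hn.symm ▸ h5) hdx hp
        rwa [hn] at this
    refine ⟨lam * μ⁻¹, by rw [mul_pow, inv_pow, hlam, hμ, inv_one, mul_one], ?_⟩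
    rwa [smul_smul, mul_assoc, inv_mul_cancel₀ hμ0, mul_one]
  · push Not at hg
    refine ⟨1, one_pow n, ?_⟩
    rw [one_smul]
    exact (good_not_pseudo h4 hn h3 (hdx ▸ one_ne_zero) hp hg (by rw [hdg, hdx, one_pow])).isProd

end CfsgLib.PSLCover
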