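import Cfsg.Agent.Lib.PSLCover.Reach

/-! The parabolic induction step. -/

set_option autoImplicit false
set_option linter.unusedSectionVars false

namespace CfsgLib.PSLCover

open Module LinearMap

universe u v w

variable {K : Type u} [Field K] {W : Type v} [AddCommGroup W] [Module K W] {Q : Type w} [AddCommGroup Q] [Module K Q]
  [FiniteDimensional K W] [FiniteDimensional K Q]

theorem conjIn_lift {A : Module.End K W} {r : Q →ₗ[K] W} {x' f : Module.End K Q} {H : Set K}
    (hH : ∀ ρ ∈ H, ρ ≠ 0 → ∃ c : W ≃ₗ[K] W, (∀ w, A (c w) = c (A w)) ∧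
      LinearMap.det (c : W →ₗ[K] W) * ρ = 1)
    (hf : ConjIn H x' f) : ∃ r', ConjIn ({1} : Set K) (blk A r x') (blk A r' f) := by
  obtain ⟨e, he, hf⟩ := hf
  obtain ⟨c, hc, hcd⟩ := hH _ he (LinearEquiv.isUnit_det' e).ne_zero
  refine ⟨(c : W →ₗ[K] W) ∘ₗ r ∘ₗ (e.symm : Q →ₗ[K] Q), LinearEquiv.prodCongr c e, ?_, fun p => ?_⟩
  · rw [Set.mem_singleton_iff, LinearEquiv.coe_prodCongr, LinearMap.det_prodMap, hcd]
  · simp [Prod.ext_iff, hc, hf]

/-- From the quotient to the whole space. -/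
theorem step {A : Module.End K W} {r : Q →ₗ[K] W} {x' y' : Module.End K Q} {k : ℕ} (hk : 1 ≤ k)
    (hAu : IsUnit A) {H Λ Λ' : Set K} (hΛ : Λ ⊆ Λ')
    (hH : ∀ ρ ∈ H, ρ ≠ 0 → ∃ c : W ≃ₗ[K] W, (∀ w, A (c w) = c (A w)) ∧
      LinearMap.det (c : W →ₗ[K] W) * ρ = 1)
    (hirr : Irr A) (hval : (∃ a ∈ Λ', ∀ w, A w = a • w) ∨ ∀ (a : K) (w : W), A w = a • w → w = 0)
    (hQ : Good H Λ' x' y' k) {pre : List (Module.End K (W × Q))}
    (hpre : ∀ f ∈ pre, ConjIn ({1} : Set K) (blk A r x') f)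
    (hmove : ∃ f ∈ pre, ∀ w : W, (f (w, 0)).2 = 0 → w = 0) {u : Q →ₗ[K] W} {g : Module.End K (W × Q)}
    (hg : g = pre.prod * blk (A ^ k) u y') : Good ({1} : Set K) Λ (blk A r x') g (pre.length + k) := by
  obtain ⟨L', hlen, hconj, hprod, hdiv⟩ := hQ
  have hne : L' ≠ [] := fun e => by rw [e] at hlen; simp at hlen; omega
  obtain ⟨u0, hlift⟩ := exists_lift_prod (x := blk A r x') A L' fun f hf => conjIn_lift hH (hconj f hf)
  obtain ⟨ys, hyl, hys, hcov, hyp⟩ := hlift (u - u0)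
    (by rw [reach_eq_top hAu hirr hval hne hdiv]; exact Submodule.mem_top)
  obtain ⟨f0, hf0, hmv⟩ := hmove
  obtain ⟨g0, hg0⟩ : ∃ g0, g0 ∈ L' := ⟨L'.head hne, List.head_mem hne⟩
  refine ⟨pre ++ ys, by simp [hyl, hlen], fun f hf => ?_, ?_, ?_, ?_⟩
  · rcases List.mem_append.1 hf with h | h
    · exact hpre f h
    · exact (hys f h).1
  · rw [List.prod_append, hyp, hg, hlen, hprod, add_sub_cancel]
  · intro a ha p hall
    have hq : p.2 = 0 := hdiv.1 a (hΛ ha) p.2 fun f hf => by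
      obtain ⟨r', hr'⟩ := hcov f hf
      simpa using congrArg Prod.snd (hall _ (List.mem_append_right _ hr'))
    have hp : p = (p.1, 0) := Prod.ext rfl hq
    rw [hp] at hall ⊢
    have := congrArg Prod.snd (hall f0 (List.mem_append_left _ hf0))
    simp only [Prod.smul_mk, smul_zero] at this
    rw [hmv p.1 this]; rfl
  · intro S hi he hn
    obtain ⟨r0, hr0⟩ := hcov g0 hg0
    have key : ∀ p ∈ S, p.2 = 0 → p = 0 := fun p hp hp2 => by
      have hpe : p = (p.1, 0) := Prod.ext rfl hp2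
      have h1 : (f0 p).2 = (blk A r0 g0 p).2 :=
        congrArg Prod.snd (he f0 (List.mem_append_left _ hf0) _ (List.mem_append_right _ hr0) p hp)
      simp only [blk_apply, hp2, map_zero] at h1
      rw [hpe] at h1
      have := hmv p.1 h1
      rw [hpe, this]; rfl
    have hS' := hdiv.2 (S.map (LinearMap.snd K W Q)) ?_ ?_ ?_
    · refine (Submodule.eq_bot_iff S).2 fun p hp => key p hp ?_
      have : p.2 ∈ S.map (LinearMap.snd K W Q) := ⟨p, hp, rfl⟩
      rw [hS', Submodule.mem_bot] at this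
      exact this
    · rintro f hf _ ⟨p, hp, rfl⟩
      obtain ⟨r', hr'⟩ := hcov f hf
      exact ⟨_, hi _ (List.mem_append_right _ hr') p hp, rfl⟩
    · rintro f hf f' hf' _ ⟨p, hp, rfl⟩
      obtain ⟨r', hr'⟩ := hcov f hf
      obtain ⟨r'', hr''⟩ := hcov f' hf'
      exact congrArg Prod.snd (he _ (List.mem_append_right _ hr') _ (List.mem_append_right _ hr'') p hp)
    · rintro a _ ⟨p, hp, rfl⟩ hall
      have hmem := S.sub_mem (hi _ (List.mem_append_right _ hr0) p hp) (S.smul_mem a hp)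
      have h0 : blk A r0 g0 p - a • p = 0 := key _ hmem (by
        have := hall g0 hg0
        simp only [LinearMap.snd_apply] at this
        simp [this])
      rw [sub_eq_zero] at h0
      rw [hn a p hp fun f hf => (he f hf _ (List.mem_append_right _ hr0) p hp).trans h0, map_zero]

end CfsgLib.PSLCover
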