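import Cfsg.Agent.Lib.PSLCover.Three

/-! Every non-scalar target in dimension three, for a cyclic class. -/

set_option autoImplicit false
set_option linter.unusedSectionVars false

namespace CfsgLib.PSLCover

open Module LinearMap

universe u v

variable {K : Type u} [Field K] {V : Type v} [AddCommGroup V] [Module K V] [FiniteDimensional K V]

theorem isConj_univ {x y : Module.End K V} {e : V ≃ₗ[K] V} (h : ∀ p, y (e p) = e (x p)) :
    ConjIn (Set.univ : Set K) x y := ⟨e, trivial, h⟩

theorem exists_ne_two (h4 : ∃ k : Fin 4 → K, Function.Injective k) (a b : K) : ∃ v, v ≠ a ∧ v ≠ b := by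
  classical
  obtain ⟨v, hv⟩ := RegUnipProd.exists_notMem h4 {a, b} (le_trans Finset.card_le_two (by norm_num))
  simp only [Finset.mem_insert, Finset.mem_singleton, not_or] at hv
  exact ⟨v, hv⟩

/-- The product of a companion and a conjugate of a cyclic map, regular with two prescribed equal roots. -/
theorem ky_three (h4 : ∃ k : Fin 4 → K, Function.Injective k) (hn : finrank K V = 3) {G A : Module.End K V}
    {u w : V} {t s d t' s' d' : K} (hG : Chain G u t s d) (hA : Chain A w t' s' d') (hd : d ≠ 0) (hd' : d' ≠ 0)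
    {c : K} (hc : c ≠ 0) :
    ∃ (X : Module.End K V) (p : V), ConjIn (Set.univ : Set K) A X ∧
      Chain (G * X) p (2 * c + d * d' / (c * c)) (c * c + 2 * c * (d * d' / (c * c))) (c * c * (d * d' / (c * c))) ∧
      ∀ (a : K) (v : V), G v = a • v → X v = a • v → v = 0 := by
  obtain ⟨B, -, -, -, g0, g1, g2⟩ := hG.basis hn
  set e := d * d' / (c * c) with he
  have he0 : e ≠ 0 := div_ne_zero (mul_ne_zero hd hd') (mul_ne_zero hc hc)
  set γ := c / d with hγ
  have hγ0 : γ ≠ 0 := div_ne_zero hc hd
  have hγd : γ * d = c := div_mul_cancel₀ c hd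
  -- the free entry
  set L0 := γ * t - s' / e with hL0
  obtain ⟨v, hv0, hvL⟩ := exists_ne_two h4 0 (L0 * e / γ)
  set β := -(s' + v * γ) / e with hβ
  set L := β + γ * t with hL
  have hLne : L ≠ 0 := fun h => hvL (by
    rw [hL, hβ, hL0] at *
    field_simp at h ⊢
    linear_combination -h)
  set M := t' - γ * s with hM
  let X : Module.End K V := B.constr K ![t' • B 0 + β • B 1 + γ • B 2, e • B 0, v • B 0 + c • B 1]
  have X0 : X (B 0) = t' • B 0 + β • B 1 + γ • B 2 := by simp [X]
  have X1 : X (B 1) = e • B 0 := by simp [X]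
  have X2 : X (B 2) = v • B 0 + c • B 1 := by simp [X]
  have hd'' : d' = e * γ * c := by rw [he, hγ]; field_simp
  have hs' : s' = -(e * β + v * γ) := by rw [hβ]; field_simp; ring
  have hXc : Chain X (B 1) t' s' d' := by
    constructor
    · refine li_three fun p q r h => ?_
      rw [X1, map_smul, X0] at h
      have := congrArg B.repr h
      simp only [map_add, map_smul, Basis.repr_self, map_zero] at this
      have c0 := DFunLike.congr_fun this 0
      have c1 := DFunLike.congr_fun this 1
      have c2 := DFunLike.congr_fun this 2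
      simp at c0 c1 c2
      have hr : r = 0 := by
        rcases c2 with h | h | h
        exacts [h, absurd h he0, absurd h hγ0]
      subst hr
      simp [he0] at c0 c1
      exact ⟨c1, c0, rfl⟩
    · rw [X1, map_smul, X0, map_smul, map_add, map_add, map_smul, map_smul, map_smul, X0, X1, X2, hd'', hs']
      module
  obtain ⟨eq', heq'⟩ := hA.conj hXc hn
  have H0 : (G * X) (B 0) = c • B 0 + M • B 1 + L • B 2 := by
    rw [Module.End.mul_apply, X0, map_add, map_add, map_smul, map_smul, map_smul, g0, g1, g2, hM, hL, ← hγd]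
    module
  have H1 : (G * X) (B 1) = e • B 1 := by rw [Module.End.mul_apply, X1, map_smul, g0]
  have H2 : (G * X) (B 2) = v • B 1 + c • B 2 := by
    rw [Module.End.mul_apply, X2, map_add, map_smul, map_smul, g0, g1]
  -- the chain vector
  obtain ⟨k, hJ⟩ : ∃ k : K, (M + k * (e - c)) * (e - c) + L * v ≠ 0 := by
    by_cases hec : e = c
    · exact ⟨0, by rw [hec]; simp [hLne, hv0]⟩
    · refine ⟨((1 - L * v) / (e - c) - M) / (e - c), ?_⟩
      have := sub_ne_zero.2 hec
      field_simp
      ring_nf
      simp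
  set J := (M + k * (e - c)) * (e - c) + L * v with hJdef
  set p := B 0 + k • B 1 with hp
  have q1 : (G * X) p = c • p + (M + k * (e - c)) • B 1 + L • B 2 := by
    rw [hp, map_add, map_smul, H0, H1]; module
  have q2 : (G * X) ((G * X) p) = c • (G * X) p + (J + c * (M + k * (e - c))) • B 1 + (c * L) • B 2 := by
    conv_lhs => rw [q1]
    rw [map_add, map_add, map_smul, map_smul, map_smul, H1, H2, hJdef]; module
  have q3 : (G * X) ((G * X) ((G * X) p)) = c • (G * X) ((G * X) p) +
      ((J + c * (M + k * (e - c))) * e + c * L * v) • B 1 + (c * c * L) • B 2 := by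
    conv_lhs => rw [q2]
    rw [map_add, map_add, map_smul, map_smul, map_smul, H1, H2]; module
  refine ⟨X, p, isConj_univ heq', ⟨li_three fun a b r h => ?_, ?_⟩, fun a v' hGv hXv => ?_⟩
  · rw [q2, q1, hp] at h
    have := congrArg B.repr h
    simp only [map_add, map_smul, Basis.repr_self, map_zero] at this
    have c0 := DFunLike.congr_fun this 0
    have c1 := DFunLike.congr_fun this 1
    have c2 := DFunLike.congr_fun this 2
    simp at c0 c1 c2
    have hb : b + 2 * c * r = 0 := by
      have : L * (b + 2 * c * r) = 0 := by linear_combination c2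
      exact (mul_eq_zero.1 this).resolve_left hLne
    have hr : J * r = 0 := by linear_combination c1 - k * c0 - (M + k * (e - c)) * hb
    have hr0 := (mul_eq_zero.1 hr).resolve_left hJ
    subst hr0
    have hb0 : b = 0 := by linear_combination hb
    subst hb0
    exact ⟨by linear_combination c0, rfl, rfl⟩
  · rw [q3, q2, q1, hp, hJdef]; module
  · -- a common eigenvector
    have hH : (G * X) v' = (a * a) • v' := by rw [Module.End.mul_apply, hXv, map_smul, hGv, smul_smul]
    obtain ⟨y0, y1, y2, rfl⟩ : ∃ y0 y1 y2 : K, v' = y0 • B 0 + y1 • B 1 + y2 • B 2 := by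
      refine ⟨B.repr v' 0, B.repr v' 1, B.repr v' 2, ?_⟩
      conv_lhs => rw [← B.sum_repr v', Fin.sum_univ_three]
    rw [map_add, map_add, map_smul, map_smul, map_smul, H0, H1, H2] at hH
    rw [map_add, map_add, map_smul, map_smul, map_smul, g0, g1, g2] at hGv
    rw [map_add, map_add, map_smul, map_smul, map_smul, X0, X1, X2] at hXv
    have hH' := congrArg B.repr hH
    have hG' := congrArg B.repr hGv
    have hX' := congrArg B.repr hXv
    simp only [map_add, map_sub, map_smul, Basis.repr_self] at hH' hG' hX'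
    have a0 := DFunLike.congr_fun hH' 0
    have a2 := DFunLike.congr_fun hH' 2
    have b0 := DFunLike.congr_fun hG' 0
    have b1 := DFunLike.congr_fun hG' 1
    have b2 := DFunLike.congr_fun hG' 2
    have d2 := DFunLike.congr_fun hX' 2
    simp at a0 a2 b0 b1 b2 d2
    by_cases ha : a = 0
    · subst ha
      have h2 : y2 = 0 := by simpa [hd] using b0
      subst h2
      have h1 : y1 = 0 := by linear_combination b2
      have h0 : y0 = 0 := by linear_combination b1
      simp [h0, h1]
    have hy0 : y0 = 0 := by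
      have h3 : (c - a * a) * y0 = 0 := by linear_combination a0
      rcases mul_eq_zero.1 h3 with h | h
      · have hc' : c = a * a := sub_eq_zero.1 h
        have h4 : L * y0 = 0 := by linear_combination a2 - y2 * hc'
        exact (mul_eq_zero.1 h4).resolve_left hLne
      · exact h
    subst hy0
    have hy2 : y2 = 0 := by
      have : a * y2 = 0 := by linear_combination -d2
      exact (mul_eq_zero.1 this).resolve_left ha
    subst hy2
    have hy1 : y1 = 0 := by linear_combination b2
    simp [hy1]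

/-- The rank one update. -/
theorem rank_one_three (hn : finrank K V = 3) {g A : Module.End K V} {b : K} (hb : b ≠ 0) {z : V} (hz : z ≠ 0)
    {φ : V →ₗ[K] K} (hφ : φ ≠ 0) (hg : g = b • 1 + φ.smulRight z) {w : V} {t s d : K} (hA : Chain A w t s d)
    (hd : d ≠ 0) {T S D : K} (hD : D = b * b * d * (b + φ z))
    (hne : φ z ≠ 0 ∨ T ≠ b * t ∨ S ≠ b * b * s) :
    ∃ (X : Module.End K V) (p : V), ConjIn (Set.univ : Set K) A X ∧ Chain (g * X) p T S D := by
  obtain ⟨B, -, -, -, a0, a1, a2⟩ := hA.basis hn
  set ψ0 := T - b * t with hψ0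
  set ψ1 := (b * t * ψ0 + b * b * s - S) / b with hψ1
  let φ' : V →ₗ[K] K := B.constr K ![φ z, ψ0, ψ1]
  have f0 : φ' (B 0) = φ z := by simp [φ']
  have f1 : φ' (B 1) = ψ0 := by simp [φ']
  have f2 : φ' (B 2) = ψ1 := by simp [φ']
  set gh : Module.End K V := b • 1 + φ'.smulRight (B 0) with hgh
  have m0 : (gh * A) (B 0) = ψ0 • B 0 + b • B 1 := by
    rw [Module.End.mul_apply, a0, hgh, LinearMap.add_apply, LinearMap.smulRight_apply, f1,
      LinearMap.smul_apply, Module.End.one_apply, add_comm]
  have m1 : (gh * A) (B 1) = ψ1 • B 0 + b • B 2 := by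
    rw [Module.End.mul_apply, a1, hgh, LinearMap.add_apply, LinearMap.smulRight_apply, f2,
      LinearMap.smul_apply, Module.End.one_apply, add_comm]
  have m2 : (gh * A) (B 2) = (b * d + (t * ψ1 - s * ψ0 + d * φ z)) • B 0 + (-(b * s)) • B 1 + (b * t) • B 2 := by
    rw [Module.End.mul_apply, a2, hgh]
    simp only [LinearMap.add_apply, LinearMap.smulRight_apply, map_add, map_sub, map_smul, f0, f1, f2,
      LinearMap.smul_apply, Module.End.one_apply, smul_eq_mul]
    module
  have hM : Chain (gh * A) (B 0) T S D := by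
    constructor
    · refine li_three fun p q r h => ?_
      rw [m0, map_add, map_smul, map_smul, m0, m1] at h
      have := congrArg B.repr h
      simp only [map_add, map_smul, Basis.repr_self, map_zero] at this
      have c0 := DFunLike.congr_fun this 0
      have c1 := DFunLike.congr_fun this 1
      have c2 := DFunLike.congr_fun this 2
      simp at c0 c1 c2
      have hr : r = 0 := by rcases c2 with h | h <;> [exact h; exact absurd h hb]
      subst hr
      have hq : q = 0 := by
        have : q * b = 0 := by linear_combination c1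
        exact (mul_eq_zero.1 this).resolve_right hb
      subst hq
      exact ⟨by linear_combination c0, rfl, rfl⟩
    · have hbψ : b * ψ1 = b * t * ψ0 + b * b * s - S := by rw [hψ1]; field_simp
      have hS : S = b * t * ψ0 + b * b * s - b * ψ1 := by linear_combination hbψ
      have hT : T = ψ0 + b * t := by rw [hψ0]; ring
      simp only [m0, m1, m2, map_add, map_smul, hS, hT, hD]
      module
  have hφ' : φ' ≠ 0 := fun e => by
    have e0 := LinearMap.congr_fun e (B 0)
    have e1 := LinearMap.congr_fun e (B 1)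
    have e2 := LinearMap.congr_fun e (B 2)
    rw [f0, LinearMap.zero_apply] at e0
    rw [f1, LinearMap.zero_apply, hψ0, sub_eq_zero] at e1
    rw [f2, LinearMap.zero_apply, hψ1, div_eq_zero_iff, or_iff_left hb, hψ0, e1, sub_self, mul_zero, zero_add,
      sub_eq_zero] at e2
    rcases hne with h | h | h
    exacts [h e0, h e1, h e2.symm]
  -- move `(z, φ)` to `(B 0, φ')`
  obtain ⟨e0, -, he0⟩ := exists_move (K := K) (V := V) (j := 1) (by omega) (a := ![z]) (b := ![B 0])
    (LinearIndependent.of_subsingleton 0 hz) (LinearIndependent.of_subsingleton 0 (B.ne_zero 0))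
  have he0z : e0 z = B 0 := he0 0
  set ψ := φ' ∘ₗ (e0 : V →ₗ[K] V) with hψ
  have hψz : ψ z = φ z := by rw [hψ, LinearMap.comp_apply, LinearEquiv.coe_coe, he0z, f0]
  have hψ0' : ψ ≠ 0 := fun h => hφ' (LinearMap.ext fun q => by
    simpa [hψ] using LinearMap.congr_fun h (e0.symm q))
  obtain ⟨q, hψq, hφq⟩ : ∃ q, ψ q ≠ 0 ∧ φ q ≠ 0 := by
    obtain ⟨q1, hq1⟩ : ∃ q, ψ q ≠ 0 := by
      by_contra h; push Not at h; exact hψ0' (LinearMap.ext h)
    obtain ⟨q2, hq2⟩ : ∃ q, φ q ≠ 0 := by
      by_contra h; push Not at h; exact hφ (LinearMap.ext h)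
    by_cases h : φ q1 = 0
    · by_cases h' : ψ q2 = 0
      · exact ⟨q1 + q2, by simp [h', hq1], by simp [h, hq2]⟩
      · exact ⟨q2, h', hq2⟩
    · exact ⟨q1, hq1, h⟩
  obtain ⟨E, hE⟩ := RegUnipProd.perturb_equiv (φ - ψ) ((ψ q)⁻¹ • q) (by
    rw [map_smul, LinearMap.sub_apply, smul_eq_mul,
      show 1 + (ψ q)⁻¹ * (φ q - ψ q) = (ψ q)⁻¹ * φ q by field_simp; ring]
    exact mul_ne_zero (inv_ne_zero hψq) hφq)
  set e := E ≪≫ₗ e0 with he
  have hEz : E z = z := by rw [hE, LinearMap.sub_apply, hψz, sub_self, zero_smul, add_zero]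
  have hez : e z = B 0 := by rw [he, LinearEquiv.trans_apply, hEz, he0z]
  have heφ : ∀ p, φ' (e p) = φ p := fun p => by
    have : φ' (e p) = ψ (E p) := rfl
    rw [this, hE, map_add, map_smul, map_smul, smul_eq_mul, smul_eq_mul, inv_mul_cancel₀ hψq, mul_one,
      LinearMap.sub_apply, add_sub_cancel]
  have hge : ∀ p, gh (e p) = e (g p) := fun p => by
    rw [hg, hgh]; simp [heφ, hez]
  refine ⟨e.symm.conj A, e.symm (B 0), ⟨e.symm, trivial, fun p => by simp [LinearEquiv.conj_apply]⟩, ?_⟩
  have hgm : g * e.symm.conj A = e.symm.conj (gh * A) := LinearMap.ext fun p => e.injective (by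
    simp [LinearEquiv.conj_apply, ← hge])
  obtain ⟨hli, hrec⟩ := hM
  rw [hgm]
  refine ⟨?_, ?_⟩
  · refine li_three fun p q r h => ?_
    have h' := congrArg e h
    simp [LinearEquiv.conj_apply] at h'
    have := Fintype.linearIndependent_iff.1 hli ![p, q, r] (by simpa [Fin.sum_univ_three] using h')
    exact ⟨this 0, this 1, this 2⟩
  · have := congrArg e.symm hrec
    simpa [LinearEquiv.conj_apply, map_add, map_sub, map_smul] using this

theorem roots_ne {b t s c c' e e' : K} (hne : c ≠ c') (h : c * c * e = c' * c' * e') :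
    (2 * c + e ≠ b * t ∨ c * c + 2 * c * e ≠ b * b * s) ∨
      (2 * c' + e' ≠ b * t ∨ c' * c' + 2 * c' * e' ≠ b * b * s) := by
  by_contra hcon
  push Not at hcon
  obtain ⟨⟨h1, h2⟩, h1', h2'⟩ := hcon
  have hT : 2 * c + e = 2 * c' + e' := h1.trans h1'.symm
  have hS : c * c + 2 * c * e = c' * c' + 2 * c' * e' := h2.trans h2'.symm
  have k1 : (c - c') * (c - c') * (c - e') = 0 := by linear_combination c * c * hT - c * hS + h
  have k2 : (c' - c) * (c' - c) * (c' - e) = 0 := by
    linear_combination -(c' * c') * hT + c' * hS - h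
  have hs := sub_ne_zero.2 hne
  have hs' := sub_ne_zero.2 (Ne.symm hne)
  have r1 : c = e' := sub_eq_zero.1 ((mul_eq_zero.1 k1).resolve_left (mul_ne_zero hs hs))
  have r2 : c' = e := sub_eq_zero.1 ((mul_eq_zero.1 k2).resolve_left (mul_ne_zero hs' hs'))
  exact hne (by linear_combination hT + r2 - r1)

/-- Every non-scalar target is a product of three conjugates of a cyclic map, diversely. -/
theorem good_three_univ (h4 : ∃ k : Fin 4 → K, Function.Injective k) (hn : finrank K V = 3) {x g : Module.End K V}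
    (hdx : LinearMap.det x ≠ 0) (hp : ¬ Pseudo x) (hg : ∀ s : K, g ≠ s • 1)
    (hdet : LinearMap.det g = LinearMap.det x ^ 3) : Good (Set.univ : Set K) Set.univ x g 3 := by
  obtain ⟨v, t, s, d, hx⟩ := exists_chain hn hp
  have hdd := hx.det hn
  rw [hdd] at hdx hdet
  -- the inverse
  obtain ⟨x', hx1, hx2⟩ := exists_inverse (f := x) (by rwa [hdd])
  have hxp' : ¬ Pseudo x' := fun ⟨b, hb⟩ => by
    by_cases hb0 : b = 0
    · rw [hb0, zero_smul, sub_zero, LinearMap.range_eq_top.2 (fun y => ⟨x y, hx2 y⟩), finrank_top, hn] at hb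
      omega
    refine hp ⟨b⁻¹, le_trans (Submodule.finrank_mono ?_) hb⟩
    rintro _ ⟨p, rfl⟩
    refine ⟨-(b⁻¹) • x p, ?_⟩
    simp only [map_smul, RegUnipProd.sub_smul_one_apply, hx2, smul_sub, smul_smul, neg_mul, inv_mul_cancel₀ hb0]
    module
  obtain ⟨v', t', s', d', hxi⟩ := exists_chain hn hxp'
  have hd' : d * d' = 1 := by
    have : x * x' = 1 := LinearMap.ext hx1
    have := congrArg LinearMap.det this
    rwa [map_mul, map_one, hdd, hxi.det hn] at this
  have hd'0 : d' ≠ 0 := right_ne_zero_of_mul_eq_one hd'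
  -- a pair reaching the class of a given split target
  have finish : ∀ (c : K) (X : Module.End K V) (p : V), c ≠ 0 → ConjIn (Set.univ : Set K) x' X →
      Chain (g * X) p (2 * c + d * d / (c * c)) (c * c + 2 * c * (d * d / (c * c))) (c * c * (d * d / (c * c))) →
      Good (Set.univ : Set K) Set.univ x g 3 := by
    intro c X p hc hX hch
    obtain ⟨Y, p0, hY, hch0, hcom⟩ := ky_three h4 hn hx hx hdx hdx hc
    obtain ⟨e, he⟩ := hch0.conj hch hn
    obtain ⟨f, -, hf⟩ := hX
    have hconj : ∀ p, (f.conj x) (X p) = p ∧ X ((f.conj x) p) = p := fun p => by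
      obtain ⟨q, rfl⟩ := f.surjective p
      constructor
      · rw [hf, LinearEquiv.conj_apply_apply, LinearEquiv.symm_apply_apply, hx1]
      · rw [LinearEquiv.conj_apply_apply, LinearEquiv.symm_apply_apply, hf, hx2]
    have hdiv : Div Set.univ [x, Y] :=
      div_pair [c, c, d * d / (c * c)] (hch0.ann hn) (fun r v w h1 h2 h3 => hch0.eig hn r h1 h2 h3) hcom
    obtain ⟨L, hL1, hL2, hL3, hL4⟩ : Good (Set.univ : Set K) Set.univ x (x * Y) 2 :=
      ⟨[x, Y], rfl, fun q hq => by
        rcases List.mem_cons.1 hq with rfl | hq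
        · exact ConjIn.refl (Set.mem_univ _) _
        · rw [List.mem_singleton] at hq; exact hq ▸ hY, by simp, hdiv⟩
    obtain ⟨L', hL1', hL2', hL3', hL4'⟩ :=
      Good.transfer (H := (Set.univ : Set K)) (Λ := Set.univ) (g := x * Y) (m := 2) ⟨L, hL1, hL2, hL3, hL4⟩ e
    have hgx : g = (e.conj (x * Y)) * f.conj x := LinearMap.ext fun q => by
      obtain ⟨r, hr⟩ := e.surjective ((f.conj x) q)
      rw [Module.End.mul_apply, ← hr, LinearEquiv.conj_apply_apply, LinearEquiv.symm_apply_apply, ← he, hr,
        Module.End.mul_apply, (hconj q).2]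
    refine ⟨L' ++ [f.conj x], by simp [hL1'], fun q hq => ?_, ?_, Div.of_subset (fun q hq => List.mem_append_left _ hq) hL4' ?_⟩
    · rcases List.mem_append.1 hq with h | h
      · obtain ⟨e1, -, he1⟩ := hL2' q h
        exact isConj_univ (e := e.trans e1) fun r => by
          rw [LinearEquiv.trans_apply, LinearEquiv.trans_apply, he1, LinearEquiv.conj_apply_apply,
            LinearEquiv.symm_apply_apply]
      · rw [List.mem_singleton] at h
        subst h
        exact isConj_univ (e := f) fun r => by simp [LinearEquiv.conj_apply]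
    · rw [List.prod_append, hL3', List.prod_singleton, hgx]
    · intro h; rw [h] at hL1'; simp at hL1'
  by_cases hgp : Pseudo g
  swap
  · obtain ⟨u, tg, sg, dg, hgc⟩ := exists_chain hn hgp
    have hdg := hgc.det hn
    rw [hdet] at hdg
    obtain ⟨X, p, hX, hch, -⟩ := ky_three h4 hn hgc hxi (hdg ▸ pow_ne_zero _ hdx) hd'0 one_ne_zero
    refine finish 1 X p one_ne_zero hX ?_
    have e : dg * d' = d * d := by rw [← hdg]; linear_combination (d * d) * hd'
    rwa [e] at hch
  -- a scalar plus rank one
  obtain ⟨b, hb⟩ := hgp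
  have hne : LinearMap.range (g - b • 1) ≠ ⊥ := fun h => hg b (sub_eq_zero.1 (LinearMap.range_eq_bot.1 h))
  obtain ⟨z, hz, hz0⟩ := Submodule.exists_mem_ne_zero_of_ne_bot hne
  obtain ⟨χ, hχ, -⟩ := RegUnipProd.sep (p := (⊥ : Submodule K V)) (x := z) (by simpa using hz0)
  have hspan : LinearMap.range (g - b • 1) = Submodule.span K {z} := (Submodule.eq_of_le_of_finrank_le
    ((Submodule.span_singleton_le_iff_mem _ _).2 hz) (by rw [finrank_span_singleton hz0]; omega)).symm
  set φ := χ ∘ₗ (g - b • 1) with hφdef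
  have hgφ : g = b • 1 + φ.smulRight z := LinearMap.ext fun q => by
    obtain ⟨a, ha⟩ := Submodule.mem_span_singleton.1 (hspan ▸ LinearMap.mem_range_self (g - b • 1) q)
    rw [LinearMap.add_apply, LinearMap.smulRight_apply, hφdef, LinearMap.comp_apply, ← ha, map_smul, hχ,
      smul_eq_mul, mul_one, ha, RegUnipProd.sub_smul_one_apply, LinearMap.smul_apply, Module.End.one_apply]
    abel
  have hφ : φ ≠ 0 := fun e => hg b (by rw [hgφ, e]; ext q; simp)
  have hb0 : b ≠ 0 := fun e => by
    have h1 : LinearMap.range g = ⊤ := by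
      obtain ⟨g', hg', -⟩ := exists_inverse (f := g) (by rw [hdet]; exact pow_ne_zero _ hdx)
      exact LinearMap.range_eq_top.2 fun q => ⟨g' q, hg' q⟩
    rw [e, zero_smul, sub_zero, h1, finrank_top, hn] at hb
    omega
  have hD : LinearMap.det g = b * b * (b + φ z) := by
    have h1 : LinearMap.det (1 + (b⁻¹ • φ).smulRight z : Module.End K V) = 1 + (b⁻¹ • φ) z := by
      let S : V ≃ₗ[K] (Fin (finrank K V) → K) := (Module.finBasis K V).equivFun
      clear_value S
      rw [← LinearMap.det_conj _ S,
        show (S : V →ₗ[K] (Fin (finrank K V) → K)) ∘ₗ (1 + (b⁻¹ • φ).smulRight z) ∘ₗ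
            (S.symm : (Fin (finrank K V) → K) →ₗ[K] V) =
          1 + ((b⁻¹ • φ) ∘ₗ (S.symm : (Fin (finrank K V) → K) →ₗ[K] V)).smulRight (S z) from
            LinearMap.ext fun v => by simp,
        RegUnipProd.det_one_add_smulRight]
      simp
    have h2 : g = b • (1 + (b⁻¹ • φ).smulRight z : Module.End K V) := by
      rw [hgφ]; ext q; simp [smul_smul, hb0]
    rw [h2, LinearMap.det_smul, h1, hn, LinearMap.smul_apply, smul_eq_mul]
    field_simp
  obtain ⟨c1, hc1, hc1'⟩ := exists_ne_two h4 0 1
  have hDc : ∀ c : K, c ≠ 0 → c * c * (d * d / (c * c)) = b * b * d' * (b + φ z) := fun c hc => by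
    rw [mul_div_cancel₀ _ (mul_ne_zero hc hc)]
    have := hdet.symm.trans hD
    linear_combination d' * this - (d * d) * hd'
  have key : ∀ c : K, c ≠ 0 → (φ z ≠ 0 ∨ 2 * c + d * d / (c * c) ≠ b * t' ∨
      c * c + 2 * c * (d * d / (c * c)) ≠ b * b * s') → Good (Set.univ : Set K) Set.univ x g 3 := fun c hc hh => by
    obtain ⟨X, p, hX, hch⟩ := rank_one_three hn hb0 hz0 hφ hgφ hxi hd'0 (hDc c hc) hh
    exact finish c X p hc hX hch
  by_cases hz' : φ z ≠ 0
  · exact key 1 one_ne_zero (Or.inl hz')
  rcases roots_ne (b := b) (t := t') (s := s') hc1' (by rw [hDc c1 hc1, hDc 1 one_ne_zero]) with h | h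
  · exact key c1 hc1 (Or.inr h)
  · exact key 1 one_ne_zero (Or.inr h)

end CfsgLib.PSLCover
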