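import Cfsg.Agent.Lib.PSLCover.NEFour
import Cfsg.Agent.Lib.PSLCover.Frame
import Cfsg.Agent.Lib.PSLCover.ThreeBase
import Cfsg.Agent.Lib.PSLCover.Step

/-! No eigenvalues: every dimension. -/

set_option autoImplicit false
set_option linter.unusedSectionVars false

namespace CfsgLib.PSLCover

open Module LinearMap Polynomial

universe u v

variable {K : Type u} [Field K] {V : Type v} [AddCommGroup V] [Module K V] [FiniteDimensional K V]

/-- A small irreducible invariant subspace. -/
theorem exists_small [Nontrivial V] {x : Module.End K V}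
    (hred : ¬ ∀ W : Submodule K V, (∀ w ∈ W, x w ∈ W) → W = ⊥ ∨ W = ⊤) :
    ∃ (W : Submodule K V) (hW : ∀ w ∈ W, x w ∈ W), W ≠ ⊥ ∧ finrank K W + finrank K W ≤ finrank K V ∧
      Irr (x.restrict hW) := by
  classical
  push Not at hred
  obtain ⟨W0, hW0, hW0b, hW0t⟩ := hred
  have hex : ∃ d, ∃ W : Submodule K V, (∀ w ∈ W, x w ∈ W) ∧ W ≠ ⊥ ∧ finrank K W = d := ⟨_, W0, hW0, hW0b, rfl⟩
  obtain ⟨W, hW, hWb, hWd⟩ := Nat.find_spec hex
  have hmin : ∀ U : Submodule K V, (∀ w ∈ U, x w ∈ U) → U ≠ ⊥ → finrank K W ≤ finrank K U := fun U h1 h2 =>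
    hWd ▸ Nat.find_min' hex ⟨U, h1, h2, rfl⟩
  refine ⟨W, hW, hWb, ?_, fun p hp => ?_⟩
  · have hWt : W ≠ ⊤ := fun e => hW0t (Submodule.eq_top_of_finrank_eq (le_antisymm (Submodule.finrank_le _) (by
      have := hmin W0 hW0 hW0b; rwa [e, finrank_top] at this)))
    haveI : Nontrivial (V ⧸ W) := Submodule.Quotient.nontrivial_iff.2 hWt
    set y : Module.End K (V ⧸ W) := W.mapQ W x hW with hy
    have hyint := Algebra.IsIntegral.isIntegral (R := K) y
    obtain ⟨f, hfi, hfd⟩ := WfDvdMonoid.exists_irreducible_factor (minpoly.not_isUnit K y) (minpoly.ne_zero hyint)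
    have hk : f.natDegree ≤ finrank K (V ⧸ W) :=
      (natDegree_le_of_dvd hfd (minpoly.ne_zero hyint)).trans (natDegree_minpoly_le y)
    have hpow : ∀ (p : K[X]) (v : V), aeval y p (Submodule.Quotient.mk v) = Submodule.Quotient.mk (aeval x p v) := by
      intro p
      induction p using Polynomial.induction_on' with
      | add p q hp hq => intro v; simp [map_add, hp, hq]
      | monomial n a =>
        intro v
        simp only [aeval_monomial, Algebra.algebraMap_eq_smul_one, smul_mul_assoc, one_mul, LinearMap.smul_apply,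
          Submodule.Quotient.mk_smul]
        congr 1
        induction n with
        | zero => simp
        | succ n ih => rw [pow_succ', pow_succ', Module.End.mul_apply, Module.End.mul_apply, ih]; simp [hy]
    have hdx : minpoly K y ∣ minpoly K x := minpoly.dvd K y (LinearMap.ext fun q => by
      obtain ⟨v, rfl⟩ := W.mkQ_surjective q
      rw [Submodule.mkQ_apply, hpow, minpoly.aeval]; simp)
    obtain ⟨c, hc⟩ := hfd.trans hdx
    obtain ⟨v, hv, hv0⟩ : ∃ v, aeval x f v = 0 ∧ v ≠ 0 := by
      by_contra h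
      push Not at h
      have hne : c ≠ 0 := fun e => minpoly.ne_zero (Algebra.IsIntegral.isIntegral x) (by rw [hc, e, mul_zero])
      have hz : aeval x c = 0 := LinearMap.ext fun v => h _ (by
        rw [← Module.End.mul_apply, ← map_mul, ← hc, minpoly.aeval, LinearMap.zero_apply])
      have h1 := natDegree_le_of_dvd (minpoly.dvd K x hz) hne
      rw [hc, natDegree_mul hfi.ne_zero hne] at h1
      have := hfi.natDegree_pos
      omega
    set U := Submodule.span K (Set.range fun i : Fin f.natDegree => (x ^ (i : ℕ)) v) with hU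
    have hUle : finrank K U ≤ f.natDegree := by
      have := finrank_range_le_card (R := K) fun i : Fin f.natDegree => (x ^ (i : ℕ)) v
      simpa [Set.finrank] using this
    have hUinv : ∀ w ∈ U, x w ∈ U := by
      intro w hw
      induction hw using Submodule.span_induction with
      | mem w hw =>
        obtain ⟨i, rfl⟩ := hw
        show x ((x ^ (i : ℕ)) v) ∈ U
        rw [← Module.End.mul_apply, ← pow_succ']
        rcases Nat.lt_or_ge (i + 1 : ℕ) f.natDegree with h | h
        · exact Submodule.subset_span ⟨⟨_, h⟩, rfl⟩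
        · rw [aeval_eq_sum_range, Finset.sum_range_succ, LinearMap.add_apply, LinearMap.sum_apply] at hv
          have e : (i : ℕ) + 1 = f.natDegree := le_antisymm i.2 h
          rw [e]
          have hl : f.coeff f.natDegree ≠ 0 := by
            rw [coeff_natDegree]; exact leadingCoeff_ne_zero.2 hfi.ne_zero
          refine (Submodule.smul_mem_iff _ hl).1 ?_
          rw [← LinearMap.smul_apply, eq_neg_of_add_eq_zero_right hv]
          refine neg_mem (sum_mem fun k hk' => ?_)
          rw [LinearMap.smul_apply]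
          exact Submodule.smul_mem _ _ (Submodule.subset_span ⟨⟨k, Finset.mem_range.1 hk'⟩, rfl⟩)
      | zero => simp
      | add p q _ _ hp hq => rw [map_add]; exact add_mem hp hq
      | smul a p _ hp => rw [map_smul]; exact U.smul_mem a hp
    have hUb : U ≠ ⊥ := fun e => hv0 (by
      have : v ∈ U := Submodule.subset_span ⟨⟨0, hfi.natDegree_pos⟩, by simp⟩
      rwa [e, Submodule.mem_bot] at this)
    have := hmin U hUinv hUb
    have := Submodule.finrank_quotient_add_finrank W
    omega
  · rcases eq_or_ne (p.map W.subtype) ⊥ with h | h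
    · left
      exact Submodule.map_injective_of_injective W.subtype_injective (h.trans (Submodule.map_bot _).symm)
    · right
      refine Submodule.eq_top_of_finrank_eq (le_antisymm (Submodule.finrank_le _) ?_)
      rw [(Submodule.equivMapOfInjective _ W.subtype_injective p).finrank_eq]
      refine hmin _ ?_ h
      rintro _ ⟨a, ha, rfl⟩
      exact ⟨_, hp a ha, rfl⟩

theorem not_pseudo_of_no_eigen (hn : 2 ≤ finrank K V) {x : Module.End K V}
    (hno : ∀ (a : K) (v : V), x v = a • v → v = 0) : ¬ Pseudo x := by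
  rintro ⟨b, hb⟩
  have h := LinearMap.finrank_range_add_finrank_ker (x - b • 1)
  have : LinearMap.ker (x - b • 1) = ⊥ :=
    (Submodule.eq_bot_iff _).2 fun v hv => hno b v (RegUnipProd.mem_eigKer.1 hv)
  rw [this, finrank_bot] at h
  omega

/-- Irreducible, of dimension at least five: four factors. -/
theorem good_irr [Finite K] (h4 : ∃ k : Fin 4 → K, Function.Injective k) {n : ℕ} (hn : finrank K V = n) (hn5 : 5 ≤ n)
    {x : Module.End K V} (hdx : LinearMap.det x ≠ 0) (hno : ∀ (a : K) (v : V), x v = a • v → v = 0)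
    (hirr : ∀ W : Submodule K V, (∀ w ∈ W, x w ∈ W) → W = ⊥ ∨ W = ⊤) :
    ∀ m, 4 ≤ m → ∀ g : Module.End K V, (∀ s : K, g ≠ s • 1) → LinearMap.det g = LinearMap.det x ^ m →
      Good ({1} : Set K) Set.univ x g m := by
  haveI : Nontrivial V := Module.nontrivial_of_finrank_pos (R := K) (by omega)
  obtain ⟨v, hv⟩ := cyc_of_irr hirr
  have hns : ∀ s : K, x ≠ s • 1 := fun s e => by
    obtain ⟨w, hw⟩ := exists_ne (0 : V)
    exact hw (hno s w (by rw [e]; simp))
  intro m hm
  induction m, hm using Nat.le_induction with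
  | base =>
    intro g hg hdet
    refine Good.of_full (fullDet_of_irr hirr) (H := Set.univ) ?_
    by_cases hd : LinearMap.det x * LinearMap.det x = 1
    · obtain ⟨η, hη0, hη⟩ := exists_ne_four h4 (1 : K)
      obtain ⟨y, e, he, hr, hcov, -, -⟩ := cyclic_pair_eta h4 hv (j := n - 2) (by omega) (by omega) hd hη0
        (fun h => hη (by rw [h, one_mul])) hη
      exact (pair_cover closed_univ (H := Set.univ) (y := y) ⟨e, trivial, he⟩ hr hcov
        (by rw [hd]; simp [hη0]) (Or.inl rfl) hdet hg).2 hno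
    · obtain ⟨y, l, hy, hr, hcov, hl, -, -⟩ := cyclic_pair_one h4 hv hdx (j := n - 1) (by omega) (by omega) hd
      exact (pair_cover closed_univ hy hr hcov hl (Or.inl rfl) hdet hg).2 hno
  | succ m hm ih =>
    intro g hg hdet
    obtain ⟨y, h, hy, hgh, hd, hh⟩ := split_off (g := g) hdx (hdet ▸ pow_ne_zero _ hdx) hns
    obtain ⟨j, rfl⟩ : ∃ j, m = j + 1 := ⟨m - 1, by omega⟩
    rw [hdet, pow_succ'] at hd
    exact good_cons hy (ih h hh (mul_left_cancel₀ hdx hd).symm) hgh

/-- The world without eigenvalues. -/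
theorem good_no_eigen [Finite K] (h4 : ∃ k : Fin 4 → K, Function.Injective k) :
    ∀ (n : ℕ) {V : Type v} [AddCommGroup V] [Module K V] [FiniteDimensional K V] (x g : Module.End K V) (m : ℕ),
      finrank K V = n → 3 ≤ n → n ≤ m → LinearMap.det x ≠ 0 → (∀ (a : K) (v : V), x v = a • v → v = 0) →
      ((∀ s : K, g ≠ s • 1) ∨ n < m) → LinearMap.det g = LinearMap.det x ^ m →
      Good ({1} : Set K) Set.univ x g m := by
  intro n
  induction n using Nat.strong_induction_on with | _ n IH
  intro V _ _ _ x g m hn h3 hm hdx hno hg hdet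
  haveI : Nontrivial V := Module.nontrivial_of_finrank_pos (R := K) (by omega)
  have hns : ∀ s : K, x ≠ s • 1 := fun s e => by
    obtain ⟨w, hw⟩ := exists_ne (0 : V)
    exact hw (hno s w (by rw [e]; simp))
  induction m, hm using Nat.le_induction generalizing g with
  | succ m hm ih =>
    obtain ⟨y, h, hy, hgh, hd, hh⟩ := split_off (g := g) hdx (hdet ▸ pow_ne_zero _ hdx) hns
    obtain ⟨j, rfl⟩ : ∃ j, m = j + 1 := ⟨m - 1, by omega⟩
    rw [hdet, pow_succ'] at hd
    exact good_cons hy (ih h (Or.inl hh) (mul_left_cancel₀ hdx hd).symm) hgh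
  | base =>
  replace hg : ∀ s : K, g ≠ s • 1 := hg.resolve_right (lt_irrefl n)
  by_cases hirr : ∀ W : Submodule K V, (∀ w ∈ W, x w ∈ W) → W = ⊥ ∨ W = ⊤
  · obtain rfl | rfl | h5 : n = 3 ∨ n = 4 ∨ 5 ≤ n := by omega
    · exact Good.of_full (fullDet_of_irr hirr)
        (good_three_univ h4 hn hdx (not_pseudo_of_no_eigen (by omega) hno) hg hdet)
    · exact good_four h4 hn hdx hno hg hdet
    · exact good_irr h4 hn h5 hdx hno hirr n (by omega) g hg hdet
  obtain ⟨W, hW, hWb, hd2, hA⟩ := exists_small hirr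
  set d := finrank K W with hdef
  have hd : 2 ≤ d := by
    by_contra hlt
    obtain ⟨w, hw, hw0⟩ := Submodule.exists_mem_ne_zero_of_ne_bot hWb
    have hle : Submodule.span K {w} = W := Submodule.eq_of_le_of_finrank_le
      (Submodule.span_le.2 (Set.singleton_subset_iff.2 hw)) (by rw [finrank_span_singleton hw0]; omega)
    obtain ⟨a, ha⟩ := Submodule.mem_span_singleton.1 (hle.symm ▸ hW w hw : x w ∈ Submodule.span K {w})
    exact hw0 (hno a w ha.symm)
  rcases Nat.lt_or_ge n 5 with h5 | h5
  · obtain rfl : n = 4 := by omega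
    exact good_four h4 hn hdx hno hg hdet
  haveI : Nontrivial W := Module.nontrivial_of_finrank_pos (R := K) (by omega)
  set A := x.restrict hW with hAdef
  have hnoA : ∀ (a : K) (w : W), A w = a • w → w = 0 := fun a w h =>
    Subtype.ext (hno a (w : V) (congrArg Subtype.val h))
  set x' := W.mapQ W x hW with hx'def
  obtain ⟨φ, hφ, hφ'⟩ := exists_split W
  obtain ⟨r, hr⟩ := conj_eq_blk φ hφ hφ' x hW
  have hdblk : LinearMap.det x = LinearMap.det A * LinearMap.det x' := by
    rw [← LinearMap.det_conj x φ]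
    show LinearMap.det (φ.conj x) = _
    rw [hr, det_blk]
  have hdA : LinearMap.det A ≠ 0 := fun e => hdx (by rw [hdblk, e, zero_mul])
  have hdx' : LinearMap.det x' ≠ 0 := fun e => hdx (by rw [hdblk, e, mul_zero])
  have hAu : IsUnit A := (LinearMap.isUnit_iff_isUnit_det A).2 (isUnit_iff_ne_zero.2 hdA)
  have hWt : W ≠ ⊤ := fun e => by
    have : d = finrank K V := by rw [hdef, e, finrank_top]
    omega
  obtain ⟨q, hq⟩ : ∃ q, q ∉ W := by by_contra h; push Not at h; exact hWt (Submodule.eq_top_iff'.2 h)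
  let bW := Module.finBasisOfFinrankEq K W hdef.symm
  let w : Fin d → V := fun i => (bW i : V)
  have hw : LinearIndependent K w := bW.linearIndependent.map' W.subtype W.ker_subtype
  let i0 : Fin d := ⟨0, by omega⟩
  -- move the target
  obtain ⟨v, hv⟩ := exists_not_eigen hg
  have li2 : ∀ {a b : V}, b ∉ Submodule.span K {a} → a ≠ 0 → LinearIndependent K ![a, b] := fun {a b} h h0 =>
    linearIndependent_fin2.2 ⟨fun e => h (by rw [show b = 0 from e]; exact zero_mem _), fun c e => by
      rcases eq_or_ne c 0 with rfl | hc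
      · simp at e; exact h0 e.symm
      · refine h (Submodule.mem_span_singleton.2 ⟨c⁻¹, ?_⟩)
        rw [show a = c • b from e.symm, smul_smul, inv_mul_cancel₀ hc, one_smul]⟩
  have hv0 : v ≠ 0 := fun e => hv (by rw [e, map_zero]; exact zero_mem _)
  obtain ⟨c, hcd, hc⟩ := exists_move (j := 2) (by omega) (li2 hv hv0)
    (li2 (show q ∉ Submodule.span K {w i0} from fun h => hq ((Submodule.span_le.2
      (Set.singleton_subset_iff.2 (bW i0).2)) h)) (hw.ne_zero i0))
  set g' := c.conj g with hg'
  have hg'w : g' (w i0) = q := by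
    rw [← show c v = w i0 from hc 0, hg', LinearEquiv.conj_apply_apply, LinearEquiv.symm_apply_apply]
    exact hc 1
  have hdg' : LinearMap.det g' = LinearMap.det x ^ n := by
    rw [← hdet]; exact LinearMap.det_conj g c
  obtain ⟨gi, hgi, hgi'⟩ := exists_inverse (f := g') (hdg' ▸ pow_ne_zero _ hdx)
  obtain ⟨k, rfl⟩ : ∃ k, n = k + 2 := ⟨n - 2, by omega⟩
  obtain ⟨Au, hAk⟩ := hAu.pow k
  let L : W →ₗ[K] V := g' ∘ₗ W.subtype ∘ₗ (↑Au⁻¹ : Module.End K W)
  have hLA : ∀ a : W, L ((A ^ k) a) = g' (a : V) := fun a => by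
    show g' (((↑Au⁻¹ : Module.End K W) ((A ^ k) a) : W) : V) = _
    rw [← hAk, ← Module.End.mul_apply, Units.inv_mul, Module.End.one_apply]
  have hLinj : LinearMap.ker L = ⊥ := (Submodule.eq_bot_iff _).2 fun a ha => by
    have h1 : ((↑Au⁻¹ : Module.End K W) a : V) = 0 := by
      rw [← hgi' ((↑Au⁻¹ : Module.End K W) a : V)]
      exact (congrArg gi (LinearMap.mem_ker.1 ha)).trans (map_zero gi)
    have h2 : (↑Au : Module.End K W) ((↑Au⁻¹ : Module.End K W) a) = a := by
      rw [← Module.End.mul_apply, Units.mul_inv, Module.End.one_apply]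
    rw [← h2, show (↑Au⁻¹ : Module.End K W) a = 0 from Subtype.ext h1, map_zero]
  let z : Fin d → V := fun i => L (bW i)
  have hz : LinearIndependent K z := bW.linearIndependent.map' L hLinj
  have hgen : Submodule.span K (Set.range w) ≠ Submodule.span K (Set.range z) := fun e => hq (by
    have h1 : Submodule.span K (Set.range w) ≤ W := Submodule.span_le.2 (by rintro _ ⟨i, rfl⟩; exact (bW i).2)
    refine h1 (e ▸ ?_)
    rw [← hg'w, show w i0 = ((bW i0 : W) : V) from rfl, ← hLA, ← bW.sum_repr ((A ^ k) (bW i0)), map_sum]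
    exact sum_mem fun i _ => by rw [map_smul]; exact Submodule.smul_mem _ _ (Submodule.subset_span ⟨i, rfl⟩))
  obtain ⟨p, hp⟩ := exists_P hno d hd2
  obtain ⟨e1, e2, hd1, hd2', he1, he2, he12⟩ := exists_route (by omega) hd2 hp hw hz (Or.inr hgen)
  let u : Fin d → V := fun i => e2 (p i)
  have hwu : LinearIndependent K (Sum.elim w u) := by
    have := hp.map' (e1 : V →ₗ[K] V) (LinearEquiv.ker e1)
    rwa [show (e1 : V →ₗ[K] V) ∘ Sum.elim p (fun i => x (p i)) = Sum.elim w u by
      funext s; rcases s with i | i <;> simp [he1, u, he12]] at this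
  set x1 := e2.conj x with hx1
  have hc1 : ConjIn ({1} : Set K) x x1 := ⟨e2, hd2', fun v => by simp [x1, LinearEquiv.conj_apply]⟩
  have hx1u : ∀ i, x1 (u i) = z i := fun i => by simp [x1, u, LinearEquiv.conj_apply, he2]
  have hc2 : ConjIn ({1} : Set K) x (e1.conj x) := ⟨e1, hd1, fun v => by simp [LinearEquiv.conj_apply]⟩
  have hx2w : ∀ i, e1.conj x (w i) = u i := fun i => by simp [LinearEquiv.conj_apply, ← he1, he12, u]
  obtain ⟨xi, hxi, hxi'⟩ := exists_inverse (f := x1) (by rwa [hc1.det_eq])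
  -- the rest for any second factor
  have mk : ∀ y, ConjIn ({1} : Set K) x y → (∀ i, y (w i) = u i) →
      ∃ h : Module.End K V, g' = x1 * y * h ∧ ∀ a : W, h (a : V) = ((A ^ k) a : V) := by
    intro y hy hyw
    obtain ⟨yi, hyi, hyi'⟩ := exists_inverse (f := y) (by rwa [hy.det_eq])
    refine ⟨yi * (xi * g'), LinearMap.ext fun v => by simp [hxi, hyi], fun a => ?_⟩
    have hPL : ∀ b : W, x1 (y (b : V)) = L b := fun b => LinearMap.congr_fun
      (bW.ext (f₁ := x1 ∘ₗ y ∘ₗ W.subtype) (f₂ := L) fun i => by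
        show x1 (y (w i)) = L (bW i)
        rw [hyw, hx1u]) b
    simp only [Module.End.mul_apply]
    rw [← hLA, ← hPL, hxi', hyi']
  -- choice
  suffices key : ∃ (y h : Module.End K V) (hh : ∀ a ∈ W, h a ∈ W), ConjIn ({1} : Set K) x y ∧ (∀ i, y (w i) = u i) ∧
      g' = x1 * y * h ∧ (∀ a : W, h (a : V) = ((A ^ k) a : V)) ∧ ((∀ s : K, W.mapQ W h hh ≠ s • 1) ∨ d ≥ 3) by
    obtain ⟨x2, h, hh, hcx2, hx2, hgh, hhA, hor⟩ := key
    obtain ⟨r', hr'⟩ := conj_eq_blk φ hφ hφ' h hh
    have hres : h.restrict hh = A ^ k := LinearMap.ext fun a => Subtype.ext (hhA a)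
    rw [hres] at hr'
    have hsum := Submodule.finrank_quotient_add_finrank W
    have hnoQ : ∀ (a : K) (t : V ⧸ W), x' t = a • t → t = 0 := fun a t ht => by
      obtain ⟨v, rfl⟩ := W.mkQ_surjective t
      rw [Submodule.mkQ_apply, hx'def, Submodule.mapQ_apply, ← Submodule.Quotient.mk_smul, Submodule.Quotient.eq] at ht
      rw [Submodule.mkQ_apply, Submodule.Quotient.mk_eq_zero]
      have hinj : Function.Injective (x - a • (1 : Module.End K V) : Module.End K V) :=
        (injective_iff_map_eq_zero _).2 fun z hz => hno a z (RegUnipProd.mem_eigKer.1 (LinearMap.mem_ker.2 hz))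
      have hmap : W.map (x - a • (1 : Module.End K V) : Module.End K V) = W := by
        refine Submodule.eq_of_le_of_finrank_eq ?_ (Submodule.equivMapOfInjective _ hinj W).finrank_eq.symm
        rintro _ ⟨z, hz, rfl⟩
        rw [RegUnipProd.sub_smul_one_apply]
        exact W.sub_mem (hW z hz) (W.smul_mem a hz)
      obtain ⟨b, hb, hbv⟩ : x v - a • v ∈ W.map (x - a • (1 : Module.End K V) : Module.End K V) := hmap.symm ▸ ht
      have : b = v := hinj (by rw [hbv, RegUnipProd.sub_smul_one_apply])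
      exact this ▸ hb
    have hdety : LinearMap.det (W.mapQ W h hh) = LinearMap.det x' ^ k := by
      have e0 : LinearMap.det h = LinearMap.det A ^ k * LinearMap.det (W.mapQ W h hh) := by
        rw [← LinearMap.det_conj h φ]
        show LinearMap.det (φ.conj h) = _
        rw [hr', det_blk, map_pow]
      have e3 := congrArg LinearMap.det hgh
      rw [map_mul, map_mul, hc1.det_eq, hcx2.det_eq, hdg', e0, pow_add, hdblk, mul_pow, mul_pow] at e3
      refine mul_left_cancel₀ (mul_ne_zero (mul_ne_zero (mul_ne_zero hdA hdx') (mul_ne_zero hdA hdx'))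
        (pow_ne_zero k hdA)) ?_
      linear_combination -e3
    have hQ := IH (finrank K (V ⧸ W)) (by omega) x' (W.mapQ W h hh) k rfl (by omega) (by omega) hdx' hnoQ
      (hor.imp id fun h3' => by omega) hdety
    have hstep := step (A := A) (r := r) (x' := x') (k := k) (by omega) hAu (H := Set.univ) (Λ := Set.univ)
      (Λ' := Set.univ) (Set.subset_univ _) ?_ hA (Or.inr hnoA) (hQ.mono (Set.subset_univ _) le_rfl)
      (pre := [φ.conj x1, φ.conj x2]) ?_ ?_ (u := r') (g := φ.conj g') ?_
    · rw [← hr, show [φ.conj x1, φ.conj x2].length + k = k + 2 by simp [Nat.add_comm]] at hstep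
      have h1 := hstep.transfer φ.symm
      have e : ∀ F : Module.End K V, φ.symm.conj (φ.conj F) = F := fun F => LinearMap.ext fun v => by
        simp [LinearEquiv.conj_apply]
      rw [e, e] at h1
      have h2 := h1.conj_target c.symm (by
        have h1 : ((c.symm : V ≃ₗ[K] V) : V →ₗ[K] V) * (c : V →ₗ[K] V) = 1 := LinearMap.ext fun w => c.symm_apply_apply w
        have h2 := congrArg LinearMap.det h1
        rwa [map_mul, hcd, mul_one, map_one] at h2)
      have e' : c.symm.conj g' = g := LinearMap.ext fun w => by simp [g', LinearEquiv.conj_apply]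
      rwa [e'] at h2
    · intro ρ _ hρ
      obtain ⟨cc, hcc, hccd⟩ := fullDet_of_irr hA ρ⁻¹ (inv_ne_zero hρ)
      exact ⟨cc, hcc, by rw [hccd, inv_mul_cancel₀ hρ]⟩
    · intro f hf
      rw [← hr]
      rcases List.mem_cons.1 hf with rfl | hf
      · exact hc1.transfer φ
      · rw [List.mem_singleton] at hf; exact hf ▸ hcx2.transfer φ
    · refine ⟨φ.conj x2, by simp, fun a ha => ?_⟩
      rw [← hφ, LinearEquiv.conj_apply_apply, LinearEquiv.symm_apply_apply, hφ', Submodule.mkQ_apply,
        Submodule.Quotient.mk_eq_zero] at ha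
      have e3 : x2 (a : V) = ∑ i, bW.repr a i • u i := by
        have h0 := congrArg (fun t : W => x2 (t : V)) (bW.sum_repr a).symm
        simp only [Submodule.coe_sum, Submodule.coe_smul, map_sum, map_smul] at h0
        exact h0.trans (Finset.sum_congr rfl fun i _ => by rw [show x2 (bW i : V) = u i from hx2 i])
      have hli := Fintype.linearIndependent_iff.1 hwu
        (fun s => Sum.elim (fun i => -(bW.repr ⟨_, ha⟩ i)) (fun i => bW.repr a i) s) (by
        rw [Fintype.sum_sum_type]
        simp only [Sum.elim_inl, Sum.elim_inr, neg_smul, Finset.sum_neg_distrib, ← e3]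
        have e4 : ((⟨x2 (a : V), ha⟩ : W) : V) = ∑ i, bW.repr ⟨_, ha⟩ i • w i := by
          have h0 := congrArg (fun t : W => (t : V)) (bW.sum_repr ⟨_, ha⟩).symm
          simp only [Submodule.coe_sum, Submodule.coe_smul] at h0
          exact h0
        rw [← e4]; simp)
      refine bW.repr.injective (Finsupp.ext fun i => ?_)
      simpa using hli (Sum.inr i)
    · rw [← hr', List.prod_cons, List.prod_singleton, hgh]
      exact (map_mul φ.conjRingEquiv (x1 * x2) h).trans (congrArg (· * φ.conj h) (map_mul φ.conjRingEquiv x1 x2))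
  obtain ⟨h, hgh, hhA⟩ := mk _ hc2 hx2w
  have memh : ∀ {h : Module.End K V}, (∀ a : W, h (a : V) = ((A ^ k) a : V)) → ∀ a ∈ W, h a ∈ W := fun hh a ha => by
    rw [show a = ((⟨a, ha⟩ : W) : V) from rfl, hh]; exact Submodule.coe_mem _
  by_cases hgood : (∀ s : K, W.mapQ W h (memh hhA) ≠ s • 1) ∨ d ≥ 3
  · exact ⟨_, h, memh hhA, hc2, hx2w, hgh, hhA, hgood⟩
  push Not at hgood
  obtain ⟨⟨ν, hν⟩, hd3⟩ := hgood
  -- the variant
  set S := Submodule.span K (Set.range (Sum.elim w u)) with hS
  have hSt : S ≠ ⊤ := fun e => by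
    have := finrank_span_eq_card hwu
    rw [← hS, e, finrank_top] at this
    simp at this
    omega
  obtain ⟨y0, hy0⟩ : ∃ y0, y0 ∉ S := by by_contra h; push Not at h; exact hSt (Submodule.eq_top_iff'.2 h)
  obtain ⟨ζ, hζy, hζ⟩ := RegUnipProd.sep hy0
  have hζw : ∀ i, ζ (w i) = 0 := fun i => hζ _ (Submodule.subset_span ⟨Sum.inl i, rfl⟩)
  have hζu : ∀ i, ζ (u i) = 0 := fun i => hζ _ (Submodule.subset_span ⟨Sum.inr i, rfl⟩)
  let N : V ≃ₗ[K] V := LinearEquiv.ofLinearMap (1 + ζ.smulRight (w i0)) (1 - ζ.smulRight (w i0))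
    (LinearMap.ext fun v => by simp [hζw, sub_eq_add_neg]) (LinearMap.ext fun v => by simp [hζw, sub_eq_add_neg])
  have hNd : LinearMap.det (N : V →ₗ[K] V) = 1 := by
    show LinearMap.det (1 + ζ.smulRight (w i0)) = 1
    exact RegUnipProd.det_one_add_sq_zero _ (LinearMap.ext fun v => by simp [hζw])
  set x2 := e1.conj x with hx2
  have hcy : ConjIn ({1} : Set K) x (N.conj x2) :=
    hc2.trans ⟨N, hNd, fun v => by simp [LinearEquiv.conj_apply]⟩
  have hy : ∀ v, N.conj x2 v = x2 v - ζ v • u i0 + ζ (x2 v) • w i0 := fun v => by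
    have : N.symm v = v - ζ v • w i0 := rfl
    rw [LinearEquiv.conj_apply_apply, this, map_sub, map_smul, hx2w]
    show (x2 v - ζ v • u i0) + ζ (x2 v - ζ v • u i0) • w i0 = _
    rw [map_sub, map_smul, hζu, smul_zero, sub_zero]
  have hyw : ∀ i, N.conj x2 (w i) = u i := fun i => by rw [hy, hx2w, hζw, hζu]; simp
  obtain ⟨h', hgh', hhA'⟩ := mk _ hcy hyw
  refine ⟨_, h', memh hhA', hcy, hyw, hgh', hhA', Or.inl fun ν' hν' => ?_⟩
  set Z := Submodule.span K (Set.range z) with hZ
  set U := Submodule.span K (Set.range u) with hU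
  have hUZ : ∀ v, x1 v ∈ Z → v ∈ U := fun v hv => by
    have e : Z = U.map x1 := by
      rw [hZ, hU, Submodule.map_span, ← Set.range_comp]
      congr 2
      funext i
      exact (hx1u i).symm
    obtain ⟨t, ht, htv⟩ : x1 v ∈ U.map x1 := e ▸ hv
    rw [← hxi' v, ← htv, hxi']
    exact ht
  have mod : ∀ {y h : Module.End K V} (hh : ∀ a ∈ W, h a ∈ W) {ν : K}, (∀ i, y (w i) = u i) → g' = x1 * y * h →
      W.mapQ W h hh = ν • 1 → ∀ v, g' v - ν • x1 (y v) ∈ Z := fun {y h} hh {ν} hyw hgh hν v => by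
    have h0 := LinearMap.congr_fun hν (Submodule.Quotient.mk v)
    rw [Submodule.mapQ_apply, LinearMap.smul_apply, Module.End.one_apply, ← Submodule.Quotient.mk_smul,
      Submodule.Quotient.eq] at h0
    rw [hgh, Module.End.mul_apply, Module.End.mul_apply, ← map_smul x1, ← map_smul y, ← map_sub, ← map_sub,
      show h v - ν • v = ((⟨_, h0⟩ : W) : V) from rfl, ← bW.sum_repr ⟨_, h0⟩, Submodule.coe_sum, map_sum, map_sum]
    refine sum_mem fun i _ => ?_
    rw [Submodule.coe_smul, map_smul, map_smul, show y (bW i : V) = u i from hyw i, hx1u]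
    exact Submodule.smul_mem _ _ (Submodule.subset_span ⟨i, rfl⟩)
  obtain ⟨x2i, hx2i, -⟩ := exists_inverse (f := x2) (by rwa [hc2.det_eq])
  have h1 := hUZ (ν' • N.conj x2 (x2i y0) - ν • x2 (x2i y0)) (by
    have := sub_mem (mod (memh hhA) hx2w hgh hν (x2i y0)) (mod (memh hhA') hyw hgh' hν' (x2i y0))
    convert this using 1
    rw [map_sub, map_smul, map_smul]; abel)
  rw [hy, hx2i, hζy, one_smul] at h1
  have h2 : (ν' - ν) • y0 + ν' • w i0 ∈ U := by
    have := add_mem h1 (U.smul_mem (ν' * ζ (x2i y0)) (Submodule.subset_span ⟨i0, rfl⟩))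
    convert this using 1
    module
  have hζU : ∀ t ∈ U, ζ t = 0 := fun t ht => by
    have : U ≤ LinearMap.ker ζ := Submodule.span_le.2 (by rintro _ ⟨i, rfl⟩; exact hζu i)
    exact this ht
  have h3 := hζU _ h2
  rw [map_add, map_smul, map_smul, hζy, hζw, smul_eq_mul, mul_one, smul_zero, add_zero, sub_eq_zero] at h3
  subst h3
  rw [sub_self, zero_smul, zero_add] at h2
  by_cases hν0 : ν' = 0
  · refine hy0 ?_
    have := mod (memh hhA') hyw hgh' hν' (gi (x1 y0))
    rw [hν0, zero_smul, sub_zero, hgi] at this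
    exact Submodule.span_mono (by rintro _ ⟨i, rfl⟩; exact ⟨Sum.inr i, rfl⟩) (hUZ _ this)
  · have hwU : w i0 ∈ U := (Submodule.smul_mem_iff _ hν0).1 h2
    exact hwu.notMem_span_image (s := Set.range Sum.inr) (x := Sum.inl i0) (by simp) (by
      rw [← Set.range_comp]; exact hwU)

end CfsgLib.PSLCover
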