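import Cfsg.Agent.Lib.PSLCover.KY
import Mathlib.Algebra.Field.ZMod
import Mathlib.Algebra.CharP.Basic

/-! Three exceptional pairs over the field with five elements. -/

set_option autoImplicit false
set_option linter.unusedSectionVars false

namespace CfsgLib.PSLCover

instance : Fact (Nat.Prime 5) := ⟨by norm_num⟩

open Module LinearMap
open scoped Matrix

universe u v

/-- A certificate: a conjugate by `H` whose product with `X` is triangular in the basis `P`. -/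
structure Cert5 where
  X : Matrix (Fin 4) (Fin 4) (ZMod 5)
  H : Matrix (Fin 4) (Fin 4) (ZMod 5)
  Hi : Matrix (Fin 4) (Fin 4) (ZMod 5)
  P : Matrix (Fin 4) (Fin 4) (ZMod 5)
  Pi : Matrix (Fin 4) (Fin 4) (ZMod 5)
  c : ZMod 5

/-- The triangular target. -/
def Cert5.U (C : Cert5) : Matrix (Fin 4) (Fin 4) (ZMod 5) :=
  !![2 * C.c, 0, 0, 0; 0, 3 * C.c, 0, 0; 0, 0, C.c, 1; 0, 0, 0, C.c]

/-- Validity. -/
def Cert5.Valid (C : Cert5) : Prop :=
  C.c ≠ 0 ∧ C.H * C.Hi = 1 ∧ C.Hi * C.H = 1 ∧ C.H.det = 1 ∧ C.P * C.Pi = 1 ∧ C.Pi * C.P = 1 ∧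
    C.X * (C.H * C.X * C.Hi) * C.P = C.P * C.U

variable {K : Type u} [Field K] {V : Type v} [AddCommGroup V] [Module K V] [FiniteDimensional K V]

theorem regL_of_toMatrix {c : K} (hf : c ≠ 0) (h21 : (2 : K) ≠ 1) (h31 : (3 : K) ≠ 1) (h32 : (3 : K) ≠ 2)
    (B : Basis (Fin 4) K V) {T : Module.End K V} {U : Matrix (Fin 4) (Fin 4) K}
    (hU : U = !![c * 2, 0, 0, 0; 0, c * 3, 0, 0; 0, 0, c, 1; 0, 0, 0, c]) (hT : LinearMap.toMatrix B B T = U) :
    RegL T [c * 2, c * 3, c, c] := by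
  have hcol : ∀ j : Fin 4, T (B j) = ∑ k, U k j • B k := fun j => by
    conv_lhs => rw [← B.sum_repr (T (B j))]
    refine Finset.sum_congr rfl fun k _ => ?_
    rw [← hT, LinearMap.toMatrix_apply]
  subst hU
  have t0 : T (B 0) = (c * 2) • B 0 := by simp [hcol, Fin.sum_univ_four]
  have t1 : T (B 1) = (c * 3) • B 1 := by simp [hcol, Fin.sum_univ_four]
  have t2 : T (B 2) = c • B 2 := by simp [hcol, Fin.sum_univ_four]
  have t3 : T (B 3) = c • B 3 + B 2 := by simp [hcol, Fin.sum_univ_four, add_comm]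
  have n1 : c * 2 ≠ c := fun e => h21 (mul_left_cancel₀ hf (by linear_combination e))
  have n2 : c * 3 ≠ c := fun e => h31 (mul_left_cancel₀ hf (by linear_combination e))
  have n3 : c * 2 ≠ c * 3 := fun e => h32 (mul_left_cancel₀ hf (by linear_combination -e))
  have key := regL_triangular (T := T) (fun i => if i = 0 then B 0 else if i = 1 then B 1 else if i = 2 then B 2 else B 3)
    (fun i => if i = 0 then c * 2 else if i = 1 then c * 3 else c) (n := 4)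
    (by rw [Module.finrank_eq_card_basis B, Fintype.card_fin]) ?_ ?_ ?_
  · simpa [List.range_succ] using key
  · rw [eq_top_iff, ← B.span_eq, Submodule.span_le]
    rintro _ ⟨i, rfl⟩
    exact Submodule.subset_span ⟨i, i.2, by fin_cases i <;> simp⟩
  · intro i hi
    interval_cases i <;> simp [t0, t1, t2, t3]
    exact Submodule.subset_span ⟨2, by simp, by simp⟩
  · intro i hi
    obtain rfl | rfl | rfl : i = 0 ∨ i = 1 ∨ i = 2 := by omega
    · refine Or.inl fun j hj => ?_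
      obtain rfl : j = 0 := by omega
      simpa using n3
    · refine Or.inl fun j hj => ?_
      interval_cases j
      · simpa using n1
      · simpa using n2
    · exact Or.inr ⟨by simp, by simp [t3]⟩

theorem cert5_pair (h5 : (5 : K) = 0) (C : Cert5) (hC : C.Valid) (f : ZMod 5 →+* K) (B : Basis (Fin 4) K V)
    {x : Module.End K V} (hx : LinearMap.toMatrix B B x = C.X.map f) :
    ∃ y : Module.End K V, ConjIn ({1} : Set K) x y ∧ RegL (x * y) [f C.c * 2, f C.c * 3, f C.c, f C.c] := by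
  obtain ⟨hc, hH, hH', hHd, hP, hP', hTP⟩ := hC
  have mm : ∀ A A' : Matrix (Fin 4) (Fin 4) (ZMod 5), A.map f * A'.map f = (A * A').map f := fun A A' =>
    (Matrix.map_mul).symm
  have one : (1 : Matrix (Fin 4) (Fin 4) (ZMod 5)).map f = 1 := Matrix.map_one f f.map_zero f.map_one
  have mk : ∀ A A' : Matrix (Fin 4) (Fin 4) (ZMod 5), A * A' = 1 → A' * A = 1 →
      ∃ e : V ≃ₗ[K] V, LinearMap.toMatrix B B (e : V →ₗ[K] V) = A.map f ∧
        LinearMap.toMatrix B B (e.symm : V →ₗ[K] V) = A'.map f := fun A A' h h' => by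
    refine ⟨LinearEquiv.ofLinear (Matrix.toLin B B (A.map f)) (Matrix.toLin B B (A'.map f))
      (by rw [← Matrix.toLin_mul, mm, h, one, Matrix.toLin_one]) (by rw [← Matrix.toLin_mul, mm, h', one, Matrix.toLin_one]),
      ?_, ?_⟩ <;> simp [LinearEquiv.ofLinear]
  obtain ⟨h, hh, hh'⟩ := mk C.H C.Hi hH hH'
  obtain ⟨p, hp, hp'⟩ := mk C.P C.Pi hP hP'
  refine ⟨h.conj x, ⟨h, ?_, fun v => by simp [LinearEquiv.conj_apply]⟩, ?_⟩
  · rw [Set.mem_singleton_iff, ← LinearMap.det_toMatrix B, hh, show C.H.map f = f.mapMatrix C.H from rfl, ← RingHom.map_det, hHd, map_one]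
  have hf : f C.c ≠ 0 := fun e => hc (f.injective (e.trans f.map_zero.symm))
  have h21 : (2 : K) ≠ 1 := fun e => one_ne_zero (by linear_combination e)
  have h32 : (3 : K) ≠ 2 := fun e => one_ne_zero (by linear_combination e)
  have h31 : (3 : K) ≠ 1 := fun e => one_ne_zero (by linear_combination (-2 : K) * e + h5)
  have conjm : ∀ (e : V ≃ₗ[K] V) (T : Module.End K V), LinearMap.toMatrix B B (e.conj T) =
      LinearMap.toMatrix B B (e : V →ₗ[K] V) * LinearMap.toMatrix B B T * LinearMap.toMatrix B B (e.symm : V →ₗ[K] V) :=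
    fun e T => by
      rw [← LinearMap.toMatrix_mul, ← LinearMap.toMatrix_mul]
      congr 1
  have hT : LinearMap.toMatrix B B (p.symm.conj (x * h.conj x)) = C.U.map f := by
    rw [conjm, LinearMap.toMatrix_mul, conjm, LinearEquiv.symm_symm, hx, hp, hp', hh, hh', mm, mm, mm, mm, mm]
    have e0 : C.Pi * (C.X * (C.H * C.X * C.Hi)) * C.P = C.U := by rw [mul_assoc, hTP, ← mul_assoc, hP', one_mul]
    rw [e0]
  have := (regL_of_toMatrix hf h21 h31 h32 B (T := p.symm.conj (x * h.conj x)) (U := C.U.map f)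
    (by ext i j; fin_cases i <;> fin_cases j <;> simp [Cert5.U, mul_comm, map_ofNat]) hT).conj p
  have e : p.conj (p.symm.conj (x * h.conj x)) = x * h.conj x := LinearMap.ext fun v => by
    simp [LinearEquiv.conj_apply]
  rwa [e] at this

/-- `X ^ 2 - X + 1`. -/
def cert11 : Cert5 where
  X := !![0, 0, 0, 4; 1, 0, 0, 2; 0, 1, 0, 2; 0, 0, 1, 2]
  H := !![3, 3, 2, 4; 4, 3, 3, 1; 2, 1, 4, 2; 3, 2, 2, 4]
  Hi := !![0, 3, 0, 3; 1, 0, 0, 4; 0, 2, 2, 1; 2, 3, 4, 3]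
  P := !![1, 1, 2, 0; 1, 2, 0, 1; 4, 0, 3, 2; 3, 2, 3, 0]
  Pi := !![1, 4, 3, 3; 4, 3, 1, 3; 3, 4, 3, 2; 1, 1, 0, 1]
  c := 4

/-- `X ^ 2 - X + 2`. -/
def cert12 : Cert5 where
  X := !![0, 0, 0, 1; 1, 0, 0, 4; 0, 1, 0, 0; 0, 0, 1, 2]
  H := !![0, 0, 0, 1; 1, 2, 2, 4; 1, 4, 0, 4; 1, 3, 3, 4]
  Hi := !![1, 3, 0, 3; 0, 3, 4, 3; 0, 1, 1, 3; 1, 0, 0, 0]
  P := !![1, 0, 0, 1; 1, 1, 4, 0; 3, 3, 2, 3; 4, 4, 4, 2]
  Pi := !![1, 1, 3, 0; 4, 1, 4, 2; 0, 1, 2, 2; 0, 4, 2, 0]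
  c := 2

/-- `X ^ 2 + 2`. -/
def cert02 : Cert5 where
  X := !![0, 0, 0, 1; 1, 0, 0, 0; 0, 1, 0, 1; 0, 0, 1, 0]
  H := !![4, 1, 2, 4; 4, 1, 3, 4; 1, 0, 4, 3; 3, 2, 4, 4]
  Hi := !![0, 1, 1, 2; 1, 4, 1, 3; 4, 1, 0, 0; 3, 0, 0, 1]
  P := !![1, 1, 1, 0; 4, 0, 2, 1; 2, 2, 2, 1; 0, 2, 2, 1]
  Pi := !![0, 0, 3, 2; 0, 2, 1, 2; 1, 3, 1, 1; 3, 0, 1, 0]
  c := 3

set_option maxRecDepth 20000 in
theorem cert11_valid : cert11.Valid := by unfold Cert5.Valid Cert5.U cert11; decide +kernel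

set_option maxRecDepth 20000 in
theorem cert12_valid : cert12.Valid := by unfold Cert5.Valid Cert5.U cert12; decide +kernel

set_option maxRecDepth 20000 in
theorem cert02_valid : cert02.Valid := by unfold Cert5.Valid Cert5.U cert02; decide +kernel

end CfsgLib.PSLCover
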