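import Cfsg.Agent.Lib.PSLCover.QuadFour
import Cfsg.Agent.Lib.PSLCover.PairCert

/-! Dimension four without eigenvalues. -/

set_option autoImplicit false
set_option linter.unusedSectionVars false

namespace CfsgLib.PSLCover

open Module LinearMap Polynomial
open CfsgLib.SLCommutator (Cyc)

universe u v

variable {K : Type u} [Field K] {V : Type v} [AddCommGroup V] [Module K V] [FiniteDimensional K V]

theorem norm_surj [Finite K] {τ δ : K} (hf : ∀ r : K, r * r - τ * r + δ ≠ 0) (ρ : K) :
    ∃ a b : K, a * a + τ * a * b + δ * b * b = ρ := by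
  haveI := Fintype.ofFinite K
  by_cases h2 : (2 : K) = 0
  · have hc : ringChar K = 2 := by
      haveI : CharP K 2 := (CharP.charP_iff_prime_eq_zero Nat.prime_two).2 (by exact_mod_cast h2)
      exact ringChar.eq K 2
    obtain ⟨a, ha⟩ := FiniteField.isSquare_of_char_two hc ρ
    exact ⟨a, 0, by rw [ha]; ring⟩
  have hD : δ - τ * τ / 4 ≠ 0 := fun h => hf (τ / 2) (by
    have h4 : (4 : K) ≠ 0 := by rw [show (4 : K) = 2 * 2 by norm_num]; exact mul_ne_zero h2 h2
    field_simp at h ⊢
    linear_combination h)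
  have hq : Fintype.card K % 2 = 1 := FiniteField.odd_card_of_char_ne_two fun e => h2 (by
    haveI : CharP K 2 := ringChar.of_eq e
    exact CharP.cast_eq_zero K 2)
  obtain ⟨u, b, hub⟩ := FiniteField.exists_root_sum_quadratic (f := X ^ 2 - C ρ) (g := C (δ - τ * τ / 4) * X ^ 2)
    (by compute_degree!) (degree_C_mul_X_pow 2 hD) hq
  simp only [eval_sub, eval_pow, eval_X, eval_C, eval_mul] at hub
  refine ⟨u - τ * b / 2, b, ?_⟩
  have h4 : (4 : K) ≠ 0 := by rw [show (4 : K) = 2 * 2 by norm_num]; exact mul_ne_zero h2 h2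
  field_simp at hub ⊢
  linear_combination hub

/-- Companion of `(X ^ 2 - τ X + δ) ^ 2`. -/
def comp4 {R : Type*} [CommRing R] (τ δ : R) : Matrix (Fin 4) (Fin 4) R :=
  !![0, 0, 0, -(δ * δ); 1, 0, 0, 2 * τ * δ; 0, 1, 0, -(τ * τ + 2 * δ); 0, 0, 1, 2 * τ]

theorem comp4_map {R S : Type*} [CommRing R] [CommRing S] (f : R →+* S) (τ δ : R) :
    (comp4 τ δ).map f = comp4 (f τ) (f δ) := by
  ext i j; fin_cases i <;> fin_cases j <;> simp [comp4, map_ofNat]

theorem comp_basis (hn : finrank K V = 4) {x : Module.End K V} {v : V} (hv : Cyc x v) {τ δ : K}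
    (hx : ∀ p, x (x (x (x p))) = (2 * τ) • x (x (x p)) - (τ * τ + 2 * δ) • x (x p) + (2 * τ * δ) • x p - (δ * δ) • p) :
    ∃ B : Basis (Fin 4) K V, LinearMap.toMatrix B B x = comp4 τ δ := by
  let P : Fin 4 → V := ![v, x v, x (x v), x (x (x v))]
  set S := Submodule.span K (Set.range P) with hS
  have m : ∀ i, P i ∈ S := fun i => Submodule.subset_span ⟨i, rfl⟩
  have hinv : ∀ p ∈ S, x p ∈ S := by
    intro p hp
    induction hp using Submodule.span_induction with
    | mem p hp =>
      obtain ⟨i, rfl⟩ := hp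
      fin_cases i
      · exact m 1
      · exact m 2
      · exact m 3
      · show x (x (x (x v))) ∈ S
        rw [hx]
        exact S.sub_mem (S.add_mem (S.sub_mem (S.smul_mem _ (m 3)) (S.smul_mem _ (m 2))) (S.smul_mem _ (m 1)))
          (S.smul_mem _ (m 0))
    | zero => simp
    | add p q _ _ hp hq => rw [map_add]; exact add_mem hp hq
    | smul a p _ hp => rw [map_smul]; exact S.smul_mem a hp
  have htop : ⊤ ≤ S := (hv S hinv (m 0)).ge
  let B := basisOfTopLeSpanOfCardEqFinrank P htop (by simpa using hn.symm)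
  have hB : ∀ i, B i = P i := fun i => by simp [B]
  refine ⟨B, ?_⟩
  have c0 : x (B 0) = B 1 := by simp [hB, P]
  have c1 : x (B 1) = B 2 := by simp [hB, P]
  have c2 : x (B 2) = B 3 := by simp [hB, P]
  have c3 : x (B 3) = (2 * τ) • B 3 - (τ * τ + 2 * δ) • B 2 + (2 * τ * δ) • B 1 - (δ * δ) • B 0 := by
    simp [hB, P, hx]
  ext i j
  rw [LinearMap.toMatrix_apply]
  fin_cases j <;> simp [c0, c1, c2, c3, comp4, B.repr_self] <;> fin_cases i <;>
    simp [Finsupp.single_apply]

theorem det_affine (hn : finrank K V = 4) {x : Module.End K V} {B : Basis (Fin 4) K V} {τ δ : K}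
    (hB : LinearMap.toMatrix B B x = comp4 τ δ) (a b : K) :
    LinearMap.det (a • 1 + b • x) = (a * a + τ * a * b + δ * b * b) * (a * a + τ * a * b + δ * b * b) := by
  rw [← LinearMap.det_toMatrix B, map_add, map_smul, map_smul, LinearMap.toMatrix_one, hB, Matrix.det_succ_row_zero]
  simp [comp4, Fin.sum_univ_succ, Matrix.det_fin_three, Fin.succAbove, Matrix.one_apply]
  ring

/-- Cyclic with a squared irreducible quadratic: a pair within determinant one. -/
theorem sl_pair [Finite K] (h4 : ∃ k : Fin 4 → K, Function.Injective k) (hn : finrank K V = 4) {x : Module.End K V}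
    {v : V} (hv : Cyc x v) {τ δ : K} (hf : ∀ r : K, r * r - τ * r + δ ≠ 0)
    (hx : ∀ p, x (x (x (x p))) = (2 * τ) • x (x (x p)) - (τ * τ + 2 * δ) • x (x p) + (2 * τ * δ) • x p - (δ * δ) • p) :
    ∃ (y : Module.End K V) (l : List K), ConjIn ({1} : Set K) x y ∧ RegL (x * y) l ∧ Cover V l ∧
      l.prod = LinearMap.det x * LinearMap.det x ∧ FullDet (x * y) := by
  obtain ⟨B, hB⟩ := comp_basis hn hv hx
  have hdet : LinearMap.det x = δ * δ := by
    have := det_affine hn hB 0 1
    simpa using this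
  have hδ : δ ≠ 0 := fun e => hf 0 (by rw [e]; ring)
  have hdx : LinearMap.det x ≠ 0 := hdet ▸ mul_ne_zero hδ hδ
  by_cases hd : LinearMap.det x * LinearMap.det x = 1
  swap
  · obtain ⟨y, l, -, hr, hcov, hl, hT, hsl⟩ := cyclic_pair_one h4 hv hdx (j := 3) hn le_rfl hd
    exact ⟨y, l, hsl rfl, hr, hcov, hl, hT⟩
  by_cases ht : ∃ t : K, t ≠ 0 ∧ t * t * (t * t) ≠ 1
  · obtain ⟨t, ht0, ht4⟩ := ht
    have hη0 : t * t ≠ 0 := mul_ne_zero ht0 ht0
    obtain ⟨y, g, hg, hr, hcov, hT, hgd⟩ := cyclic_pair_eta h4 hv (j := 2) hn le_rfl hd hη0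
      (fun e => ht4 (by rw [e, one_mul])) ht4
    obtain ⟨a, b, hab⟩ := norm_surj hf t⁻¹
    have hcd : LinearMap.det (a • 1 + b • x) = (t * t)⁻¹ := by rw [det_affine hn hB, hab, mul_inv]
    obtain ⟨c, hc⟩ := (LinearMap.isUnit_iff_isUnit_det (a • 1 + b • x)).2
      (isUnit_iff_ne_zero.2 (by rw [hcd]; exact inv_ne_zero hη0))
    let ce : V ≃ₗ[K] V := LinearMap.GeneralLinearGroup.toLinearEquiv c
    have hce : ∀ p, ce p = a • p + b • x p := fun p => by
      show (c : Module.End K V) p = _
      rw [hc]; rfl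
    refine ⟨y, _, ⟨ce ≪≫ₗ g, ?_, fun p => ?_⟩, hr, hcov, ?_, hT⟩
    · rw [Set.mem_singleton_iff,
        show ((ce ≪≫ₗ g : V ≃ₗ[K] V) : V →ₗ[K] V) = (g : V →ₗ[K] V) * (ce : V →ₗ[K] V) from rfl, map_mul, hgd rfl,
        show (ce : V →ₗ[K] V) = a • 1 + b • x from LinearMap.ext fun p => by simp [hce], hcd,
        mul_inv_cancel₀ hη0]
    · simp [LinearEquiv.trans_apply, hg, hce]
    · rw [hd]; simp [List.replicate]; field_simp
  -- five elements
  push Not at ht
  haveI := Fintype.ofFinite K
  classical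
  have hcard : Fintype.card K = 5 := by
    have hle : Fintype.card K ≤ 5 := by
      have hp : (X ^ 5 - X : K[X]) ≠ 0 := FiniteField.X_pow_card_sub_X_ne_zero K (by norm_num)
      have h1 := Polynomial.card_le_degree_of_subset_roots (p := (X ^ 5 - X : K[X])) (Z := Finset.univ) (fun r _ => by
        rw [mem_roots hp, IsRoot, eval_sub, eval_pow, eval_X]
        rcases eq_or_ne r 0 with rfl | hr
        · simp
        · linear_combination r * ht r hr)
      rwa [Finset.card_univ, show (X ^ 5 - X : K[X]).natDegree = 5 by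
        rw [FiniteField.X_pow_card_sub_X_natDegree_eq K (by norm_num)]] at h1
    obtain ⟨k, hk⟩ := h4
    have := Fintype.card_le_of_injective k hk
    rw [Fintype.card_fin] at this
    by_contra hne
    have hc4 : Fintype.card K = 4 := by omega
    have : ∀ r : K, r ≠ 0 → r = 1 := fun r hr => by
      have h1 := FiniteField.pow_card_sub_one_eq_one r hr
      rw [hc4, show (4 - 1 : ℕ) = 3 from rfl] at h1
      linear_combination ht r hr - r * h1
    have h2 : ∀ i, k i = 0 ∨ k i = 1 := fun i => (eq_or_ne (k i) 0).imp id (this _)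
    rcases h2 0 with a | a <;> rcases h2 1 with b | b <;> rcases h2 2 with c | c
    all_goals first
      | exact absurd (hk (a.trans b.symm)) (by decide)
      | exact absurd (hk (a.trans c.symm)) (by decide)
      | exact absurd (hk (b.trans c.symm)) (by decide)
  have h5 : (5 : K) = 0 := by
    have := FiniteField.cast_card_eq_zero K
    rw [hcard] at this
    exact_mod_cast this
  haveI : CharP K 5 := (CharP.charP_iff_prime_eq_zero (by norm_num)).2 (by exact_mod_cast h5)
  let f : ZMod 5 →+* K := ZMod.castHom dvd_rfl K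
  have hfs : Function.Surjective f :=
    ((Fintype.bijective_iff_injective_and_card f).2 ⟨f.injective, by rw [hcard, ZMod.card]⟩).2
  obtain ⟨τ0, rfl⟩ := hfs τ
  obtain ⟨δ0, rfl⟩ := hfs δ
  have hdec : ∀ τ δ : ZMod 5, (∀ r : ZMod 5, r * r - τ * r + δ ≠ 0) → ∃ c : ZMod 5, c ≠ 0 ∧
      (c * τ, c * c * δ) ∈ ([(1, 1), (1, 2), (0, 2)] : List (ZMod 5 × ZMod 5)) := by decide +kernel
  obtain ⟨c, hc0, hc⟩ := hdec τ0 δ0 fun r h => hf (f r) (by rw [← map_mul, ← map_mul, ← map_sub, ← map_add, h, map_zero])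
  obtain ⟨C, hC, hCX⟩ : ∃ C : Cert5, C.Valid ∧ C.X = comp4 (c * τ0) (c * c * δ0) := by
    simp only [List.mem_cons, Prod.mk.injEq, List.not_mem_nil, or_false] at hc
    rcases hc with ⟨a, b⟩ | ⟨a, b⟩ | ⟨a, b⟩ <;> rw [a, b]
    · exact ⟨cert11, cert11_valid, by decide +kernel⟩
    · exact ⟨cert12, cert12_valid, by decide +kernel⟩
    · exact ⟨cert02, cert02_valid, by decide +kernel⟩
  have hfc : f c ≠ 0 := fun e => hc0 (f.injective (e.trans f.map_zero.symm))
  obtain ⟨B', hB'⟩ := comp_basis hn (x := f c • x) (v := v) (τ := f c * f τ0) (δ := f c * f c * f δ0)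
    (fun p hp hvp => hv p (fun w hw => (p.smul_mem_iff hfc).1 (hp w hw)) hvp)
    (fun p => by simp only [LinearMap.smul_apply, map_smul, hx]; module)
  obtain ⟨y', hy', hr⟩ := cert5_pair h5 C hC f B' (x := f c • x) (by rw [hB', hCX, comp4_map, map_mul, map_mul, map_mul])
  obtain ⟨e, he, hye⟩ := hy'
  have hy : ConjIn ({1} : Set K) x ((f c)⁻¹ • y') := ⟨e, he, fun p => by
    rw [LinearMap.smul_apply, hye, LinearMap.smul_apply, map_smul, smul_smul, inv_mul_cancel₀ hfc, one_smul]⟩
  obtain ⟨k, hk⟩ : ∃ k, k = (f c)⁻¹ * (f c)⁻¹ := ⟨_, rfl⟩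
  have hk0 : k ≠ 0 := hk ▸ mul_ne_zero (inv_ne_zero hfc) (inv_ne_zero hfc)
  have hxy : x * ((f c)⁻¹ • y') = k • ((f c • x) * y') := by
    rw [hk, smul_mul_assoc, mul_smul_comm, smul_smul]
    congr 1
    field_simp
  have hC0 : f C.c ≠ 0 := fun e => hC.1 (f.injective (e.trans f.map_zero.symm))
  obtain ⟨c0, hc0'⟩ : ∃ c0, c0 = k * f C.c := ⟨_, rfl⟩
  have hc00 : c0 ≠ 0 := hc0' ▸ mul_ne_zero hk0 hC0
  have h20 : (2 : K) ≠ 0 := fun e => one_ne_zero (show (1 : K) = 0 by linear_combination h5 - (2 : K) * e)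
  have h21 : (2 : K) ≠ 1 := fun e => one_ne_zero (show (1 : K) = 0 by linear_combination e)
  have h221 : (2 : K) * 2 ≠ 1 := fun e => one_ne_zero (show (1 : K) = 0 by linear_combination (2 : K) * e - h5)
  have h3 : (2 : K)⁻¹ = 3 := inv_eq_of_mul_eq_one_right (by linear_combination h5)
  have hr' : RegL (x * ((f c)⁻¹ • y')) [c0 * 2, c0 * 3, c0, c0] := by
    rw [hxy, hc0']
    simpa [mul_assoc] using hr.smul hk0
  refine ⟨_, _, hy, hr', ?_, ?_, hr'.fullDet (List.Perm.refl _) ?_⟩
  · have := cover_eta (V := V) h4 (j := 2) (by omega) hn hc00 h20 h21 h221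
    rw [h3] at this
    exact this
  · rw [hd]
    simp only [List.prod_cons, List.prod_nil]
    linear_combination ht c0 hc00 + (c0 * c0 * (c0 * c0)) * h5
  · have h31 : (3 : K) ≠ 2 := fun e => one_ne_zero (show (1 : K) = 0 by linear_combination e)
    simp [hc00, h21, Ne.symm h31]

/-- Dimension four. -/
theorem good_four [Finite K] (h4 : ∃ k : Fin 4 → K, Function.Injective k) (hn : finrank K V = 4) {x g : Module.End K V}
    (hdx : LinearMap.det x ≠ 0) (hno : ∀ (a : K) (v : V), x v = a • v → v = 0) (hg : ∀ s : K, g ≠ s • 1)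
    (hdet : LinearMap.det g = LinearMap.det x ^ 4) : Good ({1} : Set K) Set.univ x g 4 := by
  haveI : Nontrivial V := Module.nontrivial_of_finrank_pos (R := K) (by omega)
  have pair_case : ∀ v, Cyc x v → FullDet x → Good ({1} : Set K) Set.univ x g 4 := by
    intro v hv hF
    refine Good.of_full hF (H := Set.univ) ?_
    by_cases hd : LinearMap.det x * LinearMap.det x = 1
    · obtain ⟨η, hη0, hη⟩ := exists_ne_four h4 (1 : K)
      obtain ⟨y, e, he, hr, hcov, -, -⟩ := cyclic_pair_eta h4 hv (j := 2) hn le_rfl hd hη0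
        (fun h => hη (by rw [h, one_mul])) hη
      exact (pair_cover closed_univ (H := Set.univ) (y := y) ⟨e, trivial, he⟩ hr hcov
        (by rw [hd]; simp [hη0]) (Or.inl rfl) hdet hg).2 hno
    · obtain ⟨y, l, hy, hr, hcov, hl, -, -⟩ := cyclic_pair_one h4 hv hdx (j := 3) hn le_rfl hd
      exact (pair_cover closed_univ hy hr hcov hl (Or.inl rfl) hdet hg).2 hno
  by_cases hirr : ∀ W : Submodule K V, (∀ w ∈ W, x w ∈ W) → W = ⊥ ∨ W = ⊤
  · obtain ⟨v, hv⟩ := cyc_of_irr hirr
    exact pair_case v hv (fullDet_of_irr hirr)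
  push Not at hirr
  obtain ⟨W, hW, hW0, hW1⟩ := hirr
  have hdim : finrank K W = 2 ∧ finrank K (V ⧸ W) = 2 := by
    have h0 : finrank K W ≠ 0 := fun h => hW0 (Submodule.finrank_eq_zero.1 h)
    have h1 : finrank K W ≠ 4 := fun h => hW1 (Submodule.eq_top_of_finrank_eq (h.trans hn.symm))
    have hsum := Submodule.finrank_quotient_add_finrank W
    have := Submodule.finrank_le W
    suffices finrank K W ≠ 1 ∧ finrank K W ≠ 3 by omega
    refine ⟨fun h => ?_, fun h => ?_⟩
    · obtain ⟨w, hw, hw0⟩ := Submodule.exists_mem_ne_zero_of_ne_bot hW0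
      obtain ⟨a, ha⟩ := Submodule.mem_span_singleton.1 (show x w ∈ Submodule.span K {w} by
        rw [Submodule.eq_of_le_of_finrank_eq (Submodule.span_le.2 (Set.singleton_subset_iff.2 hw))
          (by rw [finrank_span_singleton hw0, h])]
        exact hW w hw)
      exact hw0 (hno a w ha.symm)
    · obtain ⟨p, hp⟩ : ∃ p, p ∉ W := by
        by_contra h'; push Not at h'; exact hW1 (Submodule.eq_top_iff'.2 h')
      have htop : Submodule.span K {p} ⊔ W = ⊤ := by
        refine Submodule.eq_top_of_finrank_eq ?_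
        have h2 := Submodule.finrank_lt_finrank_of_lt (show W < Submodule.span K {p} ⊔ W from
          lt_of_le_of_ne le_sup_right fun e => hp (e ▸ Submodule.mem_sup_left (Submodule.mem_span_singleton_self p)))
        have := Submodule.finrank_le (Submodule.span K {p} ⊔ W)
        omega
      obtain ⟨y, hy, w, hw, hyw⟩ := Submodule.mem_sup.1 (htop ▸ Submodule.mem_top : x p ∈ Submodule.span K {p} ⊔ W)
      obtain ⟨a, rfl⟩ := Submodule.mem_span_singleton.1 hy
      have hinj : Function.Injective (x - a • 1 : Module.End K V) := (injective_iff_map_eq_zero _).2 fun z hz =>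
        hno a z (RegUnipProd.mem_eigKer.1 (LinearMap.mem_ker.2 hz))
      have hmap : W.map (x - a • 1 : Module.End K V) = W := by
        refine Submodule.eq_of_le_of_finrank_eq ?_ (Submodule.equivMapOfInjective _ hinj W).finrank_eq.symm
        rintro _ ⟨z, hz, rfl⟩
        rw [RegUnipProd.sub_smul_one_apply]
        exact W.sub_mem (hW z hz) (W.smul_mem a hz)
      obtain ⟨z, hz, hzw⟩ : w ∈ W.map (x - a • 1 : Module.End K V) := hmap.symm ▸ hw
      exact hp (by
        rw [show p = z from hinj (by rw [hzw, RegUnipProd.sub_smul_one_apply, ← hyw]; abel)]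
        exact hz)
  have quad : ∀ {U : Type v} [AddCommGroup U] [Module K U] [FiniteDimensional K U] (A : Module.End K U),
      finrank K U = 2 → ∃ τ δ : K, ∀ u, A (A u) = τ • A u - δ • u := by
    intro U _ _ _ A hU
    have h := LinearMap.aeval_self_charpoly A
    have hd := LinearMap.charpoly_natDegree A
    have hm := (LinearMap.charpoly_monic A).coeff_natDegree
    rw [hd, hU] at hm
    rw [aeval_eq_sum_range' (n := 3) (by omega)] at h
    refine ⟨-(LinearMap.charpoly A).coeff 1, (LinearMap.charpoly A).coeff 0, fun u => ?_⟩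
    have h' := LinearMap.congr_fun h u
    simp [Finset.sum_range_succ, hm, pow_two] at h'
    linear_combination (norm := module) h'
  obtain ⟨τ, δ, hA⟩ := quad (x.restrict hW) hdim.1
  obtain ⟨τ', δ', hQ⟩ := quad (W.mapQ W x hW) hdim.2
  have hmem : ∀ p, x (x p) - τ' • x p + δ' • p ∈ W := fun p => by
    have := hQ (Submodule.Quotient.mk p)
    rw [Submodule.mapQ_apply, Submodule.mapQ_apply] at this
    rw [← Submodule.Quotient.mk_eq_zero]
    simp only [Submodule.Quotient.mk_add, Submodule.Quotient.mk_sub, Submodule.Quotient.mk_smul, this]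
    module
  have hAW : ∀ w ∈ W, x (x w) = τ • x w - δ • w := fun w hw => congrArg Subtype.val (hA ⟨w, hw⟩)
  have hprod : ∀ p, x (x (x (x p) - τ' • x p + δ' • p)) - τ • x (x (x p) - τ' • x p + δ' • p) +
      δ • (x (x p) - τ' • x p + δ' • p) = 0 := fun p => by rw [hAW _ (hmem p)]; module
  have hroot : ∀ r : K, r * r - τ * r + δ ≠ 0 := by
    haveI : Nontrivial W := Module.nontrivial_of_finrank_pos (R := K) (by omega)
    refine quad_noroot hA fun a w hw => Subtype.ext ?_
    exact hno a (w : V) (congrArg Subtype.val hw)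
  have hroot' : ∀ r : K, r * r - τ' * r + δ' ≠ 0 := fun r hr => by
    -- a root would give an eigenvalue
    have hinj : ∀ a : K, Function.Injective (x - a • (1 : Module.End K V) : Module.End K V) := fun a =>
      (injective_iff_map_eq_zero _).2 fun z hz => hno a z (RegUnipProd.mem_eigKer.1 (LinearMap.mem_ker.2 hz))
    obtain ⟨q, hq⟩ : ∃ q, q ∉ W := by
      by_contra h'; push Not at h'; exact hW1 (Submodule.eq_top_iff'.2 h')
    obtain ⟨u, hu⟩ := LinearMap.surjective_of_injective (hinj r) q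
    obtain ⟨w, rfl⟩ := LinearMap.surjective_of_injective (hinj (τ' - r)) u
    refine hq ?_
    rw [← hu]
    simp only [RegUnipProd.sub_smul_one_apply, map_sub, map_smul]
    convert hmem w using 1
    rw [show δ' = τ' * r - r * r by linear_combination hr]
    module
  have hev : ∀ (τ δ : K) (p : V), aeval x (X ^ 2 - C τ * X + C δ : K[X]) p = x (x p) - τ • x p + δ • p := fun τ δ p => by
    simp [Algebra.algebraMap_eq_smul_one, pow_two]
  have irr : ∀ τ δ : K, (∀ r : K, r * r - τ * r + δ ≠ 0) → Irreducible (X ^ 2 - C τ * X + C δ : K[X]) ∧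
      (X ^ 2 - C τ * X + C δ : K[X]).Monic ∧ (X ^ 2 - C τ * X + C δ : K[X]).natDegree = 2 := by
    intro τ δ h
    have hd : (X ^ 2 - C τ * X + C δ : K[X]).natDegree = 2 := by compute_degree!
    have hm : (X ^ 2 - C τ * X + C δ : K[X]).Monic := by monicity!
    refine ⟨?_, hm, hd⟩
    rw [Polynomial.irreducible_iff_roots_eq_zero_of_degree_le_three (by omega) (by omega)]
    refine Multiset.eq_zero_of_forall_notMem fun r hr => h r ?_
    rw [mem_roots hm.ne_zero, IsRoot] at hr
    simp [pow_two] at hr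
    exact hr
  have glue_case : ∀ {τ δ : K}, (∀ p, x (x p) = τ • x p - δ • p) → Good ({1} : Set K) Set.univ x g 4 := by
    intro τ δ hx
    obtain ⟨i, -, -⟩ := irr τ δ (quad_noroot hx hno)
    have hF : FullDet x := fullDet_of_semisimple (Module.End.isSemisimple_of_squarefree_aeval_eq_zero i.squarefree
      (LinearMap.ext fun p => by rw [hev, hx, LinearMap.zero_apply]; module))
    obtain ⟨y, l, hy, hr, hcov, hl⟩ := glue_four h4 hn hx hno
    exact Good.of_full hF ((pair_cover closed_univ hy hr hcov hl (Or.inl rfl) hdet hg).2 hno)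
  by_cases hq1 : ∀ p, x (x p) = τ • x p - δ • p
  · exact glue_case hq1
  by_cases hq2 : ∀ p, x (x p) = τ' • x p - δ' • p
  · exact glue_case hq2
  -- cyclic
  set f1 : K[X] := X ^ 2 - C τ * X + C δ with hf1
  set f2 : K[X] := X ^ 2 - C τ' * X + C δ' with hf2
  have h12 : aeval x (f1 * f2) = 0 := LinearMap.ext fun p => by
    rw [map_mul, Module.End.mul_apply, hev, hev]
    exact hprod p
  obtain ⟨i1, m1, d1⟩ := irr τ δ hroot
  obtain ⟨i2, m2, d2⟩ := irr τ' δ' hroot'
  have hmdvd : minpoly K x ∣ f1 * f2 := minpoly.dvd K x h12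
  have hdeg : (minpoly K x).natDegree = finrank K V := by
    refine le_antisymm (natDegree_minpoly_le x) ?_
    by_contra hlt
    have hne : ∀ f : K[X], f = f1 ∨ f = f2 → ¬ minpoly K x ∣ f := by
      intro f hf hdv
      obtain ⟨c, hc⟩ := hdv
      have h0 : aeval x f = 0 := by rw [hc, map_mul, minpoly.aeval, zero_mul]
      rcases hf with rfl | rfl
      · refine hq1 fun p => ?_
        have := LinearMap.congr_fun h0 p
        rw [hev, LinearMap.zero_apply] at this
        linear_combination (norm := module) this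
      · refine hq2 fun p => ?_
        have := LinearMap.congr_fun h0 p
        rw [hev, LinearMap.zero_apply] at this
        linear_combination (norm := module) this
    obtain ⟨a, b, ha, hb, hab⟩ := exists_dvd_and_dvd_of_dvd_mul hmdvd
    have hunit : ∀ (p f : K[X]), Irreducible f → p ∣ f → IsUnit p ∨ f ∣ p := fun p f hi hp =>
      (hi.dvd_iff.1 hp).imp id fun h => h.dvd
    rcases hunit a f1 i1 ha with hua | hfa
    · exact hne f2 (Or.inr rfl) (hab ▸ (hua.mul_left_dvd).2 hb)
    rcases hunit b f2 i2 hb with hub | hfb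
    · exact hne f1 (Or.inl rfl) (hab ▸ (hub.mul_right_dvd).2 ha)
    have := natDegree_le_of_dvd (show f1 * f2 ∣ minpoly K x from hab ▸ mul_dvd_mul hfa hfb)
      (minpoly.ne_zero (Algebra.IsIntegral.isIntegral x))
    rw [m1.natDegree_mul m2, d1, d2] at this
    omega
  obtain ⟨v, hv⟩ := cyc_of_degree hdeg
  by_cases heq : τ = τ' ∧ δ = δ'
  · obtain ⟨rfl, rfl⟩ := heq
    obtain ⟨y, l, hy, hr, hcov, hl, hT⟩ := sl_pair h4 hn hv hroot (fun p => by
      have := hprod p
      simp only [map_add, map_sub, map_smul] at this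
      linear_combination (norm := module) this)
    exact (pair_cover closed_one hy hr hcov hl (Or.inr hT) hdet hg).2 hno
  refine pair_case v hv (fullDet_of_semisimple (Module.End.isSemisimple_of_squarefree_aeval_eq_zero ?_ h12))
  have hne : f1 ≠ f2 := fun e => heq ⟨by
    have := congrArg (fun q : K[X] => q.coeff 1) e
    simpa [hf1, hf2, coeff_X, coeff_C] using this, by
    have := congrArg (fun q : K[X] => q.coeff 0) e
    simpa [hf1, hf2] using this⟩
  rw [squarefree_mul_iff]
  refine ⟨?_, i1.squarefree, i2.squarefree⟩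
  exact IsCoprime.isRelPrime (i1.coprime_iff_not_dvd.2 fun h =>
    hne (eq_of_monic_of_dvd_of_natDegree_le m1 m2 h (by omega)).symm)

end CfsgLib.PSLCover
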