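import Cfsg.Agent.Lib.PSLCover.Main
import Mathlib.LinearAlgebra.Matrix.ProjectiveSpecialLinearGroup

/-! The covering number of the projective special linear group. -/

set_option autoImplicit false
set_option linter.unusedSectionVars false

namespace CfsgLib.PSLCover

open Matrix Module

universe u

variable {F : Type u} [Field F]

/-- A special linear matrix as an endomorphism. -/
noncomputable def slEnd (n : ℕ) : Matrix.SpecialLinearGroup (Fin n) F →* Module.End F (Fin n → F) where
  toFun A := Matrix.toLinAlgEquiv' (A : Matrix (Fin n) (Fin n) F)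
  map_one' := by simp
  map_mul' A B := by simp

theorem slEnd_injective (n : ℕ) : Function.Injective (slEnd (F := F) n) := fun A B h =>
  Subtype.ext (Matrix.toLinAlgEquiv'.injective h)

theorem slEnd_det {n : ℕ} (A : Matrix.SpecialLinearGroup (Fin n) F) : LinearMap.det (slEnd n A) = 1 := by
  show LinearMap.det (Matrix.toLinAlgEquiv' (A : Matrix (Fin n) (Fin n) F)) = 1
  exact (LinearMap.det_toLin' _).trans A.2

theorem exists_slEnd {n : ℕ} {f : Module.End F (Fin n → F)} (hf : LinearMap.det f = 1) :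
    ∃ A : Matrix.SpecialLinearGroup (Fin n) F, slEnd n A = f :=
  ⟨⟨LinearMap.toMatrix' f, by rw [LinearMap.det_toMatrix']; exact hf⟩, by
    show Matrix.toLinAlgEquiv' (LinearMap.toMatrix' f) = f
    exact Matrix.toLin'_toMatrix' f⟩

theorem slEnd_mem_center {n : ℕ} {A : Matrix.SpecialLinearGroup (Fin n) F} :
    A ∈ Subgroup.center (Matrix.SpecialLinearGroup (Fin n) F) ↔ ∃ s : F, slEnd n A = s • 1 := by
  rw [Matrix.SpecialLinearGroup.mem_center_iff]
  have e : ∀ s : F, Matrix.toLinAlgEquiv' (Matrix.scalar (Fin n) s) = s • 1 := fun s => by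
    rw [show Matrix.scalar (Fin n) s = algebraMap F (Matrix (Fin n) (Fin n) F) s from rfl, AlgEquiv.commutes,
      Algebra.algebraMap_eq_smul_one]
  refine ⟨fun ⟨r, _, hr⟩ => ⟨r, by show Matrix.toLinAlgEquiv' _ = _; rw [← hr]; exact e r⟩, fun ⟨s, hs⟩ => ⟨s, ?_, ?_⟩⟩
  · have := slEnd_det A
    rw [hs, LinearMap.det_smul, map_one, mul_one, Module.finrank_fin_fun] at this
    rw [Fintype.card_fin]; exact this
  · exact Matrix.toLinAlgEquiv'.injective ((e s).trans hs.symm)

/-- Enough conjugates. -/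
theorem psl_cover [Finite F] (h4 : ∃ k : Fin 4 → F, Function.Injective k) {n : ℕ} (hn : 3 ≤ n)
    (x : Matrix.ProjectiveSpecialLinearGroup (Fin n) F) (hx : x ≠ 1)
    (g : Matrix.ProjectiveSpecialLinearGroup (Fin n) F) :
    ∃ f : Fin n → Matrix.ProjectiveSpecialLinearGroup (Fin n) F,
      g = (List.ofFn fun i => f i * x * (f i)⁻¹).prod := by
  obtain ⟨X, rfl⟩ := QuotientGroup.mk'_surjective _ x
  obtain ⟨G, rfl⟩ := QuotientGroup.mk'_surjective _ g
  set π := QuotientGroup.mk' (Subgroup.center (Matrix.SpecialLinearGroup (Fin n) F)) with hπ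
  obtain ⟨lam, hlam, L, hL, hconj, hprod⟩ := prod_all h4 (Module.finrank_fin_fun F (n := n)) hn (slEnd_det X)
    (fun s hs => hx ((QuotientGroup.eq_one_iff X).2 (slEnd_mem_center.2 ⟨s, hs⟩))) (slEnd_det G)
  have key : ∀ i : Fin n, ∃ A : Matrix.SpecialLinearGroup (Fin n) F,
      slEnd n (A * X * A⁻¹) = L[(i : ℕ)]'(hL.symm ▸ i.2) := by
    intro i
    obtain ⟨e, he, hy⟩ := hconj _ (List.getElem_mem (hL.symm ▸ i.2 : (i : ℕ) < L.length))
    obtain ⟨A, hA⟩ := exists_slEnd (f := (e : (Fin n → F) →ₗ[F] Fin n → F)) he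
    refine ⟨A, LinearMap.ext fun v => ?_⟩
    obtain ⟨v, rfl⟩ := e.surjective v
    rw [hy, map_mul, map_mul, hA]
    have hinv : slEnd n A⁻¹ (e v) = v := by
      rw [← LinearEquiv.coe_coe, ← hA, ← Module.End.mul_apply, ← map_mul, inv_mul_cancel, map_one, Module.End.one_apply]
    show e (slEnd n X (slEnd n A⁻¹ (e v))) = _
    rw [hinv]
  choose A hA using key
  refine ⟨fun i => π (A i), ?_⟩
  have e1 : (List.ofFn fun i => π (A i) * π X * (π (A i))⁻¹).prod = π (List.ofFn fun i => A i * X * (A i)⁻¹).prod := by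
    rw [map_list_prod, List.map_ofFn]
    congr
  have e2 : slEnd n (List.ofFn fun i => A i * X * (A i)⁻¹).prod = lam • slEnd n G := by
    rw [map_list_prod, List.map_ofFn, ← hprod]
    congr 1
    refine List.ext_getElem (by simp [hL]) fun i h1 h2 => ?_
    rw [List.getElem_ofFn]
    exact hA ⟨i, _⟩
  rw [e1, hπ, QuotientGroup.mk'_apply, QuotientGroup.mk'_apply, QuotientGroup.eq, slEnd_mem_center]
  refine ⟨lam, ?_⟩
  rw [map_mul, e2, mul_smul_comm, ← map_mul, inv_mul_cancel, map_one]

/-- A companion matrix without eigenvalues. -/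
theorem exists_no_eigen [Finite F] {m : ℕ} (hm : 2 ≤ m) :
    ∃ G : Matrix.SpecialLinearGroup (Fin (m + 1)) F, ∀ (s : F) (v : Fin (m + 1) → F), slEnd _ G v = s • v → v = 0 := by
  classical
  obtain ⟨c, hc⟩ : ∃ c : F, c = (-1) ^ (m + 1) := ⟨_, rfl⟩
  have hc0 : c ≠ 0 := hc ▸ pow_ne_zero _ (neg_ne_zero.2 one_ne_zero)
  haveI := Fintype.ofFinite F
  obtain ⟨t, ht⟩ : ∃ t : F, t ∉ (Finset.univ.erase (0 : F)).image fun r => -(r ^ (m + 1) + c) / r := by
    by_contra h
    push Not at h
    have h1 := (Finset.card_le_card (fun t _ => h t :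
      Finset.univ ⊆ (Finset.univ.erase (0 : F)).image fun r => -(r ^ (m + 1) + c) / r)).trans Finset.card_image_le
    rw [Finset.card_erase_of_mem (Finset.mem_univ _)] at h1
    have : 0 < (Finset.univ : Finset F).card := Finset.card_pos.2 ⟨0, Finset.mem_univ _⟩
    omega
  have hroot : ∀ s : F, s ^ (m + 1) + t * s + c ≠ 0 := fun s h => by
    by_cases hs : s = 0
    · subst hs; simp at h; exact hc0 h
    · exact ht (Finset.mem_image.2 ⟨s, Finset.mem_erase.2 ⟨hs, Finset.mem_univ _⟩, by
        field_simp; linear_combination -h⟩)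
  let M : Matrix (Fin (m + 1)) (Fin (m + 1)) F := fun i j =>
    if j = Fin.last m then (if (i : ℕ) = 0 then -c else if (i : ℕ) = 1 then -t else 0)
    else if (i : ℕ) = j + 1 then 1 else 0
  have hdet : M.det = 1 := by
    rw [Matrix.det_succ_row_zero, Finset.sum_eq_single (Fin.last m)]
    · have e : M.submatrix Fin.succ (Fin.last m).succAbove = 1 := by
        ext i j
        rw [Matrix.submatrix_apply, Fin.succAbove_last, Matrix.one_apply]
        simp only [M, Fin.castSucc_ne_last, if_false, Fin.val_succ, Fin.val_castSucc, Nat.add_right_cancel_iff,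
          Fin.val_inj]
      rw [e, Matrix.det_one, mul_one]
      simp only [M, if_true, Fin.val_zero, Fin.val_last]
      rw [hc, mul_neg, ← pow_add, show m + (m + 1) = 2 * m + 1 by omega, pow_succ, pow_mul, neg_one_sq, one_pow]
      ring
    · intro j _ hj
      simp [M, hj]
    · simp
  refine ⟨⟨M, hdet⟩, fun s v hv => ?_⟩
  have row : ∀ i, (∑ j, M i j * v j) = s * v i := fun i => congrFun hv i
  have sh : ∀ (i : Fin (m + 1)), (∑ j : Fin m, M i j.castSucc * v j.castSucc) =
      if h : 0 < (i : ℕ) then v ⟨i - 1, by omega⟩ else 0 := by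
    intro i
    split_ifs with h
    · rw [Finset.sum_eq_single (⟨i - 1, by omega⟩ : Fin m)]
      · simp only [M, Fin.castSucc_ne_last, if_false, Fin.val_castSucc]
        rw [if_pos (by omega), one_mul]
        rfl
      · intro j _ hj
        simp only [M, Fin.castSucc_ne_last, if_false, Fin.val_castSucc]
        rw [if_neg (fun e => hj (Fin.ext (by simp; omega))), zero_mul]
      · simp
    · refine Finset.sum_eq_zero fun j _ => ?_
      simp only [M, Fin.castSucc_ne_last, if_false, Fin.val_castSucc]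
      rw [if_neg (by omega), zero_mul]
  have row' : ∀ i : Fin (m + 1), (if h : 0 < (i : ℕ) then v ⟨i - 1, by omega⟩ else 0) +
      (if (i : ℕ) = 0 then -c else if (i : ℕ) = 1 then -t else 0) * v (Fin.last m) = s * v i := fun i => by
    rw [← row i, Fin.sum_univ_castSucc, sh i]
    simp [M]
  have hlow : ∀ (k : ℕ) (hk : k + 1 ≤ m), v ⟨m - k, by omega⟩ = s ^ k * v (Fin.last m) := by
    intro k
    induction k with
    | zero => intro _; simp [Fin.last]
    | succ k ih =>
      intro hk
      have h := row' ⟨m - k, by omega⟩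
      rw [dif_pos (show 0 < m - k by omega), if_neg (show m - k ≠ 0 by omega), if_neg (show m - k ≠ 1 by omega),
        zero_mul, add_zero, ih (by omega)] at h
      rw [show (⟨m - (k + 1), _⟩ : Fin (m + 1)) = ⟨m - k - 1, by omega⟩ from Fin.ext (by simp; omega), h, pow_succ']
      ring
  have h0 : v ⟨0, by omega⟩ = (s ^ m + t) * v (Fin.last m) := by
    have h := row' ⟨1, by omega⟩
    have e := hlow (m - 1) (by omega)
    rw [show (⟨m - (m - 1), _⟩ : Fin (m + 1)) = ⟨1, by omega⟩ from Fin.ext (by simp; omega)] at e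
    rw [dif_pos Nat.one_pos, e] at h
    simp at h
    rw [show s ^ m = s * s ^ (m - 1) by rw [← pow_succ', Nat.sub_add_cancel (by omega)],
      show (⟨0, _⟩ : Fin (m + 1)) = 0 from rfl]
    linear_combination h
  have hw : v (Fin.last m) = 0 := by
    have h := row' ⟨0, by omega⟩
    rw [dif_neg (lt_irrefl 0), if_pos rfl, zero_add, h0] at h
    exact (mul_eq_zero.1 (show (s ^ (m + 1) + t * s + c) * v (Fin.last m) = 0 by
      linear_combination -h)).resolve_left (hroot s)
  funext i
  rcases Nat.eq_zero_or_pos i with hi | hi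
  · rw [show i = ⟨0, by omega⟩ from Fin.ext hi, h0, hw, mul_zero]; rfl
  · have := hlow (m - i) (by omega)
    rw [show (⟨m - (m - (i : ℕ)), _⟩ : Fin (m + 1)) = i from Fin.ext (by simp; omega), hw, mul_zero] at this
    exact this

/-- Fewer conjugates do not suffice. -/
theorem psl_not_cover [Finite F] {n : ℕ} (hn : 3 ≤ n) :
    ∃ x : Matrix.ProjectiveSpecialLinearGroup (Fin n) F, x ≠ 1 ∧ ∃ g : Matrix.ProjectiveSpecialLinearGroup (Fin n) F,
      ∀ f : Fin (n - 1) → Matrix.ProjectiveSpecialLinearGroup (Fin n) F,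
        g ≠ (List.ofFn fun i => f i * x * (f i)⁻¹).prod := by
  classical
  obtain ⟨m, rfl⟩ : ∃ m, n = m + 1 := ⟨n - 1, by omega⟩
  obtain ⟨G, hG⟩ := exists_no_eigen (F := F) (m := m) (by omega)
  let i0 : Fin (m + 1) := ⟨0, by omega⟩
  let i1 : Fin (m + 1) := ⟨1, by omega⟩
  have h01 : i0 ≠ i1 := by simp [i0, i1]
  let X : Matrix.SpecialLinearGroup (Fin (m + 1)) F :=
    ⟨Matrix.transvection i0 i1 1, Matrix.det_transvection_of_ne i0 i1 h01 1⟩
  have hX : ∀ v : Fin (m + 1) → F, slEnd _ X v = v + Pi.single i0 (v i1) := fun v => by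
    show (Matrix.transvection i0 i1 (1 : F)) *ᵥ v = _
    rw [Matrix.transvection, Matrix.add_mulVec, Matrix.one_mulVec, Matrix.single_mulVec]
    simp [Function.update, Pi.single]
  set π := QuotientGroup.mk' (Subgroup.center (Matrix.SpecialLinearGroup (Fin (m + 1)) F)) with hπ
  refine ⟨π X, fun h => ?_, π G, fun f hfg => ?_⟩
  · obtain ⟨s, hs⟩ := slEnd_mem_center.1 ((QuotientGroup.eq_one_iff X).1 h)
    have := congrFun (LinearMap.congr_fun hs (Pi.single i1 1)) i0
    rw [hX] at this
    simp [h01] at this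
  choose A hA using fun i => QuotientGroup.mk'_surjective _ (f i)
  have e1 : (List.ofFn fun i => f i * π X * (f i)⁻¹).prod = π (List.ofFn fun i => A i * X * (A i)⁻¹).prod := by
    rw [map_list_prod, List.map_ofFn]
    congr
    funext i
    simp [hπ, ← hA]
  rw [e1, hπ, QuotientGroup.mk'_apply, QuotientGroup.mk'_apply, QuotientGroup.eq, slEnd_mem_center] at hfg
  obtain ⟨s, hs⟩ := hfg
  -- a common fixed vector
  let Φ : (Fin (m + 1) → F) →ₗ[F] (Fin (m + 1 - 1) → F) :=
    LinearMap.pi fun i => (LinearMap.proj i1) ∘ₗ slEnd (m + 1) (A i)⁻¹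
  obtain ⟨v, hv, hv0⟩ := Submodule.exists_mem_ne_zero_of_ne_bot
    (show LinearMap.ker Φ ≠ ⊥ from fun h => by
      have := LinearMap.finrank_le_finrank_of_injective (LinearMap.ker_eq_bot.1 h)
      rw [Module.finrank_fin_fun, Module.finrank_fin_fun] at this
      omega)
  have hfix : ∀ L : List (Fin (m + 1 - 1)), slEnd (m + 1) (L.map fun i => A i * X * (A i)⁻¹).prod v = v := by
    intro L
    induction L with
    | nil => simp
    | cons i L ih =>
      rw [List.map_cons, List.prod_cons, map_mul, Module.End.mul_apply, ih, map_mul, map_mul, Module.End.mul_apply,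
        Module.End.mul_apply, hX, show slEnd (m + 1) (A i)⁻¹ v i1 = 0 from congrFun (LinearMap.mem_ker.1 hv) i,
        Pi.single_zero, add_zero, ← Module.End.mul_apply, ← map_mul, mul_inv_cancel, map_one, Module.End.one_apply]
  have e2 := LinearMap.congr_fun hs v
  have e3 := hfix (List.finRange _)
  rw [← List.ofFn_eq_map] at e3
  rw [map_mul, Module.End.mul_apply, e3, LinearMap.smul_apply, Module.End.one_apply] at e2
  have hGG : slEnd (m + 1) G (slEnd (m + 1) G⁻¹ v) = v := by
    rw [← Module.End.mul_apply, ← map_mul, mul_inv_cancel, map_one, Module.End.one_apply]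
  rw [e2, map_smul] at hGG
  have hs0 : s ≠ 0 := fun h => hv0 (by rw [← hGG, h, zero_smul])
  exact hv0 (hG s⁻¹ v (by rw [eq_inv_smul_iff₀ hs0, hGG]))

end CfsgLib.PSLCover
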