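import Cfsg.Agent.Lib.PSLCover.Cover

/-! Two blocks with the same irreducible quadratic. -/

set_option autoImplicit false
set_option linter.unusedSectionVars false

namespace CfsgLib.PSLCover

open Module LinearMap

universe u v

variable {K : Type u} [Field K] {V : Type v} [AddCommGroup V] [Module K V] [FiniteDimensional K V]

theorem quad_norm {τ δ : K} (hf : ∀ r : K, r * r - τ * r + δ ≠ 0) {c d : K} (h : c * c + τ * c * d + δ * d * d = 0) :
    c = 0 ∧ d = 0 := by
  by_cases hd : d = 0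
  · subst hd; exact ⟨by simpa using h, rfl⟩
  · exact absurd (by field_simp; linear_combination h : (-c / d) * (-c / d) - τ * (-c / d) + δ = 0) (hf _)

theorem quad_noroot [Nontrivial V] {x : Module.End K V} {τ δ : K} (hx : ∀ v, x (x v) = τ • x v - δ • v)
    (hno : ∀ (a : K) (v : V), x v = a • v → v = 0) (r : K) : r * r - τ * r + δ ≠ 0 := by
  intro h
  obtain ⟨v, hv⟩ := exists_ne (0 : V)
  have h1 := hno r (x v - (τ - r) • v) (by
    rw [map_sub, map_smul, hx, show δ = τ * r - r * r by linear_combination h]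
    module)
  exact hv (hno (τ - r) v (sub_eq_zero.1 h1))

theorem exists_frame4 (hn : finrank K V = 4) {x : Module.End K V} {τ δ : K} (hx : ∀ v, x (x v) = τ • x v - δ • v)
    (hno : ∀ (a : K) (v : V), x v = a • v → v = 0) :
    ∃ B : Basis (Fin 4) K V, x (B 0) = B 1 ∧ x (B 2) = B 3 ∧ LinearMap.det x = δ * δ := by
  classical
  haveI : Nontrivial V := Module.nontrivial_of_finrank_pos (R := K) (by omega)
  have hf := quad_noroot hx hno
  obtain ⟨p, hp⟩ := exists_ne (0 : V)
  set S := Submodule.span K ({p, x p} : Set V) with hS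
  have hpS : p ∈ S := Submodule.subset_span (by simp)
  have hqS : x p ∈ S := Submodule.subset_span (by simp)
  have hSi : ∀ v ∈ S, x v ∈ S := fun v hv => by
    obtain ⟨a, b, rfl⟩ := Submodule.mem_span_pair.1 hv
    rw [map_add, map_smul, map_smul, hx]
    exact S.add_mem (S.smul_mem _ hqS) (S.smul_mem _ (S.sub_mem (S.smul_mem _ hqS) (S.smul_mem _ hpS)))
  obtain ⟨p', hp'⟩ : ∃ v, v ∉ S := by
    by_contra h
    push Not at h
    have h1 := finrank_span_finset_le_card (R := K) ({p, x p} : Finset V)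
    rw [Finset.coe_insert, Finset.coe_singleton, Set.finrank, ← hS, Submodule.eq_top_iff'.2 h, finrank_top] at h1
    have := Finset.card_le_two (a := p) (b := x p)
    omega
  have li : LinearIndependent K ![p, x p, p', x p'] := by
    rw [Fintype.linearIndependent_iff]
    intro g hg
    simp [Fin.sum_univ_four] at hg
    have hmem : g 2 • p' + g 3 • x p' ∈ S := by
      have e : g 2 • p' + g 3 • x p' = -(g 0 • p + g 1 • x p) := by linear_combination (norm := module) hg
      rw [e]
      exact S.neg_mem (S.add_mem (S.smul_mem _ hpS) (S.smul_mem _ hqS))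
    have hN : (g 2 * g 2 + τ * g 2 * g 3 + δ * g 3 * g 3) • p' ∈ S := by
      have e : (g 2 * g 2 + τ * g 2 * g 3 + δ * g 3 * g 3) • p' =
          (g 2 + τ * g 3) • (g 2 • p' + g 3 • x p') - g 3 • x (g 2 • p' + g 3 • x p') := by
        rw [map_add, map_smul, map_smul, hx]; module
      rw [e]
      exact S.sub_mem (S.smul_mem _ hmem) (S.smul_mem _ (hSi _ hmem))
    obtain ⟨h2, h3⟩ := quad_norm hf (by
      by_contra h; exact hp' ((S.smul_mem_iff h).1 hN))
    rw [h2, h3, zero_smul, zero_smul, add_zero, add_zero] at hg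
    have h1 : g 1 = 0 := by
      by_contra h1
      refine hp (hno (-(g 1)⁻¹ * g 0) p ?_)
      rw [mul_smul, neg_smul, eq_neg_of_add_eq_zero_left hg, smul_neg, neg_neg, smul_smul, inv_mul_cancel₀ h1, one_smul]
    rw [h1, zero_smul, add_zero, smul_eq_zero] at hg
    intro i
    fin_cases i
    exacts [hg.resolve_right hp, h1, h2, h3]
  let B := basisOfLinearIndependentOfCardEqFinrank li (by simpa using hn.symm)
  have hB : ∀ i, B i = ![p, x p, p', x p'] i := fun i => by simp [B]
  refine ⟨B, by simp [hB], by simp [hB], ?_⟩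
  have r : ∀ (i : Fin 4), B.repr (B i) = Finsupp.single i 1 := fun i => B.repr_self i
  have c0 : x (B 0) = B 1 := by simp [hB]
  have c2 : x (B 2) = B 3 := by simp [hB]
  have c1 : x (B 1) = τ • B 1 - δ • B 0 := by simp [hB, hx]
  have c3 : x (B 3) = τ • B 3 - δ • B 2 := by simp [hB, hx]
  have hm : LinearMap.toMatrix B B x = !![0, -δ, 0, 0; 1, τ, 0, 0; 0, 0, 0, -δ; 0, 0, 1, τ] := by
    ext i j
    rw [LinearMap.toMatrix_apply]
    fin_cases j <;> simp [c0, c1, c2, c3, r] <;> fin_cases i <;> simp [Finsupp.single_apply]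
  rw [← LinearMap.det_toMatrix B, hm, Matrix.det_succ_row_zero]
  simp [Fin.sum_univ_succ, Matrix.det_fin_three, Fin.succAbove]

theorem exists_ne_four (h4 : ∃ k : Fin 4 → K, Function.Injective k) (δ : K) :
    ∃ s : K, s ≠ 0 ∧ s * s ≠ 1 := by
  classical
  obtain ⟨s, hs⟩ := RegUnipProd.exists_notMem h4 {0, 1, -1} (by
    refine (Finset.card_insert_le _ _).trans (Nat.succ_le_succ ?_)
    exact Finset.card_le_two)
  simp only [Finset.mem_insert, Finset.mem_singleton, not_or] at hs
  exact ⟨s, hs.1, fun h => (mul_self_eq_one_iff.1 h).elim hs.2.1 hs.2.2⟩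

/-- The regular pair for two equal blocks. -/
theorem glue_four (h4 : ∃ k : Fin 4 → K, Function.Injective k) (hn : finrank K V = 4) {x : Module.End K V} {τ δ : K}
    (hx : ∀ v, x (x v) = τ • x v - δ • v) (hno : ∀ (a : K) (v : V), x v = a • v → v = 0) :
    ∃ (y : Module.End K V) (l : List K), ConjIn (Set.univ : Set K) x y ∧ RegL (x * y) l ∧ Cover V l ∧
      l.prod = LinearMap.det x * LinearMap.det x := by
  haveI : Nontrivial V := Module.nontrivial_of_finrank_pos (R := K) (by omega)
  have hf := quad_noroot hx hno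
  have hδ : δ ≠ 0 := fun e => hf 0 (by rw [e]; ring)
  obtain ⟨B, b01, b23, hdet⟩ := exists_frame4 hn hx hno
  obtain ⟨s, hs0, hs⟩ := exists_ne_four h4 δ
  obtain ⟨μ, ρ, hμρ⟩ : ∃ μ ρ : K, (τ = 0 ∧ μ = 1 ∧ ρ = 0) ∨ (τ ≠ 0 ∧ μ = 0 ∧ ρ = 1) := by
    by_cases h : τ = 0
    exacts [⟨1, 0, Or.inl ⟨h, rfl, rfl⟩⟩, ⟨0, 1, Or.inr ⟨h, rfl, rfl⟩⟩]
  obtain ⟨e, hedef⟩ : ∃ e, e = δ * s := ⟨_, rfl⟩
  have he : e ≠ 0 := hedef ▸ mul_ne_zero hδ hs0
  obtain ⟨e', he'⟩ : ∃ e', e' = δ * δ / e := ⟨_, rfl⟩
  have he'0 : e' ≠ 0 := he' ▸ div_ne_zero (mul_ne_zero hδ hδ) he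
  have hee : e - e' ≠ 0 := fun h => hs (by
    rw [he', hedef] at h; field_simp at h
    exact mul_left_cancel₀ hδ (by linear_combination h))
  have hee' : e' - e ≠ 0 := fun h => hee (by linear_combination -h)
  have hes : e - δ ≠ 0 := fun h => hs (by
    rw [hedef] at h
    have : s = 1 := mul_left_cancel₀ hδ (by linear_combination h)
    rw [this, one_mul])
  obtain ⟨t, ht⟩ : ∃ t, t = τ * (e - δ) := ⟨_, rfl⟩
  obtain ⟨c, hc⟩ : ∃ c, c = e * ρ / δ / (e - e') := ⟨_, rfl⟩
  obtain ⟨κ, hκ⟩ : ∃ κ, κ = μ * e + c * t := ⟨_, rfl⟩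
  obtain ⟨R, hR⟩ : ∃ R, R = τ * e * ρ / δ - τ * ρ - e' * μ := ⟨_, rfl⟩
  obtain ⟨κ', hκ'⟩ : ∃ κ', κ' = R + t / (e' - e) * (e * ρ / δ) := ⟨_, rfl⟩
  have hκ0 : κ ≠ 0 := by
    rcases hμρ with ⟨hτ, rfl, rfl⟩ | ⟨hτ, rfl, rfl⟩
    · rw [hκ, ht, hτ]; simpa using he
    · rw [hκ, hc, ht, zero_mul, zero_add, mul_one]
      exact mul_ne_zero (div_ne_zero (div_ne_zero he hδ) hee) (mul_ne_zero hτ hes)
  have hκκ : κ' * e = -e' * κ := by
    rw [hκ', hR, hκ, hc, ht]
    rw [show e' - e = -(e - e') by ring]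
    field_simp
    ring
  have hκ'0 : κ' ≠ 0 := fun h => by
    rw [h, zero_mul, eq_comm, mul_eq_zero] at hκκ
    exact hκκ.elim (neg_ne_zero.2 he'0) hκ0
  set p1 := B 0 with hp1
  set q1 := B 1 with hq1
  set p2 := B 2 with hp2
  set q2 := B 3 with hq2
  let P : Fin 4 → V := ![p1, (τ * e / δ) • p1 - (e / δ) • q1, p2 - μ • p1,
    (τ * e / δ) • p2 - (e / δ) • q2 + (e * ρ / δ) • p1]
  have hspanP : ⊤ ≤ Submodule.span K (Set.range P) := by
    rw [← B.span_eq, Submodule.span_le]
    have m : ∀ i, P i ∈ Submodule.span K (Set.range P) := fun i => Submodule.subset_span ⟨i, rfl⟩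
    have m0 : p1 ∈ Submodule.span K (Set.range P) := m 0
    have m2 : p2 ∈ Submodule.span K (Set.range P) := by
      have := add_mem (m 2) (Submodule.smul_mem _ μ m0); simpa [P] using this
    rintro _ ⟨i, rfl⟩
    fin_cases i
    · exact m0
    · show q1 ∈ _
      rw [show q1 = (δ / e) • ((τ * e / δ) • P 0 - P 1) by
        simp only [P, Matrix.cons_val_zero, Matrix.cons_val_one, sub_sub_cancel, smul_smul]
        rw [show δ / e * (e / δ) = 1 by field_simp, one_smul]]
      exact Submodule.smul_mem _ _ (sub_mem (Submodule.smul_mem _ _ (m 0)) (m 1))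
    · exact m2
    · show q2 ∈ _
      rw [show q2 = (δ / e) • ((τ * e / δ) • p2 + (e * ρ / δ) • p1 - P 3) by
        simp only [P, Matrix.cons_val]
        rw [show (τ * e / δ) • p2 + (e * ρ / δ) • p1 - ((τ * e / δ) • p2 - (e / δ) • q2 + (e * ρ / δ) • p1) =
          (e / δ) • q2 by abel, smul_smul, show δ / e * (e / δ) = 1 by field_simp, one_smul]]
      exact Submodule.smul_mem _ _ (sub_mem (add_mem (Submodule.smul_mem _ _ m2) (Submodule.smul_mem _ _ m0)) (m 3))
  let B' := basisOfTopLeSpanOfCardEqFinrank P hspanP (by simpa using hn.symm)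
  have hB' : ∀ i, B' i = P i := fun i => by simp [B']
  let E := B.equiv B' (Equiv.refl _)
  have hE : ∀ i, E (B i) = P i := fun i => by simp [E, hB']
  let y : Module.End K V := E.conj x
  have hyE : ∀ v, y (E v) = E (x v) := fun v => by simp [y, LinearEquiv.conj_apply]
  have y0 : y (P 0) = P 1 := by rw [← hE, hyE, b01, ← hE]
  have y2 : y (P 2) = P 3 := by rw [← hE, hyE, b23, ← hE]
  have x1 : x q1 = τ • q1 - δ • p1 := by rw [← b01, hx]
  have x3 : x q2 = τ • q2 - δ • p2 := by rw [← b23, hx]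
  have y1 : y (P 1) = τ • P 1 - δ • P 0 := by rw [← hE 1, hyE, x1, map_sub, map_smul, map_smul, hE, hE]
  have y3 : y (P 3) = τ • P 3 - δ • P 2 := by rw [← hE 3, hyE, x3, map_sub, map_smul, map_smul, hE, hE]
  simp only [P, Matrix.cons_val_zero, Matrix.cons_val_one, Matrix.cons_val] at y0 y1 y2 y3
  have T0 : x (y p1) = e • p1 := by
    rw [y0, map_sub, map_smul, map_smul, b01, x1]
    match_scalars <;> field_simp <;> ring
  have T1 : x (y q1) = t • p1 + e' • q1 := by
    have e1 : q1 = (δ / e) • ((τ * e / δ) • p1 - ((τ * e / δ) • p1 - (e / δ) • q1)) := by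
      match_scalars <;> field_simp <;> ring
    conv_lhs => rw [e1]
    rw [map_smul y, map_sub y, map_smul y, y0, y1]
    simp only [map_smul, map_sub, b01, x1, ht, he']
    match_scalars <;> field_simp <;> ring
  have T2 : x (y p2) = e • p2 + (μ * e) • p1 + (e * ρ / δ) • q1 := by
    have e1 : p2 = (p2 - μ • p1) + μ • p1 := by abel
    conv_lhs => rw [e1, map_add, map_smul, y2, y0]
    simp only [map_smul, map_sub, map_add, b01, b23, x1, x3]
    match_scalars <;> field_simp <;> ring
  have T3 : x (y q2) = t • p2 + e' • q2 + ((τ * μ + ρ) * e) • p1 + R • q1 := by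
    have e1 : q2 = τ • p2 + ρ • p1 - (δ / e) • ((τ * e / δ) • p2 - (e / δ) • q2 + (e * ρ / δ) • p1) := by
      match_scalars <;> field_simp <;> ring
    conv_lhs => rw [e1, map_sub, map_add, map_smul, map_smul, map_smul, y3]
    simp only [map_smul, map_sub, map_add, T2, T0, b01, b23, x1, x3, ht, he', hR]
    match_scalars <;> field_simp <;> ring
  -- the flag
  let f : ℕ → V := fun i => if i = 0 then κ • p1 else if i = 1 then p2 + c • q1 else
    if i = 2 then κ' • q1 else q2 + (t / (e' - e)) • p2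
  have key := regL_triangular (T := x * y) f (fun i => if i < 2 then e else e') hn ?_ ?_ ?_
  · refine ⟨y, [δ * s, δ * s, δ * s⁻¹, δ * s⁻¹], ⟨E, trivial, hyE⟩, ?_, cover_quad h4 hn hδ hs0 hs, ?_⟩
    · have e2 : e' = δ * s⁻¹ := by rw [he', hedef]; field_simp
      simpa [List.range_succ, e2, hedef] using key
    · rw [hdet]; simp; field_simp
  · rw [eq_top_iff, ← B.span_eq, Submodule.span_le]
    have m : ∀ i < 4, f i ∈ Submodule.span K (f '' Set.Iio 4) := fun i hi => Submodule.subset_span ⟨i, hi, rfl⟩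
    have m0 : p1 ∈ Submodule.span K (f '' Set.Iio 4) := (Submodule.smul_mem_iff _ hκ0).1 (by simpa [f] using m 0 (by omega))
    have m2 : q1 ∈ Submodule.span K (f '' Set.Iio 4) := (Submodule.smul_mem_iff _ hκ'0).1 (by simpa [f] using m 2 (by omega))
    have m1 : p2 ∈ Submodule.span K (f '' Set.Iio 4) := by
      have := sub_mem (m 1 (by omega)) (Submodule.smul_mem _ c m2)
      simpa [f] using this
    rintro _ ⟨i, rfl⟩
    fin_cases i
    · exact m0
    · exact m2
    · exact m1
    · have := sub_mem (m 3 (by omega)) (Submodule.smul_mem _ (t / (e' - e)) m1)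
      simpa [f] using this
  · intro i hi
    have h0 : f 0 = κ • p1 := rfl
    have h2 : f 2 = κ' • q1 := by simp [f]
    have h1 : f 1 = p2 + c • q1 := by simp [f]
    have h3 : f 3 = q2 + (t / (e' - e)) • p2 := by simp [f]
    interval_cases i
    · simp [h0, T0, smul_comm e κ]
    · have d : (x * y) (f 1) - e • f 1 = (1 : K) • f 0 := by
        simp only [h1, h0, Module.End.mul_apply, map_add, map_smul, T1, T2, hκ, hc]
        match_scalars <;> field_simp <;> ring
      simp only [show (1 : ℕ) < 2 by omega, if_true]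
      rw [d, one_smul]
      exact Submodule.subset_span ⟨0, by simp, rfl⟩
    · have d : (x * y) (f 2) - e' • f 2 = (κ' * t / κ) • f 0 := by
        simp only [h2, h0, Module.End.mul_apply, map_smul, T1]
        match_scalars <;> field_simp <;> ring
      simp only [show ¬ (2 : ℕ) < 2 by omega, if_false]
      rw [d]
      exact Submodule.smul_mem _ _ (Submodule.subset_span ⟨0, by simp, rfl⟩)
    · have d : (x * y) (f 3) - e' • f 3 = (1 : K) • f 2 + (((τ * μ + ρ) * e + t / (e' - e) * (μ * e)) / κ) • f 0 := by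
        simp only [h3, h2, h0, Module.End.mul_apply, map_add, map_smul, T3, T2, hκ']
        match_scalars <;> field_simp <;> ring
      simp only [show ¬ (3 : ℕ) < 2 by omega, if_false]
      rw [d, one_smul]
      exact add_mem (Submodule.subset_span ⟨2, by simp, rfl⟩) (Submodule.smul_mem _ _ (Submodule.subset_span ⟨0, by simp, rfl⟩))
  · intro i hi
    have h0 : f 0 = κ • p1 := rfl
    have h2 : f 2 = κ' • q1 := by simp [f]
    have h1 : f 1 = p2 + c • q1 := by simp [f]
    have h3 : f 3 = q2 + (t / (e' - e)) • p2 := by simp [f]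
    obtain rfl | rfl | rfl : i = 0 ∨ i = 1 ∨ i = 2 := by omega
    · refine Or.inr ⟨by simp, ?_⟩
      have d : (x * y) (f 1) - e • f 1 - f 0 = 0 := by
        simp only [h1, h0, Module.End.mul_apply, map_add, map_smul, T1, T2, hκ, hc]
        match_scalars <;> field_simp <;> ring
      simp only [show (0 + 1 : ℕ) < 2 by omega, if_true]
      rw [show (0 + 1 : ℕ) = 1 from rfl, d]
      exact zero_mem _
    · refine Or.inl fun j hj => ?_
      simp only [show j < 2 by omega, show ¬ (1 + 1 : ℕ) < 2 by omega, if_true, if_false]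
      exact sub_ne_zero.1 hee
    · refine Or.inr ⟨by simp, ?_⟩
      have d : (x * y) (f 3) - e' • f 3 - f 2 = (((τ * μ + ρ) * e + t / (e' - e) * (μ * e)) / κ) • f 0 := by
        simp only [h3, h2, h0, Module.End.mul_apply, map_add, map_smul, T3, T2, hκ']
        match_scalars <;> field_simp <;> ring
      simp only [show ¬ (2 + 1 : ℕ) < 2 by omega, if_false]
      rw [d]
      exact Submodule.smul_mem _ _ (Submodule.subset_span ⟨0, by simp, rfl⟩)

end CfsgLib.PSLCover
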