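import Cfsg.Agent.Lib.PSLCover.Basic
import Cfsg.Agent.Lib.RegUnipProd.Basic

/-! The unipotent part of a product of block triangular conjugates. -/

set_option autoImplicit false
set_option linter.unusedSectionVars false

namespace CfsgLib.PSLCover

open Module LinearMap

universe u v w

variable {K : Type u} [Field K] {W : Type v} [AddCommGroup W] [Module K W] {Q : Type w} [AddCommGroup Q] [Module K Q]

/-- Block upper triangular map. -/
def blk (A : Module.End K W) (r : Q →ₗ[K] W) (B : Module.End K Q) : Module.End K (W × Q) :=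
  LinearMap.prod (A ∘ₗ LinearMap.fst K W Q + r ∘ₗ LinearMap.snd K W Q) (B ∘ₗ LinearMap.snd K W Q)

@[simp] theorem blk_apply (A : Module.End K W) (r : Q →ₗ[K] W) (B : Module.End K Q) (p : W × Q) :
    blk A r B p = (A p.1 + r p.2, B p.2) := rfl

theorem blk_mul (A A' : Module.End K W) (r r' : Q →ₗ[K] W) (B B' : Module.End K Q) :
    blk A r B * blk A' r' B' = blk (A * A') (A ∘ₗ r' + r ∘ₗ B') (B * B') :=
  LinearMap.ext fun p => by simp [add_assoc]

theorem blk_one : blk (1 : Module.End K W) (0 : Q →ₗ[K] W) (1 : Module.End K Q) = 1 :=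
  LinearMap.ext fun p => by simp

theorem det_blk [FiniteDimensional K W] [FiniteDimensional K Q] (A : Module.End K W) (r : Q →ₗ[K] W)
    (B : Module.End K Q) : LinearMap.det (blk A r B) = LinearMap.det A * LinearMap.det B := by
  have h : blk A r B = blk (1 : Module.End K W) 0 B * (blk (1 : Module.End K W) r 1 * blk A 0 1) := by
    rw [blk_mul, blk_mul]; exact LinearMap.ext fun p => by simp
  have h1 : LinearMap.det (blk (1 : Module.End K W) r (1 : Module.End K Q)) = 1 := by
    have : blk (1 : Module.End K W) r (1 : Module.End K Q) =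
        1 + LinearMap.inl K W Q ∘ₗ r ∘ₗ LinearMap.snd K W Q := LinearMap.ext fun p => by
      simp [Prod.ext_iff]
    rw [this]
    exact RegUnipProd.det_one_add_sq_zero _ (LinearMap.ext fun p => by simp)
  have h2 : ∀ (A' : Module.End K W) (B' : Module.End K Q), blk A' (0 : Q →ₗ[K] W) B' = A'.prodMap B' := fun A' B' =>
    LinearMap.ext fun p => by simp
  rw [h, map_mul, map_mul, h1, h2, h2, LinearMap.det_prodMap, LinearMap.det_prodMap, map_one, map_one]
  ring

/-- Shear conjugation. -/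
theorem conjIn_shear [FiniteDimensional K W] [FiniteDimensional K Q] (A : Module.End K W) (r w : Q →ₗ[K] W)
    (B : Module.End K Q) : ConjIn ({1} : Set K) (blk A r B) (blk A (r + (w ∘ₗ B - A ∘ₗ w)) B) := by
  let e : (W × Q) ≃ₗ[K] W × Q := LinearEquiv.ofLinear (blk 1 w 1) (blk 1 (-w) 1)
    (LinearMap.ext fun p => by simp) (LinearMap.ext fun p => by simp)
  refine ⟨e, ?_, fun p => ?_⟩
  · show LinearMap.det (blk (1 : Module.End K W) w (1 : Module.End K Q)) ∈ ({1} : Set K)
    rw [det_blk, map_one, map_one, mul_one]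
    exact rfl
  · simp [e, Prod.ext_iff]; abel

/-- The unipotent parts reachable by shears. -/
def Reach (A : Module.End K W) : List (Module.End K Q) → Submodule K (Q →ₗ[K] W)
  | [] => ⊥
  | f :: L => LinearMap.range (LinearMap.lcomp K W L.prod ∘ₗ (LinearMap.lcomp K W f - LinearMap.llcomp K Q W W A)) ⊔
      (Reach A L).map (LinearMap.llcomp K Q W W A)

theorem exists_lift_prod [FiniteDimensional K W] [FiniteDimensional K Q] {x : Module.End K (W × Q)} (A : Module.End K W)
    (L : List (Module.End K Q)) (hL : ∀ f ∈ L, ∃ r, ConjIn ({1} : Set K) x (blk A r f)) :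
    ∃ u0 : Q →ₗ[K] W, ∀ u ∈ Reach A L, ∃ ys : List (Module.End K (W × Q)), ys.length = L.length ∧
      (∀ y ∈ ys, ConjIn ({1} : Set K) x y ∧ ∃ r, ∃ f ∈ L, y = blk A r f) ∧
      (∀ f ∈ L, ∃ r, blk A r f ∈ ys) ∧
      ys.prod = blk (A ^ L.length) (u0 + u) L.prod := by
  induction L with
  | nil => exact ⟨0, fun u hu => ⟨[], rfl, by simp, by simp, by
      simp only [Reach, Submodule.mem_bot] at hu; simp [hu, blk_one]⟩⟩
  | cons f L ih =>
    obtain ⟨u1, hu1⟩ := ih fun g hg => hL g (List.mem_cons_of_mem _ hg)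
    obtain ⟨r, hr⟩ := hL f List.mem_cons_self
    refine ⟨A ∘ₗ u1 + r ∘ₗ L.prod, fun u hu => ?_⟩
    obtain ⟨_, ⟨w, rfl⟩, _, ⟨δ, hδ, rfl⟩, rfl⟩ := Submodule.mem_sup.1 (show u ∈ _ ⊔ _ from hu)
    obtain ⟨ys, hlen, hys, hcov, hprod⟩ := hu1 δ hδ
    refine ⟨blk A (r + (w ∘ₗ f - A ∘ₗ w)) f :: ys, by simp [hlen], ?_, ?_, ?_⟩
    · intro y hy
      rcases List.mem_cons.1 hy with rfl | hy
      · exact ⟨hr.trans (conjIn_shear A r w f), _, f, List.mem_cons_self, rfl⟩
      · obtain ⟨h1, r', g, hg, rfl⟩ := hys y hy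
        exact ⟨h1, r', g, List.mem_cons_of_mem _ hg, rfl⟩
    · intro g hg
      rcases List.mem_cons.1 hg with rfl | hg
      · exact ⟨_, List.mem_cons_self⟩
      · obtain ⟨r', hr'⟩ := hcov g hg
        exact ⟨r', List.mem_cons_of_mem _ hr'⟩
    · rw [List.prod_cons, hprod, blk_mul, List.prod_cons, List.length_cons, pow_succ' A]
      congr 1
      refine LinearMap.ext fun q => ?_
      simp only [LinearMap.add_apply, LinearMap.comp_apply, LinearMap.sub_apply, LinearMap.lcomp_apply,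
        LinearMap.llcomp_apply, map_add]
      abel

/-- Trace pairing. -/
noncomputable def pair : (W →ₗ[K] Q) →ₗ[K] Module.Dual K (Q →ₗ[K] W) :=
  LinearMap.mk₂ K (fun z φ => LinearMap.trace K W (φ ∘ₗ z))
    (fun z z' φ => by rw [LinearMap.comp_add, map_add]) (fun c z φ => by rw [LinearMap.comp_smul, map_smul])
    (fun z φ φ' => by rw [LinearMap.add_comp, map_add]) (fun c z φ => by rw [LinearMap.smul_comp, map_smul])

theorem pair_injective [FiniteDimensional K W] [FiniteDimensional K Q] :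
    Function.Injective (pair (K := K) (W := W) (Q := Q)) := by
  rw [← LinearMap.ker_eq_bot, Submodule.eq_bot_iff]
  intro z hz
  by_contra h
  obtain ⟨w, hw⟩ : ∃ w, z w ≠ 0 := by
    by_contra h'; push Not at h'; exact h (LinearMap.ext h')
  obtain ⟨ψ, hψ, -⟩ := RegUnipProd.sep (p := (⊥ : Submodule K Q)) (x := z w) (by simpa using hw)
  have := LinearMap.congr_fun (LinearMap.mem_ker.1 hz) (ψ.smulRight w)
  simp only [pair, LinearMap.mk₂_apply, LinearMap.zero_apply] at this
  rw [show (ψ.smulRight w) ∘ₗ z = (ψ ∘ₗ z).smulRight w from rfl, LinearMap.trace_smulRight] at this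
  rw [LinearMap.comp_apply, hψ] at this
  exact one_ne_zero this

theorem pair_surjective [FiniteDimensional K W] [FiniteDimensional K Q] :
    Function.Surjective (pair (K := K) (W := W) (Q := Q)) := by
  refine (LinearMap.injective_iff_surjective_of_finrank_eq_finrank ?_).1 pair_injective
  rw [Subspace.dual_finrank_eq, Module.finrank_linearMap, Module.finrank_linearMap, mul_comm]

/-- An annihilator of the reachable parts intertwines. -/
theorem intertwine [FiniteDimensional K W] [FiniteDimensional K Q] {A : Module.End K W} (hA : IsUnit A) :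
    ∀ (L : List (Module.End K Q)) (z : W →ₗ[K] Q), (∀ u ∈ Reach A L, pair z u = 0) →
      (∀ f ∈ L, f ∘ₗ (z ∘ₗ (A ^ L.length)) = (z ∘ₗ (A ^ L.length)) ∘ₗ A) := by
  intro L
  induction L with
  | nil => intro z _ f hf; exact absurd hf (List.not_mem_nil)
  | cons f L ih =>
    intro z hz
    set l := L.length with hl
    have hz' : ∀ u ∈ Reach A L, pair (z ∘ₗ A) u = 0 := fun u hu => by
      have h := hz (A ∘ₗ u) (Submodule.mem_sup_right ⟨u, hu, rfl⟩)
      simp only [pair, LinearMap.mk₂_apply] at h ⊢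
      rw [← h, show u ∘ₗ z ∘ₗ A = (u ∘ₗ z) ∘ₗ A from rfl, LinearMap.trace_comp_comm', LinearMap.comp_assoc]
    have hL := ih (z ∘ₗ A) hz'
    set Z := z ∘ₗ (A ^ (l + 1)) with hZ
    have e1 : (z ∘ₗ A) ∘ₗ (A ^ l) = Z := by
      rw [hZ, pow_succ', LinearMap.comp_assoc]; rfl
    rw [e1] at hL
    have hP : ∀ M : List (Module.End K Q), (∀ g ∈ M, g ∈ L) → M.prod ∘ₗ Z = Z ∘ₗ (A ^ M.length) := by
      intro M
      induction M with
      | nil => intro _; rfl
      | cons g M ihM =>
        intro hM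
        calc (g :: M).prod ∘ₗ Z = g ∘ₗ (M.prod ∘ₗ Z) := by rw [List.prod_cons]; rfl
          _ = (g ∘ₗ Z) ∘ₗ (A ^ M.length) := by rw [ihM fun a ha => hM a (List.mem_cons_of_mem _ ha)]; rfl
          _ = _ := by
            rw [hL g (hM g List.mem_cons_self), List.length_cons, pow_succ']; rfl
    have hP' := hP L fun _ h => h
    -- the head
    have hf : (f ∘ₗ L.prod) ∘ₗ z - (L.prod ∘ₗ z) ∘ₗ A = 0 := by
      refine (pair_injective (K := K)) ?_
      rw [map_zero]
      refine LinearMap.ext fun w => ?_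
      have h := hz _ (Submodule.mem_sup_left ⟨w, rfl⟩)
      simp only [pair, LinearMap.mk₂_apply, LinearMap.comp_apply, LinearMap.sub_apply, LinearMap.lcomp_apply',
        LinearMap.llcomp_apply', LinearMap.zero_apply, LinearMap.comp_sub, LinearMap.sub_comp, map_sub] at h ⊢
      rw [← h, show (w ∘ₗ (L.prod ∘ₗ z) ∘ₗ A) = (w ∘ₗ L.prod ∘ₗ z) ∘ₗ A from rfl,
        LinearMap.trace_comp_comm' A (w ∘ₗ L.prod ∘ₗ z)]
      rfl
    rw [sub_eq_zero] at hf
    have hPz : L.prod ∘ₗ z = z ∘ₗ (A ^ l) := by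
      obtain ⟨u, hu⟩ := hA.pow (l + 1)
      have key : ∀ v, L.prod (z ((A ^ (l + 1)) v)) = z ((A ^ l) ((A ^ (l + 1)) v)) := fun v => by
        have h := LinearMap.congr_fun hP' v
        simp only [LinearMap.comp_apply, hZ] at h
        rw [h, ← Module.End.mul_apply, ← Module.End.mul_apply, ← pow_add, ← pow_add, add_comm]
      refine LinearMap.ext fun w => ?_
      have h := key ((↑u⁻¹ : Module.End K W) w)
      rwa [← hu, ← Module.End.mul_apply, Units.mul_inv, Module.End.one_apply] at h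
    intro g hg
    show g ∘ₗ Z = Z ∘ₗ A
    rcases List.mem_cons.1 hg with rfl | hg
    · calc g ∘ₗ Z = (g ∘ₗ (z ∘ₗ (A ^ l))) ∘ₗ A := by rw [hZ, pow_succ]; rfl
        _ = ((g ∘ₗ L.prod) ∘ₗ z) ∘ₗ A := by rw [← hPz]; rfl
        _ = ((L.prod ∘ₗ z) ∘ₗ A) ∘ₗ A := by rw [hf]
        _ = Z ∘ₗ A := by rw [hPz, hZ, pow_succ]; rfl
    · exact hL g hg

/-- Irreducible map. -/
def Irr (A : Module.End K W) : Prop := ∀ p : Submodule K W, (∀ w ∈ p, A w ∈ p) → p = ⊥ ∨ p = ⊤

theorem reach_eq_top [FiniteDimensional K W] [FiniteDimensional K Q] {A : Module.End K W} (hA : IsUnit A)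
    (hirr : Irr A) {Λ : Set K} (hval : (∃ a ∈ Λ, ∀ w, A w = a • w) ∨ ∀ (a : K) (w : W), A w = a • w → w = 0)
    {L : List (Module.End K Q)} (hne : L ≠ []) (hd : Div Λ L) : Reach A L = ⊤ := by
  by_contra h
  obtain ⟨Lam, hLam, hker⟩ := RegUnipProd.sep_proper h
  obtain ⟨z, rfl⟩ := pair_surjective Lam
  have hz : z ≠ 0 := fun e => hLam (by rw [e, map_zero])
  have hint := intertwine hA L z hker
  set Z := z ∘ₗ (A ^ L.length) with hZ
  have hZ0 : Z ≠ 0 := fun e => hz (by
    obtain ⟨u, hu⟩ := hA.pow L.length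
    refine LinearMap.ext fun w => ?_
    have := LinearMap.congr_fun e ((↑u⁻¹ : Module.End K W) w)
    rwa [hZ, LinearMap.comp_apply, ← hu, ← Module.End.mul_apply, Units.mul_inv, Module.End.one_apply] at this)
  have happ : ∀ f ∈ L, ∀ w, f (Z w) = Z (A w) := fun f hf w => LinearMap.congr_fun (hint f hf) w
  obtain ⟨f0, hf0⟩ : ∃ f0, f0 ∈ L := ⟨L.head hne, List.head_mem hne⟩
  have hinj : LinearMap.ker Z = ⊥ := by
    rcases hirr (LinearMap.ker Z) (fun w hw => by
      rw [LinearMap.mem_ker] at hw ⊢; rw [← happ f0 hf0, hw, map_zero]) with e | e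
    · exact e
    · exact absurd (LinearMap.ker_eq_top.1 e) hZ0
  have hinj' := LinearMap.ker_eq_bot.1 hinj
  rcases hval with ⟨a, ha, hAa⟩ | hno
  · refine hZ0 (LinearMap.ext fun w => hd.1 a ha (Z w) fun f hf => ?_)
    rw [happ f hf, hAa, map_smul]
  · have := hd.2 (LinearMap.range Z)
      (fun f hf v hv => by obtain ⟨w, rfl⟩ := hv; exact ⟨A w, (happ f hf w).symm⟩)
      (fun f hf f' hf' v hv => by obtain ⟨w, rfl⟩ := hv; rw [happ f hf, happ f' hf'])
      (fun a v hv hall => by
        obtain ⟨w, rfl⟩ := hv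
        have h1 := hall f0 hf0
        rw [happ f0 hf0, ← map_smul] at h1
        rw [hno a w (hinj' h1), map_zero])
    exact hZ0 (LinearMap.range_eq_bot.1 this)

end CfsgLib.PSLCover
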