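import Cfsg.Agent.Lib.PSLCover.Frame

/-! Products of reflections or transvections. -/

set_option autoImplicit false
set_option linter.unusedSectionVars false

namespace CfsgLib.PSLCover

open Module LinearMap

universe u v

variable {K : Type u} [Field K] {V : Type v} [AddCommGroup V] [Module K V] [FiniteDimensional K V]

/-- A transvection (`ε = 1`) or reflection of determinant `ε`. -/
def Refl (ε : K) (R : Module.End K V) : Prop :=
  ∃ (ψ : V →ₗ[K] K) (w : V), ψ ≠ 0 ∧ w ≠ 0 ∧ ψ w = ε - 1 ∧ R = 1 + ψ.smulRight w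

theorem peel {ε : K} (hε : ε ≠ 0) {k : ℕ} {g : Module.End K V} (hdet : LinearMap.det g = ε ^ (k + 1))
    {ψ : V →ₗ[K] K} {w : V} (hψ : ψ ≠ 0) (hw : w ≠ 0) (hψw : ψ w = ε⁻¹ - 1) :
    ∃ R : Module.End K V, Refl ε R ∧ g = R * ((1 + ψ.smulRight w) * g) ∧
      LinearMap.det ((1 + ψ.smulRight w) * g) = ε ^ k ∧
      (1 + ψ.smulRight w) * g - 1 = (g - 1) + (ψ ∘ₗ g).smulRight w := by
  refine ⟨1 + ((-ε) • ψ).smulRight w, ⟨(-ε) • ψ, w, smul_ne_zero (neg_ne_zero.2 hε) hψ, hw, ?_, rfl⟩, ?_, ?_, ?_⟩
  · rw [LinearMap.smul_apply, smul_eq_mul, hψw]; field_simp; ring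
  · rw [← mul_assoc]
    conv_lhs => rw [← one_mul g]
    congr 1
    refine LinearMap.ext fun v => ?_
    simp only [Module.End.mul_apply, LinearMap.add_apply, Module.End.one_apply, LinearMap.smulRight_apply,
      LinearMap.smul_apply, map_add, map_smul, smul_eq_mul, hψw]
    match_scalars
    all_goals field_simp
    all_goals ring
  · rw [map_mul, det_rankOne, hψw, hdet, pow_succ]; field_simp; ring
  · refine LinearMap.ext fun v => ?_
    simp; abel

theorem rank_le_of_ker {N : Module.End K V} {S : Submodule K V} (h : ∀ p ∈ S, N p = 0) :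
    finrank K (LinearMap.range N) + finrank K S ≤ finrank K V := by
  have h1 := LinearMap.finrank_range_add_finrank_ker N
  have h2 : finrank K S ≤ finrank K (LinearMap.ker N) := Submodule.finrank_mono fun p hp => LinearMap.mem_ker.2 (h p hp)
  omega

/-- A functional with two prescribed values vanishing on a subspace. -/
theorem exists_fun {F : Submodule K V} {v w : V} (a b : K) (hw : w ∉ F) (hv : v ∉ F ⊔ Submodule.span K {w}) :
    ∃ ψ : V →ₗ[K] K, ψ v = a ∧ ψ w = b ∧ ∀ p ∈ F, ψ p = 0 := by
  obtain ⟨α, hαw, hα⟩ := RegUnipProd.sep hw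
  obtain ⟨β, hβv, hβ⟩ := RegUnipProd.sep hv
  have hβw : β w = 0 := hβ w (Submodule.mem_sup_right (Submodule.mem_span_singleton_self w))
  refine ⟨b • α + (a - b * α v) • β, ?_, ?_, fun p hp => ?_⟩
  · simp [hβv]
  · simp [hαw, hβw]
  · simp [hα p hp, hβ p (Submodule.mem_sup_left hp)]

/-- Never a scalar multiple of an idempotent. -/
def NotExc (g : Module.End K V) : Prop := ∀ c : K, (g - 1) * (g - 1) ≠ c • (g - 1)

theorem succ_choice {k : ℕ} (hk : 2 ≤ k) {g : Module.End K V} (hg : Function.Surjective g) {S : Submodule K V}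
    (hS : finrank K S + k = finrank K V) {w : V} (hw : w ∉ S) {ψ ψ' : V →ₗ[K] K} (hne : ψ ≠ ψ')
    (hkill : ∀ p ∈ S, (g - 1) p + ψ (g p) • w = 0) (hkill' : ∀ p ∈ S, (g - 1) p + ψ' (g p) • w = 0) :
    ∃ φ : V →ₗ[K] K, (φ = ψ ∨ φ = ψ') ∧
      (finrank K (LinearMap.range ((g - 1) + (φ ∘ₗ g).smulRight w)) < k ∨
        (finrank K (LinearMap.range ((g - 1) + (φ ∘ₗ g).smulRight w)) = k ∧
          ∀ c : K, ((g - 1) + (φ ∘ₗ g).smulRight w) * ((g - 1) + (φ ∘ₗ g).smulRight w) ≠
            c • ((g - 1) + (φ ∘ₗ g).smulRight w))) := by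
  by_contra hcon
  push Not at hcon
  have data : ∀ φ, (φ = ψ ∨ φ = ψ') → (∀ p ∈ S, (g - 1) p + φ (g p) • w = 0) →
      ∃ c : K, ∀ p, ((g - 1) p + φ (g p) • w) - c • p ∈ S := by
    intro φ hφ hkill
    obtain ⟨h1, h2⟩ := hcon φ hφ
    set N1 := (g - 1) + (φ ∘ₗ g).smulRight w with hN1
    have hle : S ≤ LinearMap.ker N1 := fun p hp => LinearMap.mem_ker.2 (hkill p hp)
    have h3 := rank_le_of_ker (N := N1) fun p hp => LinearMap.mem_ker.1 (hle hp)
    have h4 : finrank K (LinearMap.range N1) = k := by omega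
    obtain ⟨c, hc⟩ := h2 h4
    have h5 := LinearMap.finrank_range_add_finrank_ker N1
    have hker : S = LinearMap.ker N1 := Submodule.eq_of_le_of_finrank_eq hle (by omega)
    refine ⟨c, fun p => hker ▸ LinearMap.mem_ker.2 ?_⟩
    have := LinearMap.congr_fun hc p
    rw [Module.End.mul_apply, LinearMap.smul_apply] at this
    show N1 (N1 p - c • p) = 0
    rw [map_sub, map_smul, this, sub_self]
  obtain ⟨c, hc⟩ := data ψ (Or.inl rfl) hkill
  obtain ⟨c', hc'⟩ := data ψ' (Or.inr rfl) hkill'
  set χ := (ψ - ψ') ∘ₗ g with hχ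
  have key : ∀ p, χ p • w - (c - c') • p ∈ S := fun p => by
    have := S.sub_mem (hc p) (hc' p)
    convert this using 1
    simp [hχ]; module
  have hcc : c = c' := by
    by_contra hcc
    have htop : S ⊔ Submodule.span K {w} = ⊤ := by
      rw [eq_top_iff]
      intro p _
      have h := key p
      rw [show p = -((c - c')⁻¹ • (χ p • w - (c - c') • p)) + ((c - c')⁻¹ * χ p) • w by
        rw [smul_sub, smul_smul, smul_smul, inv_mul_cancel₀ (sub_ne_zero.2 hcc)]; module]
      exact add_mem (Submodule.mem_sup_left (S.neg_mem (S.smul_mem _ h)))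
        (Submodule.smul_mem _ _ (Submodule.mem_sup_right (Submodule.mem_span_singleton_self w)))
    have := Submodule.finrank_add_le_finrank_add_finrank S (Submodule.span K {w})
    rw [htop, finrank_top] at this
    have := RegUnipProd.finrank_span_singleton_le (K := K) w
    omega
  obtain ⟨p, hp⟩ : ∃ p, χ p ≠ 0 := by
    by_contra h
    push Not at h
    refine hne (LinearMap.ext fun q => ?_)
    obtain ⟨p, rfl⟩ := hg q
    exact sub_eq_zero.1 (h p)
  have := key p
  rw [hcc, sub_self, zero_smul, sub_zero] at this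
  exact hw ((S.smul_mem_iff hp).1 this)

/-- A vector moved off the fixed space, not in a line over it. -/
theorem exists_good_vec {g : Module.End K V} (h : NotExc g) :
    ∃ v, (g - 1) v ∉ LinearMap.ker (g - 1) ∧
      v ∉ LinearMap.ker (g - 1) ⊔ Submodule.span K {(g - 1) v} := by
  set N := g - 1 with hN
  by_contra hc
  push Not at hc
  obtain ⟨v, hv⟩ : ∃ v, N (N v) ≠ 0 := by
    by_contra h0
    push Not at h0
    exact h 0 (LinearMap.ext fun v => by rw [Module.End.mul_apply, h0, zero_smul, LinearMap.zero_apply])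
  have line : ∀ u, N (N u) ≠ 0 → ∃ a : K, a • N (N u) = N u := fun u hu => by
    obtain ⟨f, hf, y, hy, hfy⟩ := Submodule.mem_sup.1 (hc u fun e => hu (LinearMap.mem_ker.1 e))
    obtain ⟨a, rfl⟩ := Submodule.mem_span_singleton.1 hy
    refine ⟨a, ?_⟩
    conv_rhs => rw [← hfy]
    rw [map_add, LinearMap.mem_ker.1 hf, zero_add, map_smul]
  obtain ⟨a, ha⟩ := line v hv
  have hall : ∀ u, N u = a • N (N u) := by
    intro u
    by_contra hu
    by_cases hu2 : N (N u) = 0
    · obtain ⟨b, hb⟩ := line (v + u) (by rwa [map_add, map_add, hu2, add_zero])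
      rw [map_add, map_add, hu2, add_zero] at hb
      have e : N u = (b - a) • N (N v) := by rw [sub_smul, hb, ha]; abel
      have e2 := congrArg N e
      rw [hu2, map_smul] at e2
      rcases smul_eq_zero.1 e2.symm with h' | h'
      · exact hu (by rw [hu2, smul_zero, e, h', zero_smul])
      · have e3 := congrArg N ha
        rw [map_smul, h', smul_zero] at e3
        exact hv e3.symm
    · obtain ⟨b, hb⟩ := line u hu2
      have hba : b ≠ a := fun e => hu (by rw [← e, hb])
      by_cases hs : N (N (v + u)) = 0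
      · refine hba ?_
        rw [map_add, map_add] at hs
        have e := congrArg N (show N v + N u = a • N (N v) + b • N (N u) by rw [ha, hb])
        rw [map_add, map_add, map_smul, map_smul, hs] at e
        have e3 : (b - a) • N (N (N u)) = 0 := by
          have e4 : N (N (N v)) = -N (N (N u)) := by
            rw [← map_neg]
            exact congrArg N (eq_neg_of_add_eq_zero_left hs)
          rw [e4] at e
          linear_combination (norm := module) -e
        rcases smul_eq_zero.1 e3 with h' | h'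
        · exact sub_eq_zero.1 h'
        · exfalso; refine hu2 ?_
          have := congrArg N hb
          rw [map_smul, h', smul_zero] at this
          exact this.symm
      · obtain ⟨c, hc'⟩ := line (v + u) hs
        rw [map_add, map_add] at hc'
        have e : (c - a) • N (N v) + (c - b) • N (N u) = 0 := by
          linear_combination (norm := module) hc' - ha - hb
        have ev : N (N v) = a • N (N (N v)) := by conv_lhs => rw [← ha, map_smul]
        have eu : N (N u) = b • N (N (N u)) := by conv_lhs => rw [← hb, map_smul]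
        -- apply `N` and compare
        have e1 := congrArg N e
        rw [map_add, map_smul, map_smul, map_zero] at e1
        have e5 : ((c - b) * (b - a)) • N (N (N u)) = 0 := by
          rw [ev, eu] at e
          linear_combination (norm := module) e - a • e1
        have hu3 : N (N (N u)) ≠ 0 := fun h' => hu2 (by rw [eu, h', smul_zero])
        rcases mul_eq_zero.1 ((smul_eq_zero.1 e5).resolve_right hu3) with h' | h'
        · have hcb : c = b := sub_eq_zero.1 h'
          rw [hcb, sub_self, zero_smul, add_zero] at e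
          exact hba (sub_eq_zero.1 ((smul_eq_zero.1 e).resolve_right hv))
        · exact hba (sub_eq_zero.1 h')
  have ha0 : a ≠ 0 := fun e => hv (by rw [← ha, e, zero_smul, map_zero])
  refine h a⁻¹ (LinearMap.ext fun u => ?_)
  rw [Module.End.mul_apply, LinearMap.smul_apply, eq_inv_smul_iff₀ ha0]
  exact (hall u).symm

/-- The inductive statement. -/
theorem refl_prod (h4 : ∃ k : Fin 4 → K, Function.Injective k) {ε : K} (hε : ε ≠ 0) :
    ∀ (k : ℕ) (g : Module.End K V), 1 ≤ k → k ≤ finrank K V → LinearMap.det g = ε ^ k →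
      ((finrank K (LinearMap.range (g - 1)) < k ∧ 2 ≤ k) ∨ (finrank K (LinearMap.range (g - 1)) = k ∧
        (k = 1 ∨ NotExc g ∨ (ε ≠ 1 ∧ (g - 1) * (g - 1) = (ε - 1) • (g - 1))))) →
      ∃ L : List (Module.End K V), L.length = k ∧ (∀ R ∈ L, Refl ε R) ∧ L.prod = g := by
  classical
  intro k
  induction k with
  | zero => intros; omega
  | succ k ih =>
    intro g _ hkn hdet hst
    have hsurj : Function.Surjective g := by
      obtain ⟨g', hg', -⟩ := exists_inverse (f := g) (hdet ▸ pow_ne_zero _ hε)
      exact fun q => ⟨g' q, hg' q⟩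
    set N := g - 1 with hN
    set F := LinearMap.ker N with hF
    have hFr := LinearMap.finrank_range_add_finrank_ker N
    rw [← hF] at hFr
    rcases Nat.eq_zero_or_pos k with rfl | hk
    · obtain ⟨hr, -⟩ := hst.resolve_left fun h => by omega
      obtain ⟨z, hz, hz0⟩ := Submodule.exists_mem_ne_zero_of_ne_bot
        (show LinearMap.range N ≠ ⊥ from fun e => by rw [e, finrank_bot] at hr; omega)
      have hspan : LinearMap.range N = Submodule.span K {z} := (Submodule.eq_of_le_of_finrank_eq
        ((Submodule.span_singleton_le_iff_mem _ _).2 hz) (by rw [finrank_span_singleton hz0, hr])).symm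
      obtain ⟨χ, hχ, -⟩ := RegUnipProd.sep (p := (⊥ : Submodule K V)) (x := z) (by simpa using hz0)
      have hNφ : N = (χ ∘ₗ N).smulRight z := LinearMap.ext fun q => by
        obtain ⟨a, ha⟩ := Submodule.mem_span_singleton.1 (hspan ▸ LinearMap.mem_range_self N q)
        rw [LinearMap.smulRight_apply, LinearMap.comp_apply, ← ha, map_smul, hχ, smul_eq_mul, mul_one]
      have hg : g = 1 + (χ ∘ₗ N).smulRight z := by rw [← hNφ, hN, add_sub_cancel]
      refine ⟨[g], rfl, fun R hR => ?_, by simp⟩
      rw [List.mem_singleton] at hR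
      refine ⟨χ ∘ₗ N, z, fun e => ?_, hz0, ?_, hR.trans hg⟩
      · have h0 : N = 0 := hNφ.trans (by rw [e]; ext; simp)
        rw [h0, LinearMap.range_zero, finrank_bot] at hr; omega
      · have := hg ▸ hdet
        rw [det_rankOne, pow_one] at this
        linear_combination this
    -- passing to the next target
    have next' : ∀ (ψ : V →ₗ[K] K) (w : V), ψ ≠ 0 → w ≠ 0 → ψ w = ε⁻¹ - 1 →
        ((finrank K (LinearMap.range (N + (ψ ∘ₗ g).smulRight w)) < k ∧ 2 ≤ k) ∨
          (finrank K (LinearMap.range (N + (ψ ∘ₗ g).smulRight w)) = k ∧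
            (k = 1 ∨ (∀ c : K, (N + (ψ ∘ₗ g).smulRight w) * (N + (ψ ∘ₗ g).smulRight w) ≠
              c • (N + (ψ ∘ₗ g).smulRight w)) ∨ (ε ≠ 1 ∧ (N + (ψ ∘ₗ g).smulRight w) * (N + (ψ ∘ₗ g).smulRight w) =
                (ε - 1) • (N + (ψ ∘ₗ g).smulRight w))))) →
        ∃ L : List (Module.End K V), L.length = k + 1 ∧ (∀ R ∈ L, Refl ε R) ∧ L.prod = g := by
      intro ψ w hψ hw hψw h
      obtain ⟨R, hR, hgR, hd, hN1⟩ := peel hε hdet hψ hw hψw
      obtain ⟨L, h1, h2, h3⟩ := ih _ hk (by omega) hd (by
        unfold NotExc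
        rw [hN1]
        exact h)
      exact ⟨R :: L, by simp [h1], fun Q hQ => by
        rcases List.mem_cons.1 hQ with rfl | hQ
        exacts [hR, h2 Q hQ], by rw [List.prod_cons, h3, ← hgR]⟩
    have one_of_le : k = 1 → ∀ (ψ : V →ₗ[K] K) (w : V), (ε ≠ 1 ∨ N + (ψ ∘ₗ g).smulRight w ≠ 0) →
        ψ ≠ 0 → w ≠ 0 → ψ w = ε⁻¹ - 1 → finrank K (LinearMap.range (N + (ψ ∘ₗ g).smulRight w)) ≤ 1 →
        finrank K (LinearMap.range (N + (ψ ∘ₗ g).smulRight w)) = 1 := by
      intro h1 ψ w hor hψ hw hψw hle
      by_contra hne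
      have h0 : N + (ψ ∘ₗ g).smulRight w = 0 := LinearMap.range_eq_bot.1 (Submodule.finrank_eq_zero.1 (by omega))
      obtain ⟨R, -, -, hd, hN1⟩ := peel hε hdet hψ hw hψw
      rw [sub_eq_zero.1 (hN1.trans h0), map_one, h1, pow_one] at hd
      exact hor.elim (fun h => h hd.symm) fun h => h h0
    have two : ∀ (ψ : V →ₗ[K] K) (w : V), (∀ p ∈ F, ψ p = 0) → ∀ p ∈ F, N p + ψ (g p) • w = 0 := by
      intro ψ w hψ p hp
      have hgp : g p = p := by
        have := LinearMap.mem_ker.1 hp
        rw [hN, LinearMap.sub_apply, Module.End.one_apply, sub_eq_zero] at this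
        exact this
      rw [LinearMap.mem_ker.1 hp, hgp, hψ p hp, zero_smul, add_zero]
    by_cases hr : finrank K (LinearMap.range N) + 2 ≤ k + 1
    · -- room to spare
      obtain ⟨ψ, w, hψ, hw, hψw, hle⟩ : ∃ (ψ : V →ₗ[K] K) (w : V), ψ ≠ 0 ∧ w ≠ 0 ∧ ψ w = ε⁻¹ - 1 ∧
          finrank K (LinearMap.range (N + (ψ ∘ₗ g).smulRight w)) ≤ max 1 (finrank K (LinearMap.range N)) := by
        obtain ⟨ψ, hψ0, hψF⟩ : ∃ ψ : V →ₗ[K] K, ψ ≠ 0 ∧ (0 < finrank K (LinearMap.range N) → ∀ p ∈ F, ψ p = 0) := by
          rcases Nat.eq_zero_or_pos (finrank K (LinearMap.range N)) with h0 | h0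
          · obtain ⟨ψ, hψ, -⟩ := RegUnipProd.sep_proper (p := (⊥ : Submodule K V))
              (fun e => by
                have := finrank_top K V
                rw [← e, finrank_bot] at this
                omega)
            exact ⟨ψ, hψ, fun h => by omega⟩
          · obtain ⟨ψ, hψ, hψF⟩ := RegUnipProd.sep_proper (p := F) (fun e => by rw [e, finrank_top] at hFr; omega)
            exact ⟨ψ, hψ, fun _ => hψF⟩
        obtain ⟨q, hq⟩ : ∃ q, ψ q = 1 := by
          obtain ⟨q, hq⟩ : ∃ q, ψ q ≠ 0 := by
            by_contra h; push Not at h; exact hψ0 (LinearMap.ext h)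
          exact ⟨(ψ q)⁻¹ • q, by simp [hq]⟩
        obtain ⟨w, hw0, hw⟩ : ∃ w, w ≠ 0 ∧ ψ w = ε⁻¹ - 1 := by
          by_cases he : ε⁻¹ - 1 = 0
          · obtain ⟨w, hw, hw0⟩ := Submodule.exists_mem_ne_zero_of_ne_bot
              (show LinearMap.ker ψ ≠ ⊥ from fun e => by
                have := LinearMap.finrank_range_add_finrank_ker ψ
                rw [e, finrank_bot] at this
                have := Submodule.finrank_le (LinearMap.range ψ)
                rw [Module.finrank_self] at this
                omega)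
            exact ⟨w, hw0, by rw [LinearMap.mem_ker.1 hw, he]⟩
          · exact ⟨(ε⁻¹ - 1) • q, smul_ne_zero he fun e => by rw [e, map_zero] at hq; exact zero_ne_one hq, by simp [hq]⟩
        refine ⟨ψ, w, hψ0, hw0, hw, ?_⟩
        rcases Nat.eq_zero_or_pos (finrank K (LinearMap.range N)) with h0 | h0
        · refine le_max_of_le_left ((Submodule.finrank_mono ?_).trans (RegUnipProd.finrank_span_singleton_le w))
          rintro _ ⟨p, rfl⟩
          have e : N = 0 := LinearMap.range_eq_bot.1 (Submodule.finrank_eq_zero.1 h0)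
          rw [e, zero_add, LinearMap.smulRight_apply]
          exact Submodule.smul_mem _ _ (Submodule.mem_span_singleton_self w)
        · have := rank_le_of_ker (N := N + (ψ ∘ₗ g).smulRight w) (S := F) (fun p hp => two ψ w (hψF h0) p hp)
          exact le_max_of_le_right (by omega)
      refine next' ψ w hψ hw hψw ?_
      by_cases hk1 : k = 1
      · refine Or.inr ⟨?_, Or.inl hk1⟩
        rw [hk1]
        refine one_of_le hk1 ψ w ?_ hψ hw hψw (hle.trans (max_le le_rfl (by omega)))
        right
        have e : N = 0 := LinearMap.range_eq_bot.1 (Submodule.finrank_eq_zero.1 (by omega))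
        rw [e, zero_add]
        intro h
        refine hψ (LinearMap.ext fun q => ?_)
        obtain ⟨p, rfl⟩ := hsurj q
        have := LinearMap.congr_fun h p
        simpa [hw] using this
      · exact Or.inl ⟨lt_of_le_of_lt hle (max_lt (by omega) (by omega)), by omega⟩
    by_cases hr1 : finrank K (LinearMap.range N) = k
    · -- one to spare
      by_cases hk1 : k = 1
      · by_cases hε1 : ε = 1
        · obtain ⟨z, hz, hz0⟩ := Submodule.exists_mem_ne_zero_of_ne_bot
            (show LinearMap.range N ≠ ⊥ from fun e => by rw [e, finrank_bot] at hr1; omega)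
          obtain ⟨χ, hχ, -⟩ := RegUnipProd.sep (p := (⊥ : Submodule K V)) (x := z) (by simpa using hz0)
          have hspan : LinearMap.range N = Submodule.span K {z} := (Submodule.eq_of_le_of_finrank_eq
            ((Submodule.span_singleton_le_iff_mem _ _).2 hz) (by rw [finrank_span_singleton hz0]; omega)).symm
          have hNφ : N = (χ ∘ₗ N).smulRight z := LinearMap.ext fun q => by
            obtain ⟨a, ha⟩ := Submodule.mem_span_singleton.1 (hspan ▸ LinearMap.mem_range_self N q)
            rw [LinearMap.smulRight_apply, LinearMap.comp_apply, ← ha, map_smul, hχ, smul_eq_mul, mul_one]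
          set φ := χ ∘ₗ N with hφ
          have hg : g = 1 + φ.smulRight z := by rw [← hNφ, hN, add_sub_cancel]
          have hφz : φ z = 0 := by
            have := hg ▸ hdet
            rw [det_rankOne, hε1, one_pow] at this
            linear_combination this
          obtain ⟨a, ha⟩ := RegUnipProd.exists_notMem h4 {0, 1} ((Finset.card_le_two).trans (by norm_num))
          simp only [Finset.mem_insert, Finset.mem_singleton, not_or] at ha
          have hφ0 : φ ≠ 0 := fun e => by
            have h0 : N = 0 := hNφ.trans (by rw [e]; ext; simp)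
            rw [h0, LinearMap.range_zero, finrank_bot] at hr1; omega
          refine ⟨[1 + (a • φ).smulRight z, 1 + ((1 - a) • φ).smulRight z], by simp [hk1], fun R hR => ?_, ?_⟩
          · simp at hR
            rcases hR with rfl | rfl
            · exact ⟨a • φ, z, smul_ne_zero ha.1 hφ0, hz0, by simp [hφz, hε1], rfl⟩
            · exact ⟨(1 - a) • φ, z, smul_ne_zero (sub_ne_zero.2 (Ne.symm ha.2)) hφ0, hz0, by simp [hφz, hε1], rfl⟩
          · rw [hg]
            refine LinearMap.ext fun q => ?_
            simp [hφz]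
            module
        · obtain ⟨ψ, hψ, hψF⟩ := RegUnipProd.sep_proper (p := F) (fun e => by rw [e, finrank_top] at hFr; omega)
          obtain ⟨q, hq⟩ : ∃ q, ψ q ≠ 0 := by
            by_contra h; push Not at h; exact hψ (LinearMap.ext h)
          have he : ε⁻¹ - 1 ≠ 0 := sub_ne_zero.2 fun e => hε1 (inv_eq_one.1 e)
          have hw : ((ε⁻¹ - 1) / ψ q) • q ≠ 0 := smul_ne_zero (div_ne_zero he hq) fun e => hq (by rw [e, map_zero])
          have hψw : ψ (((ε⁻¹ - 1) / ψ q) • q) = ε⁻¹ - 1 := by
            rw [map_smul, smul_eq_mul, div_mul_cancel₀ _ hq]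
          refine next' ψ _ hψ hw hψw (Or.inr ⟨?_, Or.inl hk1⟩)
          rw [hk1]
          refine one_of_le hk1 ψ _ (Or.inl hε1) hψ hw hψw ?_
          have := rank_le_of_ker (N := N + (ψ ∘ₗ g).smulRight (((ε⁻¹ - 1) / ψ q) • q)) (S := F)
            (fun p hp => two ψ _ hψF p hp)
          omega
      obtain ⟨w, hw⟩ : ∃ w, w ∉ F := by
        by_contra h; push Not at h
        rw [Submodule.eq_top_iff'.2 h, finrank_top] at hFr
        omega
      have hw0 : w ≠ 0 := fun e => hw (e ▸ F.zero_mem)
      have hproper : F ⊔ Submodule.span K {w} ≠ ⊤ := fun e => by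
        have := Submodule.finrank_add_le_finrank_add_finrank F (Submodule.span K {w})
        rw [e, finrank_top] at this
        have := RegUnipProd.finrank_span_singleton_le (K := K) w
        omega
      obtain ⟨χ, hχ0, hχ⟩ := RegUnipProd.sep_proper hproper
      have hχF : ∀ p ∈ F, χ p = 0 := fun p hp => hχ p (Submodule.mem_sup_left hp)
      have hχw : χ w = 0 := hχ w (Submodule.mem_sup_right (Submodule.mem_span_singleton_self w))
      obtain ⟨α, hαw, hα⟩ := RegUnipProd.sep hw
      obtain ⟨ψ, ψ', hne, hψ, hψ'⟩ : ∃ ψ ψ' : V →ₗ[K] K, ψ ≠ ψ' ∧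
          (ψ ≠ 0 ∧ ψ w = ε⁻¹ - 1 ∧ ∀ p ∈ F, ψ p = 0) ∧ (ψ' ≠ 0 ∧ ψ' w = ε⁻¹ - 1 ∧ ∀ p ∈ F, ψ' p = 0) := by
        by_cases he : ε⁻¹ - 1 = 0
        · obtain ⟨a, ha⟩ := RegUnipProd.exists_notMem h4 {0, 1} ((Finset.card_le_two).trans (by norm_num))
          simp only [Finset.mem_insert, Finset.mem_singleton, not_or] at ha
          refine ⟨χ, a • χ, fun e => ?_, ⟨hχ0, by rw [hχw, he], hχF⟩,
            ⟨smul_ne_zero ha.1 hχ0, by simp [hχw, he], fun p hp => by simp [hχF p hp]⟩⟩
          have : (a - 1) • χ = 0 := LinearMap.ext fun q => by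
            have := LinearMap.congr_fun e q
            simp only [LinearMap.smul_apply, smul_eq_mul, LinearMap.zero_apply] at this ⊢
            linear_combination -this
          exact hχ0 ((smul_eq_zero.1 this).resolve_left (sub_ne_zero.2 ha.2))
        · have h1 : ((ε⁻¹ - 1) • α) w = ε⁻¹ - 1 := by simp [hαw]
          refine ⟨(ε⁻¹ - 1) • α, (ε⁻¹ - 1) • α + χ, fun e => hχ0 (by simpa using e.symm),
            ⟨fun e => he (by rw [e] at h1; simpa using h1.symm), h1, fun p hp => by simp [hα p hp]⟩,
            ⟨fun e => he ?_, by simp [hαw, hχw], fun p hp => by simp [hα p hp, hχF p hp]⟩⟩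
          have := LinearMap.congr_fun e w
          simpa [hαw, hχw] using this
      obtain ⟨φ, hφ, hor⟩ := succ_choice (by omega : 2 ≤ k) hsurj (S := F) (by omega) hw hne
        (two ψ w hψ.2.2) (two ψ' w hψ'.2.2)
      have hφ' : φ ≠ 0 ∧ φ w = ε⁻¹ - 1 := by
        rcases hφ with rfl | rfl
        exacts [⟨hψ.1, hψ.2.1⟩, ⟨hψ'.1, hψ'.2.1⟩]
      refine next' φ w hφ'.1 hw0 hφ'.2 ?_
      rcases hor with h | ⟨h, hq⟩
      · exact Or.inl ⟨h, by omega⟩
      · exact Or.inr ⟨h, Or.inr (Or.inl hq)⟩
    -- full rank for the count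
    obtain ⟨hrk, hcase⟩ := hst.resolve_left fun h => by omega
    rcases hcase with h | hQ | ⟨hε1, hexc⟩
    · omega
    · obtain ⟨v, hNv, hv⟩ := exists_good_vec hQ
      set w := -(N v) with hw
      have hwF : w ∉ F := fun e => hNv (by have := F.neg_mem e; rwa [hw, neg_neg] at this)
      have hw0 : w ≠ 0 := fun e => hwF (e ▸ F.zero_mem)
      obtain ⟨ψ, hψv, hψw, hψF⟩ := exists_fun (F := F) (v := v) (w := w) ε⁻¹ (ε⁻¹ - 1) hwF (by
        rw [hw, ← Set.neg_singleton, Submodule.span_neg]; exact hv)
      have hgv : g v = v - w := by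
        rw [hw, hN, LinearMap.sub_apply, Module.End.one_apply]; abel
      have kills : ∀ φ : V →ₗ[K] K, (∀ p ∈ F, φ p = 0) → φ v = ε⁻¹ → φ w = ε⁻¹ - 1 →
          ∀ p ∈ F ⊔ Submodule.span K {v}, N p + φ (g p) • w = 0 := by
        intro φ hF1 hv1 hw1 p hp
        obtain ⟨f, hf, y, hy, rfl⟩ := Submodule.mem_sup.1 hp
        obtain ⟨a, rfl⟩ := Submodule.mem_span_singleton.1 hy
        have h0 := two φ w hF1 f hf
        have hv' : φ (g v) = 1 := by rw [hgv, map_sub, hv1, hw1]; ring
        simp only [map_add, map_smul, hv', smul_eq_mul]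
        rw [show N v = -w by rw [hw, neg_neg]]
        linear_combination (norm := module) h0
      have hvF : v ∉ F := fun e => hv (Submodule.mem_sup_left e)
      have hdimS : finrank K (F ⊔ Submodule.span K {v} : Submodule K V) + k = finrank K V := by
        have hdis : F ⊓ Submodule.span K {v} = ⊥ := by
          rw [Submodule.eq_bot_iff]
          rintro p ⟨h1, h2⟩
          obtain ⟨a, rfl⟩ := Submodule.mem_span_singleton.1 h2
          by_contra hne
          exact hvF ((F.smul_mem_iff fun e => hne (by rw [e, zero_smul])).1 h1)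
        have := Submodule.finrank_sup_add_finrank_inf_eq F (Submodule.span K {v})
        rw [hdis, finrank_bot, finrank_span_singleton (fun e => hvF (by rw [e]; exact F.zero_mem))] at this
        omega
      have hψ0 : ψ ≠ 0 := fun e => inv_ne_zero hε (by rw [← hψv, e]; rfl)
      by_cases hk1 : k = 1
      · refine next' ψ w hψ0 hw0 hψw (Or.inr ⟨?_, Or.inl hk1⟩)
        have h1 := rank_le_of_ker (N := N + (ψ ∘ₗ g).smulRight w) (S := F ⊔ Submodule.span K {v})
          (fun p hp => kills ψ hψF hψv hψw p hp)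
        rw [hk1]
        refine one_of_le hk1 ψ w (Or.inr fun e0 => ?_) hψ0 hw0 hψw (by omega)
        have : finrank K (LinearMap.range N) ≤ 1 := by
          rw [eq_neg_of_add_eq_zero_left e0, LinearMap.range_neg]
          refine (Submodule.finrank_mono ?_).trans (RegUnipProd.finrank_span_singleton_le w)
          rintro _ ⟨p, rfl⟩
          exact Submodule.smul_mem _ _ (Submodule.mem_span_singleton_self w)
        omega
      have hproper : F ⊔ Submodule.span K {v} ⊔ Submodule.span K {w} ≠ ⊤ := fun e => by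
        have := Submodule.finrank_add_le_finrank_add_finrank (F ⊔ Submodule.span K {v}) (Submodule.span K {w})
        rw [e, finrank_top] at this
        have := RegUnipProd.finrank_span_singleton_le (K := K) w
        omega
      obtain ⟨χ, hχ0, hχ⟩ := RegUnipProd.sep_proper hproper
      have hχF : ∀ p ∈ F, χ p = 0 := fun p hp => hχ p (Submodule.mem_sup_left (Submodule.mem_sup_left hp))
      have hχv : χ v = 0 := hχ v (Submodule.mem_sup_left (Submodule.mem_sup_right (Submodule.mem_span_singleton_self v)))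
      have hχw : χ w = 0 := hχ w (Submodule.mem_sup_right (Submodule.mem_span_singleton_self w))
      have hwS : w ∉ F ⊔ Submodule.span K {v} := fun e => by
        obtain ⟨f, hf, y, hy, hfy⟩ := Submodule.mem_sup.1 e
        obtain ⟨a, rfl⟩ := Submodule.mem_span_singleton.1 hy
        rcases eq_or_ne a 0 with rfl | ha
        · rw [zero_smul, add_zero] at hfy; exact hwF (hfy ▸ hf)
        · refine hv ?_
          rw [show N v = -w by rw [hw, neg_neg], ← Set.neg_singleton, Submodule.span_neg,
            show v = (-a⁻¹) • f + a⁻¹ • w by rw [← hfy, smul_add, smul_smul, inv_mul_cancel₀ ha]; module]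
          exact add_mem (Submodule.mem_sup_left (F.smul_mem _ hf))
            (Submodule.mem_sup_right (Submodule.smul_mem _ _ (Submodule.mem_span_singleton_self w)))
      have hψ'F : ∀ p ∈ F, (ψ + χ) p = 0 := fun p hp => by simp [hψF p hp, hχF p hp]
      have hψ'v : (ψ + χ) v = ε⁻¹ := by simp [hψv, hχv]
      have hψ'w : (ψ + χ) w = ε⁻¹ - 1 := by simp [hψw, hχw]
      obtain ⟨φ, hφ, hor⟩ := succ_choice (by omega : 2 ≤ k) hsurj hdimS hwS
        (show ψ ≠ ψ + χ from fun e => hχ0 (by simpa using e.symm))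
        (kills ψ hψF hψv hψw) (kills _ hψ'F hψ'v hψ'w)
      have hφ' : φ ≠ 0 ∧ φ w = ε⁻¹ - 1 := by
        rcases hφ with rfl | rfl
        exacts [⟨hψ0, hψw⟩, ⟨fun e => inv_ne_zero hε (by rw [← hψ'v, e]; rfl), hψ'w⟩]
      refine next' φ w hφ'.1 hw0 hφ'.2 ?_
      rcases hor with h | ⟨h, hq⟩
      · exact Or.inl ⟨h, by omega⟩
      · exact Or.inr ⟨h, Or.inr (Or.inl hq)⟩
    · -- diagonal
      obtain ⟨v0, hv0⟩ : ∃ v0, N v0 ≠ 0 := by
        by_contra h; push Not at h
        have : N = 0 := LinearMap.ext h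
        rw [this, LinearMap.range_zero, finrank_bot] at hrk; omega
      set c := ε - 1 with hc
      have hc0 : c ≠ 0 := sub_ne_zero.2 hε1
      set v := N v0 with hv
      have hNv : N v = c • v := LinearMap.congr_fun hexc v0
      have hvF : v ∉ F := fun e => hv0 ((smul_eq_zero.1 (hNv.symm.trans (LinearMap.mem_ker.1 e))).resolve_left hc0)
      obtain ⟨α, hαv, hα⟩ := RegUnipProd.sep hvF
      set ψ := ε⁻¹ • α with hψ
      have hψw : ψ (-(c • v)) = ε⁻¹ - 1 := by
        simp [hψ, hαv, hc]; field_simp
      have hψN : ∀ p, ψ (N p) = c * ψ p := fun p => by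
        have hm : N p - c • p ∈ F := LinearMap.mem_ker.2 (by
          rw [map_sub, map_smul, sub_eq_zero]; exact LinearMap.congr_fun hexc p)
        have := hα _ hm
        rw [map_sub, map_smul, sub_eq_zero] at this
        rw [hψ, LinearMap.smul_apply, LinearMap.smul_apply, this, smul_eq_mul, smul_eq_mul, smul_eq_mul]
        ring
      have hgN : ∀ p, g p = p + N p := fun p => by rw [hN, LinearMap.sub_apply, Module.End.one_apply]; abel
      have hψg : ∀ p, ψ (g p) = ε * ψ p := fun p => by rw [hgN, map_add, hψN, hc]; ring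
      have hψv : ψ v = ε⁻¹ := by simp [hψ, hαv]
      have hkill : ∀ p ∈ F ⊔ Submodule.span K {v}, N p + ψ (g p) • -(c • v) = 0 := by
        intro p hp
        obtain ⟨f, hf, y, hy, rfl⟩ := Submodule.mem_sup.1 hp
        obtain ⟨a, rfl⟩ := Submodule.mem_span_singleton.1 hy
        rw [map_add, map_smul, LinearMap.mem_ker.1 hf, zero_add, hNv, hψg, map_add, map_smul, hψv,
          show ψ f = 0 by rw [hψ, LinearMap.smul_apply, hα f hf, smul_zero], zero_add, smul_eq_mul]
        match_scalars
        field_simp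
        ring
      have hψ0 : ψ ≠ 0 := fun e => inv_ne_zero hε (by rw [← hψv, e]; rfl)
      have hw0 : -(c • v) ≠ 0 := neg_ne_zero.2 (smul_ne_zero hc0 fun e => hvF (e ▸ F.zero_mem))
      refine next' ψ _ hψ0 hw0 hψw ?_
      have h1 := rank_le_of_ker (N := N + (ψ ∘ₗ g).smulRight (-(c • v))) (S := F ⊔ Submodule.span K {v}) hkill
      have h2 : finrank K F < finrank K (F ⊔ Submodule.span K {v} : Submodule K V) :=
        Submodule.finrank_lt_finrank_of_lt (lt_of_le_of_ne le_sup_left fun e =>
          hvF (by rw [e]; exact Submodule.mem_sup_right (Submodule.mem_span_singleton_self v)))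
      rcases lt_or_eq_of_le (show finrank K (LinearMap.range (N + (ψ ∘ₗ g).smulRight (-(c • v)))) ≤ k by omega) with h | h
      · by_cases hk1 : k = 1
        · refine Or.inr ⟨?_, Or.inl hk1⟩
          rw [hk1]
          exact one_of_le hk1 ψ _ (Or.inl hε1) hψ0 hw0 hψw (by omega)
        · exact Or.inl ⟨h, by omega⟩
      · refine Or.inr ⟨h, Or.inr (Or.inr ⟨hε1, LinearMap.ext fun p => ?_⟩)⟩
        simp only [Module.End.mul_apply, LinearMap.add_apply, LinearMap.smulRight_apply, LinearMap.comp_apply,
          LinearMap.smul_apply, map_add, map_smul, map_neg, hψg, hψN, hψv, hNv,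
          show N (N p) = c • N p from LinearMap.congr_fun hexc p]
        match_scalars
        all_goals field_simp
        all_goals ring

end CfsgLib.PSLCover
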