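import Cfsg.Agent.Lib.PSLCover.Pair
import Cfsg.Agent.Lib.SLCommutator.Cyclic

/-! Split cyclic maps with a given list of eigenvalues. -/

set_option autoImplicit false
set_option linter.unusedSectionVars false

namespace CfsgLib.PSLCover

open Module LinearMap Polynomial
open CfsgLib.SLCommutator (Cyc)

universe u v

variable {K : Type u} [Field K] {V : Type v} [AddCommGroup V] [Module K V]

/-- The polynomial of a list of roots. -/
noncomputable def rootPoly (l : List K) : K[X] := (l.map fun r => X - C r).prod

theorem rootPoly_monic (l : List K) : (rootPoly l).Monic :=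
  List.prod_induction Monic (fun _ _ => Monic.mul) monic_one fun p hp => by
    obtain ⟨r, -, rfl⟩ := List.mem_map.1 hp
    exact monic_X_sub_C r

theorem natDegree_rootPoly (l : List K) : (rootPoly l).natDegree = l.length := by
  induction l with
  | nil => simp [rootPoly]
  | cons r l ih =>
    have : rootPoly (r :: l) = (X - C r) * rootPoly l := by simp [rootPoly]
    rw [this, natDegree_mul (X_sub_C_ne_zero r) (rootPoly_monic l).ne_zero, natDegree_X_sub_C, ih,
      List.length_cons, add_comm]

theorem aeval_rootPoly (T : Module.End K V) (l : List K) :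
    aeval T (rootPoly l) = (l.map fun r => T - r • 1).prod := by
  rw [rootPoly, map_list_prod, List.map_map]
  congr 1
  refine List.map_congr_left fun r _ => ?_
  simp [Algebra.algebraMap_eq_smul_one]

theorem rootPoly_perm {l l' : List K} (h : l.Perm l') : rootPoly l = rootPoly l' :=
  (h.map _).prod_eq

/-- Split, cyclic, with eigenvalue list `l`. -/
def RegL (T : Module.End K V) (l : List K) : Prop :=
  l.length = finrank K V ∧ (l.map fun r => T - r • 1).prod = 0 ∧
    ∀ (r : K) (v w : V), T v = r • v → T w = r • w → w ≠ 0 → v ∈ Submodule.span K {w}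

theorem RegL.perm {T : Module.End K V} {l l' : List K} (h : RegL T l) (hp : l.Perm l') : RegL T l' := by
  refine ⟨hp.length_eq ▸ h.1, ?_, h.2.2⟩
  rw [← aeval_rootPoly, ← rootPoly_perm hp, aeval_rootPoly]
  exact h.2.1

theorem RegL.conj {V' : Type*} [AddCommGroup V'] [Module K V'] {T : Module.End K V} {l : List K} (h : RegL T l)
    (e : V ≃ₗ[K] V') : RegL (e.conj T) l := by
  refine ⟨h.1.trans e.finrank_eq, ?_, fun r v w hv hw hw0 => ?_⟩
  · have : ∀ m : List K, (m.map fun r => e.conj T - r • 1).prod = e.conj ((m.map fun r => T - r • 1).prod) := by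
      intro m
      induction m with
      | nil => exact LinearMap.ext fun v => by simp [LinearEquiv.conj_apply]
      | cons r m ih =>
        refine LinearMap.ext fun v => ?_
        rw [List.map_cons, List.prod_cons, ih, List.map_cons, List.prod_cons]
        simp [LinearEquiv.conj_apply, map_sub, map_smul]
    rw [this, h.2.1, map_zero]
  · have key : ∀ p, (e.conj T) p = r • p → T (e.symm p) = r • e.symm p := fun p hp => by
      rw [LinearEquiv.conj_apply_apply, ← LinearEquiv.eq_symm_apply, map_smul] at hp
      exact hp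
    obtain ⟨a, ha⟩ := Submodule.mem_span_singleton.1 (h.2.2 r _ _ (key v hv) (key w hw)
      fun e0 => hw0 (by simpa using congrArg e e0))
    exact Submodule.mem_span_singleton.2 ⟨a, by simpa using congrArg e ha⟩

/-- An invariant part and its quotient. -/
theorem RegL.glue {W Q : Type*} [AddCommGroup W] [Module K W] [AddCommGroup Q] [Module K Q] [FiniteDimensional K V]
    {T : Module.End K V} {A : Module.End K W} {B : Module.End K Q} {l l' : List K} (hA : RegL A l) (hB : RegL B l')
    (i : W →ₗ[K] V) (π : V →ₗ[K] Q) (hi : Function.Injective i) (hπ : Function.Surjective π)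
    (hex : LinearMap.range i = LinearMap.ker π) (hTi : ∀ w, T (i w) = i (A w)) (hTπ : ∀ v, π (T v) = B (π v))
    (hsep : ∀ (s : K) (v : V) (w : W), T v = s • v → π v ≠ 0 → A w = s • w → w = 0) : RegL T (l ++ l') := by
  have hz : ∀ w, π (i w) = 0 := fun w => LinearMap.mem_ker.1 (hex ▸ LinearMap.mem_range_self i w)
  refine ⟨?_, ?_, fun s v v' hv hv' hv0 => ?_⟩
  · have := LinearMap.finrank_range_add_finrank_ker π
    rw [← hex, LinearMap.range_eq_top.2 hπ, finrank_top, LinearMap.finrank_range_of_inj hi] at this
    rw [List.length_append, hA.1, hB.1]; omega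
  · rw [List.map_append, List.prod_append]
    have e1 : ∀ (m : List K) v, π ((m.map fun r => T - r • 1).prod v) = (m.map fun r => B - r • 1).prod (π v) := by
      intro m v
      induction m with
      | nil => simp
      | cons r m ih => simp [← ih, hTπ, map_sub, map_smul]
    have e2 : ∀ (m : List K) w, (m.map fun r => T - r • 1).prod (i w) = i ((m.map fun r => A - r • 1).prod w) := by
      intro m w
      induction m with
      | nil => simp
      | cons r m ih => simp [ih, hTi, map_sub, map_smul]
    refine LinearMap.ext fun v => ?_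
    obtain ⟨w, hw⟩ : (l'.map fun r => T - r • 1).prod v ∈ LinearMap.range i := by
      rw [hex, LinearMap.mem_ker, e1, hB.2.1, LinearMap.zero_apply]
    rw [Module.End.mul_apply, ← hw, e2, hA.2.1, LinearMap.zero_apply, map_zero, LinearMap.zero_apply]
  · have inW : ∀ p, T p = s • p → π p = 0 → ∃ w, i w = p ∧ A w = s • w := fun p hp hp' => by
      obtain ⟨w, rfl⟩ : p ∈ LinearMap.range i := by rw [hex]; exact hp'
      exact ⟨w, rfl, hi (by rw [← hTi, hp, map_smul])⟩
    by_cases hw : π v' = 0
    · obtain ⟨w, rfl, hw'⟩ := inW v' hv' hw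
      have hvW : π v = 0 := by
        by_contra h
        exact hv0 (by rw [hsep s v w hv h hw', map_zero])
      obtain ⟨p, rfl, hp⟩ := inW v hv hvW
      obtain ⟨a, ha⟩ := Submodule.mem_span_singleton.1 (hA.2.2 s p w hp hw' fun e => hv0 (by rw [e, map_zero]))
      exact Submodule.mem_span_singleton.2 ⟨a, by rw [← map_smul, ha]⟩
    · obtain ⟨a, ha⟩ := Submodule.mem_span_singleton.1 (hB.2.2 s (π v) (π v') (by rw [← hTπ, hv, map_smul])
        (by rw [← hTπ, hv', map_smul]) hw)
      obtain ⟨p, hp, hp'⟩ := inW (v - a • v') (by rw [map_sub, map_smul, hv, hv', smul_sub, smul_comm])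
        (by rw [map_sub, map_smul, ha, sub_self])
      rw [hsep s v' p hv' hw hp', map_zero, eq_comm, sub_eq_zero] at hp
      exact Submodule.mem_span_singleton.2 ⟨a, hp.symm⟩

theorem aeval_comp_restrict (T : Module.End K V) {p : Submodule K V} (hp : ∀ x ∈ p, T x ∈ p) (l : List K) (x : p) :
    (((l.map fun r => T.restrict hp - r • 1).prod x : p) : V) = (l.map fun r => T - r • 1).prod (x : V) := by
  induction l with
  | nil => simp
  | cons r l ih => simp [ih, LinearMap.restrict_apply]

variable [FiniteDimensional K V]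

/-- Eigenspaces of dimension one and a split annihilator give a cyclic vector. -/
theorem exists_cyclic : ∀ (n : ℕ) {V : Type v} [AddCommGroup V] [Module K V] [FiniteDimensional K V]
    (T : Module.End K V) (l : List K), finrank K V = n → (l.map fun r => T - r • 1).prod = 0 →
    (∀ (r : K) (v w : V), T v = r • v → T w = r • w → w ≠ 0 → v ∈ Submodule.span K {w}) →
    ∃ v, Cyc T v := by
  intro n
  induction n with
  | zero =>
    intro V _ _ _ T l hn _ _
    exact ⟨0, fun p _ _ => Submodule.eq_top_of_finrank_eq (by have := Submodule.finrank_le p; omega)⟩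
  | succ n ih =>
    intro V _ _ _ T l hn hann heig
    -- some root has an eigenvector
    obtain ⟨r, u, hu0, hu⟩ : ∃ (r : K) (u : V), u ≠ 0 ∧ T u = r • u := by
      haveI : Nontrivial V := Module.nontrivial_of_finrank_pos (R := K) (by omega)
      obtain ⟨w, hw⟩ := exists_ne (0 : V)
      have key : ∀ m : List K, (m.map fun r => T - r • 1).prod w = 0 →
          ∃ (r : K) (u : V), u ≠ 0 ∧ T u = r • u := by
        intro m
        induction m with
        | nil => intro h; exact absurd (by simpa using h) hw
        | cons r m ihm =>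
          intro h
          rw [List.map_cons, List.prod_cons, Module.End.mul_apply] at h
          by_cases h0 : (m.map fun r => T - r • 1).prod w = 0
          · exact ihm h0
          · exact ⟨r, _, h0, RegUnipProd.mem_eigKer.1 (LinearMap.mem_ker.2 h)⟩
      exact key l (by rw [hann, LinearMap.zero_apply])
    set I := LinearMap.range (T - r • 1) with hI
    have hker : LinearMap.ker (T - r • 1) = Submodule.span K {u} := le_antisymm
      (fun v hv => heig r v u (RegUnipProd.mem_eigKer.1 hv) hu hu0)
      ((Submodule.span_singleton_le_iff_mem _ _).2 (RegUnipProd.mem_eigKer.2 hu))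
    have hIdim : finrank K I = n := by
      have := LinearMap.finrank_range_add_finrank_ker (T - r • 1)
      rw [hker, finrank_span_singleton hu0, hn] at this
      rw [hI]; omega
    have hTI : ∀ x ∈ I, T x ∈ I := by
      rintro _ ⟨y, rfl⟩
      exact ⟨T y, by simp [map_sub, map_smul]⟩
    obtain ⟨w, hw⟩ := ih (V := I) (T.restrict hTI) l hIdim
      (LinearMap.ext fun x => Subtype.ext (by rw [aeval_comp_restrict, hann]; rfl))
      (fun s v v' hv hv' hv0 => by
        obtain ⟨a, ha⟩ := Submodule.mem_span_singleton.1 (heig s (v : V) v' (congrArg Subtype.val hv)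
          (congrArg Subtype.val hv') fun e => hv0 (Subtype.ext e))
        exact Submodule.mem_span_singleton.2 ⟨a, Subtype.ext ha⟩)
    obtain ⟨v, hv⟩ := w.2
    -- a preimage outside the image
    obtain ⟨v1, hv1, hv1I⟩ : ∃ v1, (T - r • 1) v1 = (w : V) ∧ v1 ∉ I := by
      by_cases hvI : v ∈ I
      swap
      · exact ⟨v, hv, hvI⟩
      by_cases huI : u ∈ I
      swap
      · refine ⟨v + u, ?_, fun h => huI ?_⟩
        · rw [map_add, hv, LinearMap.mem_ker.1 (RegUnipProd.mem_eigKer.2 hu), add_zero]
        · simpa using I.sub_mem h hvI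
      exfalso
      set J := LinearMap.range ((T - r • 1).restrict (p := I) (q := I)
        fun x hx => by simpa using I.sub_mem (hTI x hx) (I.smul_mem r hx)) with hJ
      have hJtop : J = ⊤ := hw J (fun x hx => by
        obtain ⟨y, rfl⟩ := hx
        exact ⟨T.restrict hTI y, Subtype.ext (by simp [LinearMap.restrict_apply, map_sub, map_smul])⟩)
        ⟨⟨v, hvI⟩, Subtype.ext hv⟩
      have hsurj := LinearMap.range_eq_top.1 (hJ ▸ hJtop)
      have hinj := LinearMap.injective_iff_surjective.2 hsurj
      have : (⟨u, huI⟩ : I) = 0 := hinj (Subtype.ext (by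
        simp [LinearMap.restrict_apply, hu]))
      exact hu0 (congrArg Subtype.val this)
    refine ⟨v1, fun p hp hv1p => ?_⟩
    have hwp : (w : V) ∈ p := hv1 ▸ by simpa using p.sub_mem (hp v1 hv1p) (p.smul_mem r hv1p)
    have hIp : I ≤ p := fun x hx => by
      have := hw (p.comap I.subtype) (fun y hy => hp _ hy) hwp
      exact (this ▸ Submodule.mem_top : (⟨x, hx⟩ : I) ∈ p.comap I.subtype)
    refine Submodule.eq_top_of_finrank_eq (le_antisymm (Submodule.finrank_le p) ?_)
    have hlt : I < p := lt_of_le_of_ne hIp fun e => hv1I (e ▸ hv1p)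
    have := Submodule.finrank_lt_finrank_of_lt hlt
    omega

/-- The orbit of a cyclic vector under a monic annihilator. -/
theorem orbit_equiv {T : Module.End K V} {v : V} (hv : Cyc T v) {q : K[X]} (hq : q.Monic)
    (hd : q.natDegree = finrank K V) (h0 : aeval T q v = 0) :
    ∃ φ : degreeLT K q.natDegree ≃ₗ[K] V, (∀ p : degreeLT K q.natDegree, φ p = aeval T (p : K[X]) v) ∧
      ∀ (p : degreeLT K q.natDegree) (hp : (X * (p : K[X])) %ₘ q ∈ degreeLT K q.natDegree),
        T (φ p) = φ ⟨(X * (p : K[X])) %ₘ q, hp⟩ := by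
  have hmem : ∀ p : K[X], p %ₘ q ∈ degreeLT K q.natDegree := fun p => by
    rw [mem_degreeLT, ← degree_eq_natDegree hq.ne_zero]
    exact degree_modByMonic_lt _ hq
  have hmod : ∀ p : K[X], aeval T (p %ₘ q) v = aeval T p v := fun p => by
    rw [modByMonic_eq_sub_mul_div _ q, map_sub, LinearMap.sub_apply, mul_comm q, map_mul _ _ q,
      Module.End.mul_apply, h0, map_zero, sub_zero]
  let φ : degreeLT K q.natDegree →ₗ[K] V :=
    { toFun := fun p => aeval T (p : K[X]) v
      map_add' := fun p p' => by simp
      map_smul' := fun c p => by simp }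
  have hstep : ∀ p : degreeLT K q.natDegree, T (φ p) = φ ⟨(X * (p : K[X])) %ₘ q, hmem _⟩ := fun p => by
    show T (aeval T (p : K[X]) v) = aeval T ((X * (p : K[X])) %ₘ q) v
    rw [hmod, map_mul, aeval_X, Module.End.mul_apply]
  have hsurj : Function.Surjective φ := LinearMap.range_eq_top.1 (hv _
    (by rintro _ ⟨p, rfl⟩; exact ⟨_, (hstep p).symm⟩)
    ⟨⟨(1 : K[X]) %ₘ q, hmem _⟩, by show aeval T ((1 : K[X]) %ₘ q) v = v; rw [hmod, map_one]; rfl⟩)
  have hfr : finrank K (degreeLT K q.natDegree) = finrank K V := by
    rw [(degreeLTEquiv K q.natDegree).finrank_eq, Module.finrank_fin_fun, hd]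
  haveI : FiniteDimensional K (degreeLT K q.natDegree) := (degreeLTEquiv K q.natDegree).symm.finiteDimensional
  refine ⟨LinearEquiv.ofBijective φ ⟨(LinearMap.injective_iff_surjective_of_finrank_eq_finrank hfr).2 hsurj,
    hsurj⟩, fun p => rfl, fun p hp => hstep p⟩

/-- Cyclic maps with the same annihilator are similar. -/
theorem conj_of_cyclic {V' : Type v} [AddCommGroup V'] [Module K V'] [FiniteDimensional K V'] {T : Module.End K V}
    {T' : Module.End K V'} {v : V} {v' : V'} (hv : Cyc T v) (hv' : Cyc T' v') {q : K[X]} (hq : q.Monic)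
    (hd : q.natDegree = finrank K V) (hd' : q.natDegree = finrank K V') (h0 : aeval T q v = 0)
    (h0' : aeval T' q v' = 0) : ∃ e : V ≃ₗ[K] V', e v = v' ∧ ∀ p, T' (e p) = e (T p) := by
  obtain ⟨φ, hφ0, hφ⟩ := orbit_equiv hv hq hd h0
  obtain ⟨ψ, hψ0, hψ⟩ := orbit_equiv hv' hq hd' h0'
  have hmod : ∀ {W : Type v} [AddCommGroup W] [Module K W] (S : Module.End K W) (w : W), aeval S q w = 0 →
      aeval S ((1 : K[X]) %ₘ q) w = w := fun S w h => by
    rw [modByMonic_eq_sub_mul_div _ q, map_sub, LinearMap.sub_apply, mul_comm q, map_mul _ _ q,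
      Module.End.mul_apply, h, map_zero, sub_zero, map_one, Module.End.one_apply]
  refine ⟨φ.symm ≪≫ₗ ψ, ?_, fun p => ?_⟩
  · have hmem : (1 : K[X]) %ₘ q ∈ degreeLT K q.natDegree := by
      rw [mem_degreeLT, ← degree_eq_natDegree hq.ne_zero]
      exact degree_modByMonic_lt _ hq
    have e1 : φ ⟨_, hmem⟩ = v := by rw [hφ0]; exact hmod T v h0
    rw [LinearEquiv.trans_apply, ← e1, LinearEquiv.symm_apply_apply, hψ0]
    exact hmod T' v' h0'
  obtain ⟨a, rfl⟩ := φ.surjective p
  have hp : (X * (a : K[X])) %ₘ q ∈ degreeLT K q.natDegree := by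
    rw [mem_degreeLT, ← degree_eq_natDegree hq.ne_zero]
    exact degree_modByMonic_lt _ hq
  rw [hφ a hp, LinearEquiv.trans_apply, LinearEquiv.trans_apply, LinearEquiv.symm_apply_apply,
    LinearEquiv.symm_apply_apply, hψ a hp]

theorem RegL.isConj {T T' : Module.End K V} {l l' : List K} (h : RegL T l) (h' : RegL T' l') (hp : l.Perm l') :
    ConjIn (Set.univ : Set K) T T' := by
  obtain ⟨v, hv⟩ := exists_cyclic _ T l rfl h.2.1 h.2.2
  obtain ⟨v', hv'⟩ := exists_cyclic _ T' l' rfl h'.2.1 h'.2.2
  obtain ⟨e, -, he⟩ := conj_of_cyclic hv hv' (rootPoly_monic l) ((natDegree_rootPoly l).trans h.1)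
    ((natDegree_rootPoly l).trans h.1) (by rw [aeval_rootPoly, h.2.1, LinearMap.zero_apply])
    (by rw [rootPoly_perm hp, aeval_rootPoly, h'.2.1, LinearMap.zero_apply])
  exact ⟨e, Set.mem_univ _, he⟩

/-- A root occurring once gives an eigenvector outside the image. -/
theorem RegL.exists_simple {T : Module.End K V} {r : K} {l : List K} (h : RegL T (r :: l)) (hr : r ∉ l) :
    ∃ u, u ≠ 0 ∧ T u = r • u ∧ u ∉ LinearMap.range (T - r • 1) := by
  have hn : finrank K V = l.length + 1 := by rw [← h.1, List.length_cons]
  have hann := h.2.1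
  rw [List.map_cons, List.prod_cons] at hann
  by_cases hinj : LinearMap.ker (T - r • 1) = ⊥
  · exfalso
    have h0 : (l.map fun r => T - r • 1).prod = 0 := LinearMap.ext fun v => LinearMap.ker_eq_bot.1 hinj (by
      rw [← Module.End.mul_apply, hann]; simp)
    obtain ⟨v, hv⟩ := exists_cyclic _ T l rfl h0 h.2.2
    have hle : (degreeLT K l.length).map
        ((LinearMap.applyₗ v).comp (aeval T).toLinearMap) = ⊤ := by
      refine hv _ ?_ ?_
      · rintro _ ⟨p, hp, rfl⟩
        refine ⟨(X * p) %ₘ rootPoly l, ?_, ?_⟩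
        · show _ ∈ degreeLT K l.length
          rw [← natDegree_rootPoly l, mem_degreeLT, ← degree_eq_natDegree (rootPoly_monic l).ne_zero]
          exact degree_modByMonic_lt _ (rootPoly_monic l)
        · show aeval T ((X * p) %ₘ rootPoly l) v = T (aeval T p v)
          rw [modByMonic_eq_sub_mul_div _ (rootPoly l), map_sub, LinearMap.sub_apply, map_mul _ (rootPoly l),
            aeval_rootPoly, h0, zero_mul, LinearMap.zero_apply, sub_zero, map_mul, aeval_X, Module.End.mul_apply]
      · rcases List.eq_nil_or_concat l with rfl | ⟨l', a, rfl⟩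
        · simp at h0
          rw [show v = (0 : Module.End K V) v from by rw [← h0]; rfl, LinearMap.zero_apply]
          exact zero_mem _
        · refine ⟨1, mem_degreeLT.2 ?_, by simp⟩
          rw [degree_one, List.length_concat]
          exact_mod_cast Nat.succ_pos _
    haveI : FiniteDimensional K (degreeLT K l.length) := (degreeLTEquiv K l.length).symm.finiteDimensional
    have := Submodule.finrank_map_le ((LinearMap.applyₗ v).comp (aeval T).toLinearMap) (degreeLT K l.length)
    rw [hle, finrank_top, (degreeLTEquiv K l.length).finrank_eq, Module.finrank_fin_fun] at this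
    omega
  obtain ⟨u, hu, hu0⟩ := Submodule.exists_mem_ne_zero_of_ne_bot hinj
  have hTu : T u = r • u := RegUnipProd.mem_eigKer.1 hu
  refine ⟨u, hu0, hTu, ?_⟩
  rintro ⟨w, hw⟩
  have key : ∀ m : List K, ((m.map fun s => T - s • 1).prod) u = ((m.map fun s => r - s).prod) • u := by
    intro m
    induction m with
    | nil => simp
    | cons s m ih => simp [ih, map_smul, hTu, sub_smul, smul_smul, mul_comm]; module
  have hcom : (T - r • 1) * (l.map fun s => T - s • 1).prod = (l.map fun s => T - s • 1).prod * (T - r • 1) := by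
    rw [← aeval_rootPoly]
    have := congrArg (aeval T) (mul_comm (X - C r) (rootPoly l))
    simpa [Algebra.algebraMap_eq_smul_one] using this
  have h1 : (l.map fun s => T - s • 1).prod u = 0 := by
    rw [← hw, ← Module.End.mul_apply, ← hcom, hann, LinearMap.zero_apply]
  rw [key, smul_eq_zero, or_iff_left hu0, List.prod_eq_zero_iff, List.mem_map] at h1
  obtain ⟨s, hs, hrs⟩ := h1
  exact hr (sub_eq_zero.1 hrs ▸ hs)

theorem RegL.fullDet {T : Module.End K V} {r : K} {l m : List K} (h : RegL T m) (hp : m.Perm (r :: l)) (hr : r ∉ l) :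
    FullDet T := by
  obtain ⟨u, -, hu, hur⟩ := (h.perm hp).exists_simple hr
  exact fullDet_of_eigen hu hur

/-- Inverse. -/
theorem RegL.inv {T T' : Module.End K V} {l : List K} (h : RegL T l) (h1 : ∀ v, T (T' v) = v) (h2 : ∀ v, T' (T v) = v)
    (hl : ∀ r ∈ l, r ≠ 0) : RegL T' (l.map fun r => r⁻¹) := by
  refine ⟨by rw [List.length_map]; exact h.1, ?_, fun r v w hv hw hw0 => ?_⟩
  · have key : ∀ m : List K, (∀ r ∈ m, r ≠ 0) → ((m.map fun r => r⁻¹).map fun r => T' - r • 1).prod =
        (m.map fun r => -r⁻¹).prod • (T' ^ m.length * (m.map fun r => T - r • 1).prod) := by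
      intro m hm
      induction m with
      | nil => simp
      | cons r m ih =>
        have hr : r ≠ 0 := hm r List.mem_cons_self
        have hc : (T - r • 1) * T' ^ m.length = T' ^ m.length * (T - r • 1) := by
          refine (Commute.pow_right ?_ _).eq
          exact LinearMap.ext fun v => by simp [h1, h2, map_sub, map_smul]
        have e : T' - r⁻¹ • 1 = (-r⁻¹) • (T' * (T - r • 1)) := LinearMap.ext fun v => by
          simp [h2, smul_sub, smul_smul, hr]
        rw [List.map_cons, List.map_cons, List.prod_cons, ih fun r hr => hm r (List.mem_cons_of_mem _ hr), e,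
          List.map_cons, List.prod_cons, List.map_cons, List.prod_cons, List.length_cons, pow_succ',
          smul_mul_smul_comm, mul_assoc, mul_assoc, ← mul_assoc (T - r • 1), hc, mul_assoc]
    rw [key l hl, h.2.1, mul_zero, smul_zero]
  · have key : ∀ p, T' p = r • p → p ≠ 0 → r ≠ 0 ∧ T p = r⁻¹ • p := fun p hp hp0 => by
      have hr : r ≠ 0 := fun e => hp0 (by rw [← h1 p, hp, e, zero_smul, map_zero])
      refine ⟨hr, ?_⟩
      conv_rhs => rw [← h1 p, hp, map_smul, smul_smul, inv_mul_cancel₀ hr, one_smul]
    rcases eq_or_ne v 0 with rfl | hv0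
    · exact zero_mem _
    exact h.2.2 r⁻¹ v w (key v hv hv0).2 (key w hw hw0).2 hw0

theorem RegL.smul {T : Module.End K V} {l : List K} (h : RegL T l) {c : K} (hc : c ≠ 0) :
    RegL (c • T) (l.map fun r => c * r) := by
  refine ⟨by rw [List.length_map]; exact h.1, ?_, fun r v w hv hw hw0 => ?_⟩
  · have key : ∀ m : List K, ((m.map fun r => c * r).map fun r => c • T - r • 1).prod =
        c ^ m.length • (m.map fun r => T - r • 1).prod := by
      intro m
      induction m with
      | nil => simp
      | cons r m ih =>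
        rw [List.map_cons, List.map_cons, List.prod_cons, ih, List.map_cons, List.prod_cons, List.length_cons,
          pow_succ', mul_smul c r, ← smul_sub, smul_mul_smul_comm]
    rw [key, h.2.1, smul_zero]
  · have key : ∀ p, (c • T) p = r • p → T p = (c⁻¹ * r) • p := fun p hp => by
      rw [mul_smul, ← hp, LinearMap.smul_apply, smul_smul, inv_mul_cancel₀ hc, one_smul]
    exact h.2.2 _ v w (key v hv) (key w hw) hw0

end CfsgLib.PSLCover
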