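import Cfsg.Agent.Lib.PSLCover.ScalarStep
import Cfsg.Agent.Lib.PSLCover.Complement

/-! An irreducible subspace of half the dimension. -/

set_option autoImplicit false
set_option linter.unusedSectionVars false

namespace CfsgLib.PSLCover

open Module LinearMap Polynomial

universe u v

variable {K : Type u} [Field K] {V : Type v} [AddCommGroup V] [Module K V] [FiniteDimensional K V]

theorem quot_no_eigen {x : Module.End K V} (hno : ∀ (a : K) (v : V), x v = a • v → v = 0) {W : Submodule K V}
    (hW : ∀ w ∈ W, x w ∈ W) : ∀ (a : K) (t : V ⧸ W), W.mapQ W x hW t = a • t → t = 0 := fun a t ht => by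
  obtain ⟨v, rfl⟩ := W.mkQ_surjective t
  rw [Submodule.mkQ_apply, Submodule.mapQ_apply, ← Submodule.Quotient.mk_smul, Submodule.Quotient.eq] at ht
  rw [Submodule.mkQ_apply, Submodule.Quotient.mk_eq_zero]
  have hinj : Function.Injective (x - a • (1 : Module.End K V) : Module.End K V) :=
    (injective_iff_map_eq_zero _).2 fun z hz => hno a z (RegUnipProd.mem_eigKer.1 (LinearMap.mem_ker.2 hz))
  have hmap : W.map (x - a • (1 : Module.End K V) : Module.End K V) = W := by
    refine Submodule.eq_of_le_of_finrank_eq ?_ (Submodule.equivMapOfInjective _ hinj W).finrank_eq.symm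
    rintro _ ⟨z, hz, rfl⟩
    rw [RegUnipProd.sub_smul_one_apply]
    exact W.sub_mem (hW z hz) (W.smul_mem a hz)
  obtain ⟨b, hb, hbv⟩ : x v - a • v ∈ W.map (x - a • (1 : Module.End K V) : Module.End K V) := hmap.symm ▸ ht
  have : b = v := hinj (by rw [hbv, RegUnipProd.sub_smul_one_apply])
  exact this ▸ hb

/-- An irreducible map has irreducible minimal polynomial of full degree. -/
theorem minpoly_of_irr [Nontrivial V] {A : Module.End K V}
    (hirr : ∀ p : Submodule K V, (∀ w ∈ p, A w ∈ p) → p = ⊥ ∨ p = ⊤) :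
    Irreducible (minpoly K A) ∧ (minpoly K A).natDegree = finrank K V := by
  have hint := Algebra.IsIntegral.isIntegral (R := K) A
  have hinj : ∀ p : K[X], aeval A p ≠ 0 → LinearMap.ker (aeval A p) = ⊥ := fun p hp =>
    (hirr _ (aeval_invariant p)).resolve_right fun e => hp (LinearMap.ker_eq_top.1 e)
  refine ⟨⟨minpoly.not_isUnit K A, fun a b hab => ?_⟩, ?_⟩
  · by_contra hcon
    push Not at hcon
    have ha : a ≠ 0 := fun e => minpoly.ne_zero hint (by rw [hab, e, zero_mul])
    have hb : b ≠ 0 := fun e => minpoly.ne_zero hint (by rw [hab, e, mul_zero])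
    have hdeg := natDegree_mul ha hb
    rw [← hab] at hdeg
    have hpos : ∀ c : K[X], c ≠ 0 → ¬ IsUnit c → 1 ≤ c.natDegree := fun c hc hu => by
      by_contra h
      exact hu (isUnit_iff_degree_eq_zero.2 (by rw [degree_eq_natDegree hc, show c.natDegree = 0 by omega]; rfl))
    have := hpos a ha hcon.1
    have := hpos b hb hcon.2
    have hne : ∀ c : K[X], c ≠ 0 → c.natDegree < (minpoly K A).natDegree → aeval A c ≠ 0 := fun c hc hd h0 => by
      have := natDegree_le_of_dvd (minpoly.dvd K A h0) hc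
      omega
    obtain ⟨v, hv⟩ := exists_ne (0 : V)
    have h0 := LinearMap.congr_fun (minpoly.aeval K A) v
    rw [hab, map_mul, Module.End.mul_apply, LinearMap.zero_apply] at h0
    have h1 := (Submodule.eq_bot_iff _).1 (hinj a (hne a ha (by omega))) _ (LinearMap.mem_ker.2 h0)
    exact hv ((Submodule.eq_bot_iff _).1 (hinj b (hne b hb (by omega))) v (LinearMap.mem_ker.2 h1))
  · obtain ⟨v, C, hv, hC, -, hdim⟩ := exists_complement A
    rcases hirr C hC with e | e
    · rw [e, finrank_bot] at hdim; omega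
    · rw [e, finrank_top] at hdim
      have := minpoly.natDegree_pos hint
      omega

theorem scalar_half [Finite K] (h4 : ∃ k : Fin 4 → K, Function.Injective k) {x : Module.End K V}
    (hdx : LinearMap.det x = 1) (hno : ∀ (a : K) (v : V), x v = a • v → v = 0) {W : Submodule K V}
    (hW : ∀ w ∈ W, x w ∈ W) (hA : Irr (x.restrict hW)) {d : ℕ} (hWd : finrank K W = d)
    (hn : finrank K V = d + d) (hd : 3 ≤ d) :
    ∃ lam : K, lam ^ finrank K V = 1 ∧ IsProd ({1} : Set K) x (lam • 1) (finrank K V) := by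
  classical
  haveI : Nontrivial W := Module.nontrivial_of_finrank_pos (R := K) (by omega)
  set A := x.restrict hW with hAdef
  set x' := W.mapQ W x hW with hx'def
  have hsum := Submodule.finrank_quotient_add_finrank W
  haveI : Nontrivial (V ⧸ W) := Module.nontrivial_of_finrank_pos (R := K) (by omega)
  obtain ⟨φ, hφ, hφ'⟩ := exists_split W
  obtain ⟨r, hr⟩ := conj_eq_blk φ hφ hφ' x hW
  have hdblk : LinearMap.det A * LinearMap.det x' = 1 := by
    rw [← hdx, ← LinearMap.det_conj x φ]
    show _ = LinearMap.det (φ.conj x)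
    rw [hr, det_blk]
  have hdA : LinearMap.det A ≠ 0 := left_ne_zero_of_mul_eq_one hdblk
  have hdx' : LinearMap.det x' ≠ 0 := right_ne_zero_of_mul_eq_one hdblk
  obtain ⟨k, hk⟩ : ∃ k, k = d + d - 2 := ⟨_, rfl⟩
  -- either the centraliser is large or the two blocks have the same determinant
  have hor : FullDet x ∨ LinearMap.det A * LinearMap.det A = 1 := by
    obtain ⟨hfA, hfd⟩ := minpoly_of_irr hA
    set f := minpoly K A with hf
    set q := minpoly K x' with hq
    have hpow : ∀ (p : K[X]) (v : V), aeval x' p (Submodule.Quotient.mk v) = Submodule.Quotient.mk (aeval x p v) := by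
      intro p
      induction p using Polynomial.induction_on' with
      | add p q hp hq => intro v; simp [map_add, hp, hq]
      | monomial n a =>
        intro v
        simp only [aeval_monomial, Algebra.algebraMap_eq_smul_one, smul_mul_assoc, one_mul, LinearMap.smul_apply,
          Submodule.Quotient.mk_smul]
        congr 1
        induction n with
        | zero => simp
        | succ n ih => rw [pow_succ', pow_succ', Module.End.mul_apply, Module.End.mul_apply, ih]; simp [hx'def]
    by_cases hdvd : f ∣ q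
    · right
      have hqd : q.natDegree ≤ d := by
        have := natDegree_minpoly_le x'
        rw [← hq] at this
        omega
      have hfq : f = q := (eq_of_monic_of_dvd_of_natDegree_le (minpoly.monic (Algebra.IsIntegral.isIntegral A))
        (minpoly.monic (Algebra.IsIntegral.isIntegral x')) hdvd (by rw [hfd, hWd]; exact hqd)).symm
      have cp : ∀ {U : Type v} [AddCommGroup U] [Module K U] [FiniteDimensional K U] (y : Module.End K U),
          (minpoly K y).natDegree = finrank K U → LinearMap.det y = (-1) ^ finrank K U * (minpoly K y).coeff 0 := by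
        intro U _ _ _ y hy
        have e : LinearMap.charpoly y = minpoly K y := (eq_of_monic_of_dvd_of_natDegree_le
          (minpoly.monic (Algebra.IsIntegral.isIntegral y)) (LinearMap.charpoly_monic y) (LinearMap.minpoly_dvd_charpoly y)
          (by rw [hy, LinearMap.charpoly_natDegree]))
        rw [← e]
        exact LinearMap.det_eq_sign_charpoly_coeff y
      have hQd : finrank K (V ⧸ W) = d := by omega
      have : LinearMap.det x' = LinearMap.det A := by
        rw [cp x' (by rw [← hq, ← hfq, hfd, hWd, hQd]), cp A hfd, ← hq, ← hfq, hQd, hWd]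
      rwa [this] at hdblk
    · left
      refine fullDet_of_simple_factor hfA ((hfA.coprime_iff_not_dvd).2 hdvd) (LinearMap.ext fun v => ?_) fun h0 => ?_
      · rw [map_mul, Module.End.mul_apply, LinearMap.zero_apply]
        have hm : aeval x q v ∈ W := by
          rw [← Submodule.Quotient.mk_eq_zero, ← hpow, minpoly.aeval, LinearMap.zero_apply]
        have := aeval_restrict hW f ⟨_, hm⟩
        rw [show aeval (x.restrict hW) f = 0 from minpoly.aeval K A, LinearMap.zero_apply, Submodule.coe_zero] at this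
        exact this.symm
      · refine hdvd (minpoly.dvd K A (LinearMap.ext fun w => Subtype.ext ?_))
        rw [aeval_restrict hW, h0]; rfl
  have hAu : IsUnit A := (LinearMap.isUnit_iff_isUnit_det A).2 (isUnit_iff_ne_zero.2 hdA)
  obtain ⟨Au, hAk⟩ := hAu.pow k
  let L : W →ₗ[K] V := W.subtype ∘ₗ (↑Au⁻¹ : Module.End K W)
  have hLA : ∀ a : W, L ((A ^ k) a) = (a : V) := fun a => by
    show (((↑Au⁻¹ : Module.End K W) ((A ^ k) a) : W) : V) = _
    rw [← hAk, ← Module.End.mul_apply, Units.inv_mul, Module.End.one_apply]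
  obtain ⟨lam, hlam, hcond⟩ : ∃ lam : K, lam ^ finrank K V = 1 ∧
      (FullDet x ∨ (-1) ^ d * (lam ^ d * LinearMap.det (↑Au⁻¹ : Module.End K W)) = 1) := by
    rcases hor with h | h
    · exact ⟨1, one_pow _, Or.inl h⟩
    · refine ⟨-1, by rw [hn, ← two_mul, pow_mul, neg_one_sq, one_pow], Or.inr ?_⟩
      have e : LinearMap.det (↑Au⁻¹ : Module.End K W) * LinearMap.det (↑Au : Module.End K W) = 1 := by
        rw [← map_mul, Units.inv_mul, map_one]
      rw [hAk, map_pow, show k = 2 * (d - 1) by omega, pow_mul, sq, h, one_pow, mul_one] at e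
      rw [e, mul_one, ← mul_pow, neg_mul_neg, one_mul, one_pow]
  have hlam0 : lam ≠ 0 := fun e => by rw [e, zero_pow (by omega)] at hlam; exact zero_ne_one hlam
  let bW := Module.finBasisOfFinrankEq K W hWd
  let w : Fin d → V := fun i => (bW i : V)
  have hw : LinearIndependent K w := bW.linearIndependent.map' W.subtype W.ker_subtype
  obtain ⟨p, hp⟩ := exists_P hno d (by omega)
  obtain ⟨u0, hwu0, -⟩ := exists_common (by omega : d + d ≤ finrank K V) hw hw
  haveI : Nonempty (Fin d ⊕ Fin d) := ⟨Sum.inl ⟨0, by omega⟩⟩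
  have hcard : Fintype.card (Fin d ⊕ Fin d) = finrank K V := by simp [hn]
  let B := basisOfLinearIndependentOfCardEqFinrank hp hcard
  have hB : ∀ s, B s = Sum.elim p (fun i => x (p i)) s := fun s => by simp [B]
  let f0 := B.equiv (basisOfLinearIndependentOfCardEqFinrank hwu0 hcard) (Equiv.refl _)
  have g1 : ∀ s, f0 (B s) = Sum.elim w u0 s := fun s => by simp [f0]
  let i0 : Fin d := ⟨0, by omega⟩
  set D1 := LinearMap.det (f0 : V →ₗ[K] V) with hD1
  have hD10 : D1 ≠ 0 := (LinearEquiv.isUnit_det' f0).ne_zero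
  have hs1 : B.repr (f0.symm ((D1⁻¹ - 1) • u0 i0)) (Sum.inr i0) = D1⁻¹ - 1 := by
    rw [map_smul, show f0.symm (u0 i0) = B (Sum.inr i0) by rw [LinearEquiv.symm_apply_eq, g1]; rfl]
    simp
  obtain ⟨e1, he1f, he1d⟩ := bump B f0 (Sum.inr i0) ((D1⁻¹ - 1) • u0 i0) (by rw [hs1]; simpa using hD10)
  rw [hs1, add_sub_cancel, mul_inv_cancel₀ hD10] at he1d
  have he1 : ∀ i, e1 (p i) = w i := fun i => by
    have := he1f (Sum.inl i)
    rw [g1, if_neg (by simp), add_zero, hB] at this
    exact this
  let u : Fin d → V := fun i => e1 (x (p i))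
  let z : Fin d → V := fun i => lam • L (bW i)
  let Bw := B.map e1
  have hBl : ∀ i, Bw (Sum.inl i) = w i := fun i => by simp [Bw, hB, he1]
  have hBr : ∀ i, Bw (Sum.inr i) = u i := fun i => by simp [Bw, hB, u]
  let M : Module.End K V := Bw.constr K (Sum.elim u z)
  have hMl : ∀ i, M (w i) = u i := fun i => by rw [← hBl]; simp [M]
  have hMr : ∀ i, M (u i) = z i := fun i => by rw [← hBr]; simp [M]
  set Bm : Matrix (Fin d) (Fin d) K := lam • LinearMap.toMatrix bW bW (↑Au⁻¹ : Module.End K W) with hBm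
  have hmat : LinearMap.toMatrix Bw Bw M = Matrix.fromBlocks 0 Bm 1 0 := by
    ext s t
    rw [LinearMap.toMatrix_apply]
    rcases t with t | t
    · rw [hBl, hMl, ← hBr, Basis.repr_self]
      rcases s with s | s <;> simp [Finsupp.single_apply, Matrix.one_apply, eq_comm]
    · rw [hBr, hMr]
      have e : z t = ∑ i, Bm i t • Bw (Sum.inl i) := by
        show lam • (((↑Au⁻¹ : Module.End K W) (bW t) : W) : V) = _
        conv_lhs => rw [← bW.sum_repr ((↑Au⁻¹ : Module.End K W) (bW t))]
        rw [Submodule.coe_sum, Finset.smul_sum]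
        refine Finset.sum_congr rfl fun i _ => ?_
        rw [hBl, hBm, Matrix.smul_apply, LinearMap.toMatrix_apply, smul_eq_mul, mul_smul, Submodule.coe_smul]
      rw [e, map_sum, Finsupp.finsetSum_apply]
      rcases s with s | s <;> simp [Finsupp.single_apply]
  have hdM : LinearMap.det M = (-1) ^ d * (lam ^ d * LinearMap.det (↑Au⁻¹ : Module.End K W)) := by
    rw [← LinearMap.det_toMatrix Bw, hmat]
    have hJ : (Matrix.fromBlocks 0 1 1 0 : Matrix (Fin d ⊕ Fin d) (Fin d ⊕ Fin d) K).det = (-1) ^ d := by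
      rw [show (Matrix.fromBlocks 0 1 1 0 : Matrix (Fin d ⊕ Fin d) (Fin d ⊕ Fin d) K) =
        Matrix.fromBlocks 1 1 0 1 * (Matrix.fromBlocks 1 0 (-1) 1 * (Matrix.fromBlocks 1 1 0 1 *
          Matrix.fromBlocks (-1) 0 0 1)) by simp [Matrix.fromBlocks_multiply]]
      simp [Matrix.det_neg]
    rw [show (Matrix.fromBlocks 0 Bm 1 0 : Matrix (Fin d ⊕ Fin d) (Fin d ⊕ Fin d) K) =
      Matrix.fromBlocks Bm 0 0 1 * Matrix.fromBlocks 0 1 1 0 by simp [Matrix.fromBlocks_multiply],
      Matrix.det_mul, hJ, hBm]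
    simp [Matrix.det_smul, LinearMap.det_toMatrix, mul_comm]
  have hdM0 : LinearMap.det M ≠ 0 := by
    rw [hdM]
    refine mul_ne_zero (pow_ne_zero _ (neg_ne_zero.2 one_ne_zero)) (mul_ne_zero (pow_ne_zero _ hlam0) ?_)
    intro e0
    have e : LinearMap.det (↑Au⁻¹ : Module.End K W) * LinearMap.det (↑Au : Module.End K W) = 1 := by
      rw [← map_mul, Units.inv_mul, map_one]
    rw [e0, zero_mul] at e
    exact zero_ne_one e
  obtain ⟨Mu, hMu⟩ := (LinearMap.isUnit_iff_isUnit_det M).2 (isUnit_iff_ne_zero.2 hdM0)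
  let Me : V ≃ₗ[K] V := LinearMap.GeneralLinearGroup.toLinearEquiv Mu
  have hMe : (Me : V →ₗ[K] V) = M := LinearMap.ext fun v => by
    show (Mu : Module.End K V) v = _
    rw [hMu]
  let e2 := e1 ≪≫ₗ Me
  have he2 : ∀ i, e2 (x (p i)) = z i := fun i => by
    show Me (e1 (x (p i))) = _
    rw [show Me (u i) = M (u i) from LinearMap.congr_fun hMe (u i), hMr]
  have he12 : ∀ i, e1 (x (p i)) = e2 (p i) := fun i => by
    show u i = Me (e1 (p i))
    rw [he1, show Me (w i) = M (w i) from LinearMap.congr_fun hMe (w i), hMl]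
  have hc2 : ConjIn ({1} : Set K) x (e1.conj x) := ⟨e1, he1d, fun v => by simp [LinearEquiv.conj_apply]⟩
  have hc1 : ConjIn ({1} : Set K) x (e2.conj x) := by
    rcases hcond with h | h
    · exact ConjIn.of_full h (⟨e2, trivial, fun v => by simp [LinearEquiv.conj_apply]⟩ :
        ConjIn (Set.univ : Set K) x (e2.conj x))
    · refine ⟨e2, ?_, fun v => by simp [LinearEquiv.conj_apply]⟩
      rw [Set.mem_singleton_iff,
        show ((e1 ≪≫ₗ Me : V ≃ₗ[K] V) : V →ₗ[K] V) = (Me : V →ₗ[K] V) * (e1 : V →ₗ[K] V) from rfl, map_mul, hMe, he1d,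
        hdM, mul_one, h]
  set x1 := e2.conj x with hx1
  set x2 := e1.conj x with hx2
  obtain ⟨xi, hxi, hxi'⟩ := exists_inverse (f := x1) (by rw [hc1.det_eq, hdx]; exact one_ne_zero)
  obtain ⟨yi, hyi, hyi'⟩ := exists_inverse (f := x2) (by rw [hc2.det_eq, hdx]; exact one_ne_zero)
  have hx2w : ∀ i, x2 (w i) = u i := fun i => by simp [x2, u, LinearEquiv.conj_apply, ← he1]
  have hx1u : ∀ i, x1 (u i) = z i := fun i => by
    simp [x1, u, he12, LinearEquiv.conj_apply, he2]
  set h := yi * (xi * (lam • 1)) with hh0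
  have hgh : lam • (1 : Module.End K V) = x1 * x2 * h := LinearMap.ext fun v => by simp [h, hxi, hyi]
  have hhA : ∀ a : W, h (a : V) = ((A ^ k) a : V) := fun a => by
    have hPL : ∀ b : W, x1 (x2 (b : V)) = lam • L b := fun b => LinearMap.congr_fun
      (bW.ext (f₁ := x1 ∘ₗ x2 ∘ₗ W.subtype) (f₂ := lam • L) fun i => by
        show x1 (x2 (w i)) = lam • L (bW i)
        rw [hx2w, hx1u]) b
    rw [hh0, Module.End.mul_apply, Module.End.mul_apply, LinearMap.smul_apply, Module.End.one_apply, ← hLA a, ← hPL, hxi', hyi']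
  have hh : ∀ a ∈ W, h a ∈ W := fun a ha => by
    rw [show a = ((⟨a, ha⟩ : W) : V) from rfl, hhA]; exact Submodule.coe_mem _
  obtain ⟨r', hr'⟩ := conj_eq_blk φ hφ hφ' h hh
  have hres : h.restrict hh = A ^ k := LinearMap.ext fun a => Subtype.ext (hhA a)
  rw [hres] at hr'
  have hdety : LinearMap.det (W.mapQ W h hh) = LinearMap.det x' ^ k := by
    have e0 : LinearMap.det h = LinearMap.det A ^ k * LinearMap.det (W.mapQ W h hh) := by
      rw [← LinearMap.det_conj h φ]
      show LinearMap.det (φ.conj h) = _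
      rw [hr', det_blk, map_pow]
    have e3 := congrArg LinearMap.det hgh
    rw [LinearMap.det_smul, hlam, map_mul, map_mul, hc1.det_eq, hc2.det_eq, map_one, hdx, one_mul, one_mul] at e3
    rw [e0] at e3
    refine mul_left_cancel₀ (pow_ne_zero k hdA) ?_
    rw [← e3, ← mul_pow, hdblk, one_pow]
  have hQ := good_ext h4 (n := finrank K (V ⧸ W)) (m := k) rfl (by omega) (by omega) hdx'
    (not_pseudo_of_no_eigen (by omega) (quot_no_eigen hno hW)) (Or.inr (by omega)) hdety
  obtain ⟨Ms, hM1, hM2, hM3⟩ := step_univ (A := A) (r := r) (by omega : 1 ≤ k) hAu hQ (pre := [φ.conj x1, φ.conj x2])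
    (fun f hf => by
      rw [← hr]
      rcases List.mem_cons.1 hf with rfl | hf
      · exact hc1.transfer φ
      · rw [List.mem_singleton] at hf; exact hf ▸ hc2.transfer φ)
    (u := r') (g := φ.conj (lam • 1)) (by
      rw [← hr', List.prod_cons, List.prod_singleton, hgh]
      exact (map_mul φ.conjRingEquiv (x1 * x2) h).trans (congrArg (· * φ.conj h) (map_mul φ.conjRingEquiv x1 x2)))
  rw [← hr] at hM2
  have e : ∀ F : Module.End K V, φ.symm.conj (φ.conj F) = F := fun F => LinearMap.ext fun v => by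
    simp [LinearEquiv.conj_apply]
  refine ⟨lam, hlam, Ms.map φ.symm.conj, by simp [hM1, hn]; omega, fun f hf => ?_, ?_⟩
  · obtain ⟨f', hf', rfl⟩ := List.mem_map.1 hf
    have := (hM2 f' hf').transfer φ.symm
    rwa [e] at this
  · exact ((map_list_prod φ.symm.conjRingEquiv Ms).symm.trans (congrArg φ.symm.conj hM3)).trans (e _)

end CfsgLib.PSLCover
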