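import Cfsg.Agent.Lib.PSLCover.ThreeBase
import Cfsg.Agent.Lib.PSLCover.ScalarHalf
import Mathlib.FieldTheory.Finite.Extension

/-! Central targets in dimension three. -/

set_option autoImplicit false
set_option linter.unusedSectionVars false

namespace CfsgLib.PSLCover

open Module LinearMap Polynomial
open CfsgLib.SLCommutator (Cyc)

universe u v

variable {K : Type u} [Field K] {V : Type v} [AddCommGroup V] [Module K V] [FiniteDimensional K V]

theorem irr_three (hn : finrank K V = 3) {x : Module.End K V} (hno : ∀ (a : K) (v : V), x v = a • v → v = 0)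
    (W : Submodule K V) (hW : ∀ w ∈ W, x w ∈ W) : W = ⊥ ∨ W = ⊤ := by
  by_contra hcon
  push Not at hcon
  obtain ⟨h0, h1⟩ := hcon
  have one : ∀ {U : Type v} [AddCommGroup U] [Module K U] [FiniteDimensional K U] (y : Module.End K U),
      finrank K U = 1 → ∃ (a : K) (q : U), q ≠ 0 ∧ y q = a • q := by
    intro U _ _ _ y hU
    haveI : Nontrivial U := Module.nontrivial_of_finrank_pos (R := K) (by omega)
    obtain ⟨q, hq⟩ := exists_ne (0 : U)
    obtain ⟨a, ha⟩ := (finrank_eq_one_iff_of_nonzero' q hq).1 hU (y q)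
    exact ⟨a, q, hq, ha.symm⟩
  have h2 : finrank K W ≠ 0 := fun e => h0 (Submodule.finrank_eq_zero.1 e)
  have h3 : finrank K W ≠ 3 := fun e => h1 (Submodule.eq_top_of_finrank_eq (e.trans hn.symm))
  have hle := Submodule.finrank_le W
  have hs := Submodule.finrank_quotient_add_finrank W
  rcases (show finrank K W = 1 ∨ finrank K (V ⧸ W) = 1 by omega) with e | e
  · obtain ⟨a, q, hq, hqa⟩ := one (x.restrict hW) e
    exact hq (Subtype.ext (hno a (q : V) (congrArg Subtype.val hqa)))
  · obtain ⟨a, q, hq, hqa⟩ := one (W.mapQ W x hW) e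
    exact hq (quot_no_eigen hno hW a q hqa)

theorem aeval_frob [Finite K] {z : Module.End K V} {p : K[X]} (h : aeval z p = 0) :
    aeval (z ^ Nat.card K) p = 0 := by
  haveI := Fintype.ofFinite K
  rw [Nat.card_eq_fintype_card, ← Polynomial.expand_aeval (Fintype.card K) p z, FiniteField.expand_card, map_pow, h,
    zero_pow Fintype.card_ne_zero]

/-- Irreducible: the norm. -/
theorem norm_three [Finite K] (hn : finrank K V = 3) {x : Module.End K V} (hdx : LinearMap.det x = 1)
    (hno : ∀ (a : K) (v : V), x v = a • v → v = 0) :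
    ∃ lam : K, lam ^ 3 = 1 ∧ IsProd ({1} : Set K) x (lam • 1) 3 := by
  haveI : Nontrivial V := Module.nontrivial_of_finrank_pos (R := K) (by omega)
  have hirr := irr_three hn hno
  obtain ⟨hmi, hmd⟩ := minpoly_of_irr hirr
  set m := minpoly K x with hm
  have hmm : m.Monic := minpoly.monic (Algebra.IsIntegral.isIntegral x)
  have hroot : ∀ a : K, m.eval a ≠ 0 := fun a ha => by
    have h1 : m.natDegree = 1 := natDegree_eq_of_degree_eq_some (Polynomial.degree_eq_one_of_irreducible_of_root hmi ha)
    rw [hmd, hn] at h1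
    omega
  set q := Nat.card K with hq
  obtain ⟨v, hv⟩ := cyc_of_irr hirr
  have hconj : ∀ z : Module.End K V, aeval z m = 0 → ConjIn ({1} : Set K) x z := by
    intro z hz
    have hnoz : ∀ (a : K) (w : V), z w = a • w → w = 0 := fun a w hw => by
      have key : ∀ f : K[X], aeval z f w = f.eval a • w := by
        intro f
        induction f using Polynomial.induction_on' with
        | add f g hf hg => simp [map_add, hf, hg, add_smul]
        | monomial n c =>
          simp only [aeval_monomial, Algebra.algebraMap_eq_smul_one, smul_mul_assoc, one_mul, LinearMap.smul_apply,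
            eval_monomial, mul_smul]
          congr 1
          induction n with
          | zero => simp
          | succ n ih => rw [pow_succ', Module.End.mul_apply, ih, map_smul, hw, smul_smul, pow_succ]
      have := key m
      rw [hz, LinearMap.zero_apply] at this
      exact (smul_eq_zero.1 this.symm).resolve_left (hroot a)
    obtain ⟨v', hv'⟩ := cyc_of_irr (irr_three hn hnoz)
    obtain ⟨e, -, he⟩ := conj_of_cyclic hv hv' hmm hmd hmd
      (by rw [hm, minpoly.aeval, LinearMap.zero_apply]) (by rw [hz, LinearMap.zero_apply])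
    exact ConjIn.of_full (fullDet_of_irr hirr) (⟨e, trivial, he⟩ : ConjIn (Set.univ : Set K) x z)
  have h1 : aeval (x ^ q) m = 0 := aeval_frob (minpoly.aeval K x)
  have h2 : aeval (x ^ q ^ 2) m = 0 := by
    rw [sq, pow_mul]; exact aeval_frob h1
  have h3 : x ^ q ^ 3 = x := by
    have h := (hmi.natDegree_dvd_iff_dvd_X_pow_card_pow_sub_X (n := 3)).1 (by rw [hmd, hn])
    obtain ⟨c, hc⟩ := h
    have := congrArg (aeval x) hc
    rw [map_mul, hm, minpoly.aeval, zero_mul, map_sub, map_pow, aeval_X, sub_eq_zero] at this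
    exact this
  set y := x * x ^ q * x ^ q ^ 2 with hy
  have hycomm : ∀ p, x (y p) = y (x p) := fun p => by
    rw [← Module.End.mul_apply, ← Module.End.mul_apply]
    congr 1
    rw [hy, mul_assoc, ← pow_add, ← pow_succ', ← pow_succ', ← pow_succ]
  have hyq : y ^ q = y := by
    rw [hy, mul_assoc, ← pow_add, ← pow_succ', ← pow_mul]
    conv_rhs => rw [pow_succ]
    have e : (q + q ^ 2 + 1) * q = (q + q ^ 2) + q ^ 3 := by ring
    rw [e, pow_add x (q + q ^ 2) (q ^ 3), h3]
  obtain ⟨f, hfi, hfd⟩ := WfDvdMonoid.exists_irreducible_factor (minpoly.not_isUnit K y)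
    (minpoly.ne_zero (Algebra.IsIntegral.isIntegral y))
  have hf1 : f.natDegree = 1 := Nat.dvd_one.1 (hfi.natDegree_dvd_of_dvd_X_pow_card_pow_sub_X (n := 1)
    (hfd.trans (minpoly.dvd K y (by rw [pow_one, map_sub, map_pow, aeval_X, hyq, sub_self]))))
  obtain ⟨a, ha⟩ := Polynomial.exists_root_of_degree_eq_one
    ((degree_eq_iff_natDegree_eq hfi.ne_zero).2 hf1)
  have hroot' : (minpoly K y).IsRoot a := ha.dvd hfd
  obtain ⟨w, hw, hw0⟩ := (Module.End.hasEigenvalue_of_isRoot hroot').exists_hasEigenvector
  have hy1 : y = a • 1 := by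
    rcases hirr (LinearMap.ker (y - a • (1 : Module.End K V))) (fun p hp => by
      rw [LinearMap.mem_ker, RegUnipProd.sub_smul_one_apply, sub_eq_zero] at hp ⊢
      rw [← hycomm, hp, map_smul]) with e | e
    · exact absurd ((Submodule.eq_bot_iff _).1 e w (RegUnipProd.mem_eigKer.2 (Module.End.mem_eigenspace_iff.1 hw))) hw0
    · exact sub_eq_zero.1 (LinearMap.ker_eq_top.1 e)
  refine ⟨a, ?_, [x, x ^ q, x ^ q ^ 2], rfl, fun f hf => ?_, by simp [← hy1, hy, mul_assoc]⟩
  · have := congrArg LinearMap.det hy1
    rw [hy, map_mul, map_mul, map_pow, map_pow, hdx, one_pow, one_pow, one_mul, one_mul, LinearMap.det_smul, hn,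
      map_one, mul_one] at this
    exact this.symm
  · simp at hf
    rcases hf with rfl | rfl | rfl
    exacts [ConjIn.refl (H := ({1} : Set K)) (Set.mem_singleton 1) _, hconj _ h1, hconj _ h2]

/-- A simple eigenvalue. -/
theorem simple_three (hn : finrank K V = 3) {x : Module.End K V} (hdx : LinearMap.det x = 1) (hp : ¬ Pseudo x)
    {b : K} {u : V} (hu : x u = b • u) (hu0 : u ≠ 0) (hur : u ∉ LinearMap.range (x - b • 1)) :
    IsProd ({1} : Set K) x 1 3 := by
  obtain ⟨v0, t, s, d, hx⟩ := exists_chain hn hp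
  have hd : d = 1 := (hx.det hn).symm.trans hdx
  subst hd
  obtain ⟨x', hx1, hx2⟩ := exists_inverse (f := x) (hdx ▸ one_ne_zero)
  have hb : b ≠ 0 := fun e => hu0 (by rw [← hx2 u, hu, e, zero_smul, map_zero])
  set e := b⁻¹ with he
  have he0 : e ≠ 0 := inv_ne_zero hb
  have hu' : x' u = e • u := by
    conv_rhs => rw [← hx2 u, hu, map_smul, smul_smul, he, inv_mul_cancel₀ hb, one_smul]
  have hp' : ¬ Pseudo x' := fun ⟨c, hc⟩ => by
    by_cases hc0 : c = 0
    · rw [hc0, zero_smul, sub_zero, LinearMap.range_eq_top.2 (fun y => ⟨x y, hx2 y⟩), finrank_top, hn] at hc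
      omega
    refine hp ⟨c⁻¹, le_trans (Submodule.finrank_mono ?_) hc⟩
    rintro _ ⟨p, rfl⟩
    refine ⟨-(c⁻¹) • x p, ?_⟩
    simp only [map_smul, RegUnipProd.sub_smul_one_apply, hx2, smul_sub, smul_smul, neg_mul, inv_mul_cancel₀ hc0]
    module
  obtain ⟨w0, T, S, D, hxi⟩ := exists_chain hn hp'
  have hD : D = 1 := by
    have h := congrArg LinearMap.det (show x * x' = 1 from LinearMap.ext hx1)
    rw [map_mul, map_one, hdx, one_mul, hxi.det hn] at h
    exact h
  subst hD
  obtain ⟨B', b0, b1, b2, -, -, -⟩ := hxi.basis hn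
  have hann : ∀ p, x' (x' (x' p)) = T • x' (x' p) - S • x' p + (1 : K) • p := by
    have e1 : x' * x' * x' = T • (x' * x') - S • x' + (1 : K) • (1 : Module.End K V) := by
      refine B'.ext fun i => ?_
      fin_cases i
      · simpa [b0] using hxi.2
      · have := congrArg x' hxi.2
        simp [map_add, map_sub, map_smul] at this
        simpa [b1] using this
      · have := congrArg x' (congrArg x' hxi.2)
        simp [map_add, map_sub, map_smul] at this
        simpa [b2] using this
    intro p
    simpa using LinearMap.congr_fun e1 p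
  have hroot : e * e * e - T * (e * e) + S * e - 1 = 0 := by
    have := hann u
    rw [hu', map_smul, hu', smul_smul, map_smul, hu', smul_smul, smul_smul, smul_smul] at this
    have h2 : (e * e * e - T * (e * e) + S * e - 1) • u = 0 := by linear_combination (norm := module) this
    exact (smul_eq_zero.1 h2).resolve_right hu0
  have hD : e * e - (T - e) * e + e⁻¹ ≠ 0 := by
    intro h
    have hS : S = e * (T - e) + e⁻¹ := by
      field_simp at h ⊢
      linear_combination hroot
    set r := T - 2 * e with hr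
    obtain ⟨w, hw⟩ : ∃ w, x' (x' w - r • w) - e • (x' w - r • w) ≠ 0 := by
      refine ⟨w0, fun h0 => ?_⟩
      have := Fintype.linearIndependent_iff.1 hxi.1 ![e * r, -(e + r), 1] (by
        rw [Fin.sum_univ_three]
        simp only [Matrix.cons_val_zero, Matrix.cons_val_one, Matrix.cons_val]
        rw [← h0, map_sub, map_smul]
        module) 2
      simp at this
    set z := x' (x' w - r • w) - e • (x' w - r • w) with hz
    have hre : e * e * r = 1 := by
      field_simp at h
      linear_combination -h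
    have hz' : x' z = e • z := by
      rw [hz]
      simp only [map_sub, map_smul, hann, hS]
      match_scalars
      · field_simp; ring
      · field_simp; linear_combination (2 : K) * hre - hre
      · field_simp; linear_combination -hre
    obtain ⟨o, ho⟩ := Submodule.mem_span_singleton.1 (hxi.eig hn e hz' hu' hu0)
    have ho0 : o ≠ 0 := fun h' => hw (by rw [← ho, h', zero_smul])
    obtain ⟨q, hq⟩ : z ∈ LinearMap.range (x - b • 1) := by
      refine ⟨-(b⁻¹) • x' (x' w - r • w), ?_⟩
      rw [RegUnipProd.sub_smul_one_apply, map_smul, hx1, hz, smul_smul, mul_neg, mul_inv_cancel₀ hb, neg_smul,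
        neg_smul, one_smul, he]
      module
    exact hur ⟨o⁻¹ • q, by rw [map_smul, hq, ← ho, smul_smul, inv_mul_cancel₀ ho0, one_smul]⟩
  -- the middle factor
  obtain ⟨B, -, -, -, g0, g1, g2⟩ := hx.basis hn
  obtain ⟨c2, hc2⟩ : ∃ c, c = T - e - 1 := ⟨_, rfl⟩
  obtain ⟨w, hw⟩ : ∃ w, w = c2 - e⁻¹ := ⟨_, rfl⟩
  obtain ⟨α, hα⟩ : ∃ α, α = t - w := ⟨_, rfl⟩
  obtain ⟨M, hM⟩ : ∃ M, M = α - s := ⟨_, rfl⟩
  obtain ⟨v, hv⟩ : ∃ v, v = -(e * (1 - t)) + α * w - w * s - s := ⟨_, rfl⟩
  let Y : Module.End K V := B.constr K ![α • B 0 + (1 - t) • B 1 + B 2, e • B 0,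
    (w * s + v) • B 0 + (c2 - w * t) • B 1 + w • B 2]
  have X0 : Y (B 0) = α • B 0 + (1 - t) • B 1 + B 2 := by simp [Y]
  have X1 : Y (B 1) = e • B 0 := by simp [Y]
  have X2 : Y (B 2) = (w * s + v) • B 0 + (c2 - w * t) • B 1 + w • B 2 := by simp [Y]
  have hXc : Chain Y (B 1) t s 1 := by
    constructor
    · refine li_three fun p q r h => ?_
      rw [X1, map_smul, X0] at h
      have := congrArg B.repr h
      simp only [map_add, map_smul, Basis.repr_self, map_zero] at this
      have c0 := DFunLike.congr_fun this 0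
      have c1 := DFunLike.congr_fun this 1
      have c2' := DFunLike.congr_fun this 2
      simp [he0] at c0 c1 c2'
      subst c2'
      simp [he0] at c0 c1
      exact ⟨c1, c0, rfl⟩
    · rw [X1, map_smul, X0, map_smul, map_add, map_add, map_smul, map_smul, X0, X1, X2, hv, hα, hw]
      match_scalars <;> field_simp <;> ring
  obtain ⟨f, hf⟩ := hx.conj hXc hn
  have H0 : (x * Y) (B 0) = B 0 + M • B 1 + B 2 := by
    rw [Module.End.mul_apply, X0, map_add, map_add, map_smul, map_smul, g0, g1, g2, hM]
    module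
  have H1 : (x * Y) (B 1) = e • B 1 := by rw [Module.End.mul_apply, X1, map_smul, g0]
  have H2 : (x * Y) (B 2) = w • B 0 + v • B 1 + c2 • B 2 := by
    rw [Module.End.mul_apply, X2, map_add, map_add, map_smul, map_smul, map_smul, g0, g1, g2]
    module
  have hDk : (e - 1) * (e - c2) - w ≠ 0 := by
    rw [hw, hc2, show (e - 1) * (e - (T - e - 1)) - (T - e - 1 - e⁻¹) = e * e - (T - e) * e + e⁻¹ by ring]
    exact hD
  obtain ⟨k, hk⟩ : ∃ k, k = (1 - (M * (e - c2) + v)) / ((e - 1) * (e - c2) - w) := ⟨_, rfl⟩
  obtain ⟨M', hM'⟩ : ∃ M', M' = M + k * (e - 1) := ⟨_, rfl⟩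
  have hJ : M' * (e - c2) + v - w * k = 1 := by
    have hd := div_mul_cancel₀ (1 - (M * (e - c2) + v)) hDk
    rw [← hk] at hd
    rw [hM']
    linear_combination hd
  set p := B 0 + k • B 1 with hpdef
  set r := M' • B 1 + B 2 with hrdef
  have q1 : (x * Y) p = p + r := by rw [hpdef, hrdef, map_add, map_smul, H0, H1, hM']; module
  have q2 : (x * Y) r = w • p + c2 • r + B 1 := by
    rw [hpdef, hrdef, map_add, map_smul, H1, H2]
    match_scalars
    · linear_combination hJ
    all_goals ring
  have hS' : S = e * (1 + c2) + (c2 - w) := by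
    rw [hw, hc2]
    field_simp
    linear_combination hroot
  have hH : Chain (x * Y) p T S 1 := by
    constructor
    · refine li_three fun a b c h => ?_
      rw [q1, map_add, q1, q2, hpdef, hrdef] at h
      have := congrArg B.repr h
      simp only [map_add, map_smul, Basis.repr_self, map_zero] at this
      have c0 := DFunLike.congr_fun this 0
      have c1 := DFunLike.congr_fun this 1
      have c2' := DFunLike.congr_fun this 2
      simp at c0 c1 c2'
      have hc : c = 0 := by linear_combination c1 - M' * c2' - k * c0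
      subst hc
      have hb' : b = 0 := by linear_combination c2'
      subst hb'
      exact ⟨by linear_combination c0, rfl, rfl⟩
    · simp only [q1, q2, H1, map_add, map_smul]
      rw [hS', show T = 1 + c2 + e by rw [hc2]; ring, hw]
      match_scalars <;> field_simp <;> ring
  obtain ⟨g, hg⟩ := hxi.conj hH hn
  refine IsProd.of_full (H := Set.univ) (fullDet_of_eigen hu hur) ⟨[x, Y, g.conj x], rfl, fun z hz => ?_, ?_⟩
  · simp at hz
    rcases hz with rfl | rfl | rfl
    · exact ConjIn.refl (Set.mem_univ _) _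
    · exact ⟨f, trivial, hf⟩
    · exact ⟨g, trivial, fun q => by simp [LinearEquiv.conj_apply]⟩
  · refine LinearMap.ext fun q => ?_
    obtain ⟨q, rfl⟩ := g.surjective q
    have := hg (x q)
    rw [hx2, Module.End.mul_apply] at this
    simp [LinearEquiv.conj_apply, this]

/-- A single scaled block. -/
theorem block_three (h4 : ∃ k : Fin 4 → K, Function.Injective k) (hn : finrank K V = 3) {x : Module.End K V}
    (hdx : LinearMap.det x = 1) (hp : ¬ Pseudo x) {a : K}
    (hN : ∀ q, x (x (x q)) = (3 * a) • x (x q) - (3 * a * a) • x q + (a * a * a) • q) :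
    IsProd ({1} : Set K) x 1 3 := by
  classical
  obtain ⟨v, t0, s0, d0, hli, -⟩ := exists_chain hn hp
  have ha3 : a * a * a = 1 := (Chain.det (v := v) (t := 3 * a) (s := 3 * a * a) ⟨hli, hN v⟩ hn).symm.trans hdx
  have ha : a ≠ 0 := fun e => by rw [e, zero_mul, mul_zero] at ha3; exact zero_ne_one ha3
  set N : Module.End K V := a⁻¹ • x - 1 with hNdef
  have hxN : ∀ q, x q = a • q + a • N q := fun q => by
    rw [hNdef]; simp only [LinearMap.sub_apply, LinearMap.smul_apply, Module.End.one_apply]
    match_scalars <;> field_simp <;> ring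
  have hN3 : ∀ q, N (N (N q)) = 0 := fun q => by
    simp only [hNdef, LinearMap.sub_apply, LinearMap.smul_apply, Module.End.one_apply, map_sub, map_smul, hN]
    match_scalars <;> field_simp <;> ring
  have hliN : LinearIndependent K ![v, N v, N (N v)] := li_three fun p q r h => by
    have := Fintype.linearIndependent_iff.1 hli ![p - q + r, q * a⁻¹ - 2 * r * a⁻¹, r * (a⁻¹ * a⁻¹)] (by
      rw [Fin.sum_univ_three, ← h]
      simp only [Matrix.cons_val_zero, Matrix.cons_val_one, Matrix.cons_val, hNdef, LinearMap.sub_apply,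
        LinearMap.smul_apply, Module.End.one_apply, map_sub, map_smul]
      match_scalars <;> ring)
    have h0 := this 0; have h1 := this 1; have h2 := this 2
    simp only [Matrix.cons_val_zero, Matrix.cons_val_one, Matrix.cons_val] at h0 h1 h2
    have hr : r = 0 := (mul_eq_zero.1 h2).resolve_right (mul_ne_zero (inv_ne_zero ha) (inv_ne_zero ha))
    subst hr
    have hq : q = 0 := by simpa [ha] using h1
    subst hq
    exact ⟨by simpa using h0, rfl, rfl⟩
  let B := basisOfLinearIndependentOfCardEqFinrank hliN (by simp [hn])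
  have hB : ∀ i, B i = ![v, N v, N (N v)] i := fun i => by simp [B]
  have conj : ∀ α γ : K, α ≠ 0 → ConjIn ({1} : Set K) x (a • (1 + α • N + γ • (N * N))) := by
    intro α γ hα
    let E : Module.End K V := B.constr K ![α⁻¹ • v, N v + (γ * α⁻¹) • N (N v), α • N (N v)]
    have E0 : E (B 0) = α⁻¹ • B 0 := by rw [show E (B 0) = _ from B.constr_basis K _ 0, hB]; rfl
    have E1 : E (B 1) = B 1 + (γ * α⁻¹) • B 2 := by rw [show E (B 1) = _ from B.constr_basis K _ 1, hB, hB]; rfl
    have E2 : E (B 2) = α • B 2 := by rw [show E (B 2) = _ from B.constr_basis K _ 2, hB]; rfl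
    have N0 : N (B 0) = B 1 := by rw [hB, hB]; rfl
    have N1 : N (B 1) = B 2 := by rw [hB, hB]; rfl
    have N2 : N (B 2) = 0 := by rw [hB]; exact hN3 v
    have hE : LinearMap.det E = 1 := by
      rw [← LinearMap.det_toMatrix B, Matrix.det_fin_three]
      simp [LinearMap.toMatrix_apply, E0, E1, E2, hα]
    obtain ⟨Eu, hEu⟩ := (LinearMap.isUnit_iff_isUnit_det E).2 (by rw [hE]; exact isUnit_one)
    let Ee : V ≃ₗ[K] V := LinearMap.GeneralLinearGroup.toLinearEquiv Eu
    have hEe : (Ee : V →ₗ[K] V) = E := LinearMap.ext fun q => by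
      show (Eu : Module.End K V) q = _
      rw [hEu]
    refine ⟨Ee, by rw [Set.mem_singleton_iff, hEe, hE], fun q => ?_⟩
    have key : (a • (1 + α • N + γ • (N * N))) * E = E * x := by
      refine B.ext fun i => ?_
      fin_cases i <;>
        simp [Module.End.mul_apply, hxN, E0, E1, E2, N0, N1, N2] <;> match_scalars <;> field_simp <;> ring
    have := LinearMap.congr_fun key q
    rw [Module.End.mul_apply, Module.End.mul_apply, ← hEe] at this
    exact this
  obtain ⟨r, hr⟩ := RegUnipProd.exists_notMem h4 {0, -1} ((Finset.card_le_two).trans (by norm_num))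
  simp only [Finset.mem_insert, Finset.mem_singleton, not_or] at hr
  have hr1 : -1 - r ≠ 0 := fun e => hr.2 (by linear_combination -e)
  refine ⟨[a • (1 + (1 : K) • N + (-(r + (-1 - r) + r * (-1 - r))) • (N * N)), a • (1 + r • N + (0 : K) • (N * N)),
    a • (1 + (-1 - r) • N + (0 : K) • (N * N))], rfl, fun f hf => ?_, ?_⟩
  · simp only [List.mem_cons, List.not_mem_nil, or_false] at hf
    rcases hf with rfl | rfl | rfl
    exacts [conj _ _ one_ne_zero, conj _ _ hr.1, conj _ _ hr1]
  · refine LinearMap.ext fun q => ?_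
    simp [map_add, map_smul, hN3]
    match_scalars <;> first | linear_combination ha3 | linear_combination -ha3 | ring

/-- Dimension three. -/
theorem scalar_three [Finite K] (h4 : ∃ k : Fin 4 → K, Function.Injective k) (hn : finrank K V = 3)
    {x : Module.End K V} (hdx : LinearMap.det x = 1) (hp : ¬ Pseudo x) :
    ∃ lam : K, lam ^ 3 = 1 ∧ IsProd ({1} : Set K) x (lam • 1) 3 := by
  by_cases hno : ∀ (a : K) (v : V), x v = a • v → v = 0
  · exact norm_three hn hdx hno
  push Not at hno
  obtain ⟨a, u, hu, hu0⟩ := hno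
  refine ⟨1, one_pow 3, ?_⟩
  rw [one_smul]
  by_cases hur : u ∈ LinearMap.range (x - a • 1)
  swap
  · exact simple_three hn hdx hp hu hu0 hur
  obtain ⟨w, hw⟩ := hur
  rw [RegUnipProd.sub_smul_one_apply, sub_eq_iff_eq_add] at hw
  set P := Submodule.span K ({u, w} : Set V) with hP
  have huP : u ∈ P := Submodule.subset_span (by simp)
  have hwP : w ∈ P := Submodule.subset_span (by simp)
  have hPi : ∀ p ∈ P, x p ∈ P := fun p hp' => by
    obtain ⟨r, s, rfl⟩ := Submodule.mem_span_pair.1 hp'
    rw [map_add, map_smul, map_smul, hu, hw]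
    exact P.add_mem (P.smul_mem _ (P.smul_mem _ huP)) (P.smul_mem _ (P.add_mem huP (P.smul_mem _ hwP)))
  have hli : ∀ r s : K, r • u + s • w = 0 → r = 0 ∧ s = 0 := fun r s h => by
    have h1 := congrArg (fun q => x q - a • q) h
    simp only [map_add, map_smul, hu, hw, map_zero, smul_zero, sub_zero] at h1
    have h2 : s • u = 0 := by linear_combination (norm := module) h1
    have hs : s = 0 := (smul_eq_zero.1 h2).resolve_right hu0
    rw [hs, zero_smul, add_zero] at h
    exact ⟨(smul_eq_zero.1 h).resolve_right hu0, hs⟩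
  have hP2 : finrank K P = 2 := by
    have := finrank_span_eq_card (LinearIndependent.pair_iff.2 hli)
    rwa [Matrix.range_cons, Matrix.range_cons, Matrix.range_empty, Set.union_empty, Set.singleton_union,
      Fintype.card_fin] at this
  obtain ⟨z, hz⟩ : ∃ z, z ∉ P := by
    by_contra h; push Not at h
    rw [Submodule.eq_top_iff'.2 h, finrank_top] at hP2
    omega
  have htop : Submodule.span K {z} ⊔ P = ⊤ := Submodule.eq_top_of_finrank_eq (by
    have h2 := Submodule.finrank_lt_finrank_of_lt (show P < Submodule.span K {z} ⊔ P from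
      lt_of_le_of_ne le_sup_right fun e => hz (e ▸ Submodule.mem_sup_left (Submodule.mem_span_singleton_self z)))
    have := Submodule.finrank_le (Submodule.span K {z} ⊔ P)
    omega)
  obtain ⟨y, hy, p0, hp0, hyp⟩ := Submodule.mem_sup.1 (htop ▸ Submodule.mem_top : x z ∈ Submodule.span K {z} ⊔ P)
  obtain ⟨b, rfl⟩ := Submodule.mem_span_singleton.1 hy
  by_cases hab : b = a
  · refine block_three h4 hn hdx hp (a := a) fun q => ?_
    obtain ⟨y', hy', p, hp', rfl⟩ := Submodule.mem_sup.1 (htop ▸ Submodule.mem_top : q ∈ Submodule.span K {z} ⊔ P)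
    obtain ⟨o, rfl⟩ := Submodule.mem_span_singleton.1 hy'
    obtain ⟨r, s, rfl⟩ := Submodule.mem_span_pair.1 hp'
    obtain ⟨r', s', rfl⟩ := Submodule.mem_span_pair.1 hp0
    simp only [map_add, map_smul, hu, hw, ← hyp, hab]
    module
  · have hrange : LinearMap.range (x - b • (1 : Module.End K V)) ≤ P := by
      rintro _ ⟨q, rfl⟩
      obtain ⟨y', hy', p, hp', rfl⟩ := Submodule.mem_sup.1 (htop ▸ Submodule.mem_top : q ∈ Submodule.span K {z} ⊔ P)
      obtain ⟨o, rfl⟩ := Submodule.mem_span_singleton.1 hy'
      rw [RegUnipProd.sub_smul_one_apply, map_add, map_smul, ← hyp,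
        show o • (b • z + p0) + x p - b • (o • z + p) = o • p0 + (x p - b • p) by module]
      exact P.add_mem (P.smul_mem _ hp0) (P.sub_mem (hPi p hp') (P.smul_mem _ hp'))
    obtain ⟨u', hu'k, hu'0⟩ := Submodule.exists_mem_ne_zero_of_ne_bot
      (show LinearMap.ker (x - b • (1 : Module.End K V)) ≠ ⊥ from fun hk => by
        have := LinearMap.finrank_range_add_finrank_ker (x - b • (1 : Module.End K V))
        rw [hk, finrank_bot] at this
        have := Submodule.finrank_mono hrange
        omega)
    have hu' : x u' = b • u' := RegUnipProd.mem_eigKer.1 hu'k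
    refine simple_three hn hdx hp hu' hu'0 fun hr => hu'0 ?_
    obtain ⟨r, s, rfl⟩ := Submodule.mem_span_pair.1 (hrange hr)
    rw [map_add, map_smul, map_smul, hu, hw] at hu'
    obtain ⟨h0, h1⟩ := hli (r * a + s - b * r) (s * a - b * s) (by linear_combination (norm := module) hu')
    have hs : s = 0 := by
      by_contra hs
      exact hab (mul_left_cancel₀ hs (by linear_combination -h1))
    have hr0 : r = 0 := by
      by_contra hr0
      exact hab (mul_left_cancel₀ hr0 (by rw [hs] at h0; linear_combination -h0))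
    rw [hs, hr0, zero_smul, zero_smul, add_zero]

end CfsgLib.PSLCover
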