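import Cfsg.Agent.Lib.PSLCover.Pair
import Cfsg.Agent.Lib.PSLCover.Eigen

/-! Dimension three. -/

set_option autoImplicit false
set_option linter.unusedSectionVars false

namespace CfsgLib.PSLCover

open Module LinearMap

universe u v

variable {K : Type u} [Field K] {V : Type v} [AddCommGroup V] [Module K V]

/-- A cyclic vector in dimension three with the coefficients of the recurrence. -/
def Chain (X : Module.End K V) (v : V) (t s d : K) : Prop :=
  LinearIndependent K ![v, X v, X (X v)] ∧ X (X (X v)) = t • X (X v) - s • X v + d • v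

theorem li_three {a b c : V} (h : ∀ p q r : K, p • a + q • b + r • c = 0 → p = 0 ∧ q = 0 ∧ r = 0) :
    LinearIndependent K ![a, b, c] := by
  rw [Fintype.linearIndependent_iff]
  intro g hg
  simp only [Fin.sum_univ_three, Matrix.cons_val_zero, Matrix.cons_val_one, Matrix.cons_val] at hg
  obtain ⟨h0, h1, h2⟩ := h _ _ _ hg
  intro i; fin_cases i <;> assumption

variable [FiniteDimensional K V]

theorem Chain.basis {X : Module.End K V} {v : V} {t s d : K} (h : Chain X v t s d) (hn : finrank K V = 3) :
    ∃ B : Basis (Fin 3) K V, B 0 = v ∧ B 1 = X v ∧ B 2 = X (X v) ∧ X (B 0) = B 1 ∧ X (B 1) = B 2 ∧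
      X (B 2) = t • B 2 - s • B 1 + d • B 0 := by
  refine ⟨basisOfLinearIndependentOfCardEqFinrank h.1 (by simp [hn]), ?_⟩
  simp [h.2]

theorem Chain.det {X : Module.End K V} {v : V} {t s d : K} (h : Chain X v t s d) (hn : finrank K V = 3) :
    LinearMap.det X = d := by
  obtain ⟨B, -, -, -, h0, h1, h2⟩ := h.basis hn
  rw [← LinearMap.det_toMatrix B, Matrix.det_fin_three]
  simp [LinearMap.toMatrix_apply, h0, h1, h2]

theorem Chain.conj {X Y : Module.End K V} {v w : V} {t s d : K} (h : Chain X v t s d) (h' : Chain Y w t s d)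
    (hn : finrank K V = 3) : ∃ e : V ≃ₗ[K] V, ∀ p, Y (e p) = e (X p) := by
  obtain ⟨B, -, -, -, h0, h1, h2⟩ := h.basis hn
  obtain ⟨C, -, -, -, k0, k1, k2⟩ := h'.basis hn
  refine ⟨B.equiv C (Equiv.refl _), fun p => ?_⟩
  have : Y ∘ₗ ((B.equiv C (Equiv.refl _)) : V →ₗ[K] V) = ((B.equiv C (Equiv.refl _)) : V →ₗ[K] V) ∘ₗ X :=
    B.ext fun i => by fin_cases i <;> simp [h0, h1, h2, k0, k1, k2]
  exact LinearMap.congr_fun this p

theorem Chain.eig {X : Module.End K V} {v : V} {t s d : K} (h : Chain X v t s d) (hn : finrank K V = 3) (r : K)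
    {p q : V} (hp : X p = r • p) (hq : X q = r • q) (hq0 : q ≠ 0) : p ∈ Submodule.span K {q} := by
  obtain ⟨B, -, -, -, h0, h1, h2⟩ := h.basis hn
  have key : ∀ p, X p = r • p → B.repr p 1 = (r - t) * B.repr p 2 ∧ B.repr p 0 = r * B.repr p 1 + s * B.repr p 2 := by
    intro p hp
    have e := congrArg B.repr hp
    conv_lhs at e => rw [← B.sum_repr p]
    simp only [Fin.sum_univ_three, map_add, map_smul, h0, h1, h2, map_sub, Basis.repr_self] at e
    have e1 := DFunLike.congr_fun e 1
    have e2 := DFunLike.congr_fun e 2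
    simp at e1 e2
    exact ⟨by linear_combination e2, by linear_combination e1⟩
  obtain ⟨hp1, hp0⟩ := key p hp
  obtain ⟨hq1, hq0'⟩ := key q hq
  have hq2 : B.repr q 2 ≠ 0 := fun e => hq0 (by
    rw [e, mul_zero] at hq1
    rw [hq1, e, mul_zero, mul_zero, add_zero] at hq0'
    refine B.repr.injective ?_
    rw [map_zero]
    ext i; fin_cases i <;> simp [e, hq1, hq0'])
  refine Submodule.mem_span_singleton.2 ⟨B.repr p 2 / B.repr q 2, B.repr.injective ?_⟩
  ext i
  fin_cases i <;> simp [hp0, hp1, hq0', hq1] <;> field_simp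

theorem Chain.ann {X : Module.End K V} {v : V} {c e : K}
    (h : Chain X v (2 * c + e) (c * c + 2 * c * e) (c * c * e)) (hn : finrank K V = 3) :
    ([c, c, e].map fun r => X - r • 1).prod = 0 := by
  obtain ⟨B, -, -, -, h0, h1, h2⟩ := h.basis hn
  refine B.ext fun i => ?_
  fin_cases i <;>
    simp [Module.End.mul_apply, h0, h1, h2, map_add, map_sub, map_smul] <;> module

theorem exists_chain (hn : finrank K V = 3) {x : Module.End K V} (hp : ¬ Pseudo x) :
    ∃ v t s d, Chain x v t s d := by
  have build : ∀ v, LinearIndependent K ![v, x v, x (x v)] → ∃ t s d, Chain x v t s d := fun v hli => by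
    let B := basisOfLinearIndependentOfCardEqFinrank hli (by simp [hn])
    refine ⟨B.repr (x (x (x v))) 2, -B.repr (x (x (x v))) 1, B.repr (x (x (x v))) 0, hli, ?_⟩
    conv_lhs => rw [← B.sum_repr (x (x (x v)))]
    simp [Fin.sum_univ_three, B]
    abel
  suffices ∃ v, LinearIndependent K ![v, x v, x (x v)] by
    obtain ⟨v, hv⟩ := this; exact ⟨v, build v hv⟩
  obtain ⟨v, hv⟩ := exists_not_eigen (g := x) fun s hs => hp ⟨s, by
    rw [show x - s • (1 : Module.End K V) = 0 from sub_eq_zero.2 hs, LinearMap.range_zero, finrank_bot]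
    exact Nat.zero_le _⟩
  by_contra hcon
  push Not at hcon
  have hv0 : v ≠ 0 := fun e => hv (by rw [e, map_zero]; exact zero_mem _)
  have hind : ∀ p q : K, p • v + q • x v = 0 → p = 0 ∧ q = 0 := fun p q h => by
    have hq : q = 0 := by
      by_contra hq
      refine hv (Submodule.mem_span_singleton.2 ⟨-(q⁻¹ * p), ?_⟩)
      rw [neg_smul, mul_smul, ← smul_neg, ← eq_neg_of_add_eq_zero_right h, smul_smul, inv_mul_cancel₀ hq, one_smul]
    rw [hq, zero_smul, add_zero] at h
    exact ⟨(smul_eq_zero.1 h).resolve_right hv0, hq⟩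
  obtain ⟨α, β, hab⟩ : ∃ α β : K, x (x v) = α • v + β • x v := by
    by_contra h
    push Not at h
    refine hcon v (li_three fun p q r e => ?_)
    rcases eq_or_ne r 0 with rfl | hr
    · rw [zero_smul, add_zero] at e
      exact ⟨(hind p q e).1, (hind p q e).2, rfl⟩
    · refine absurd ?_ (h (-(r⁻¹ * p)) (-(r⁻¹ * q)))
      have e' := eq_neg_of_add_eq_zero_right e
      calc x (x v) = r⁻¹ • (r • x (x v)) := by rw [smul_smul, inv_mul_cancel₀ hr, one_smul]
        _ = _ := by rw [e']; module
  -- the invariant plane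
  set P := Submodule.span K ({v, x v} : Set V) with hP
  obtain ⟨w, hw⟩ : ∃ w, w ∉ P := by
    by_contra h
    push Not at h
    classical
    have h1 := finrank_span_finset_le_card (R := K) ({v, x v} : Finset V)
    rw [Finset.coe_insert, Finset.coe_singleton, Set.finrank, ← hP, Submodule.eq_top_iff'.2 h, finrank_top] at h1
    have := Finset.card_le_two (a := v) (b := x v)
    omega
  have hfull : ∀ p : V, ∃ a b c : K, p = a • v + b • x v + c • w := by
    have hli : LinearIndependent K ![v, x v, w] := li_three fun p q r e => by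
      rcases eq_or_ne r 0 with rfl | hr
      · rw [zero_smul, add_zero] at e
        exact ⟨(hind p q e).1, (hind p q e).2, rfl⟩
      · refine absurd ?_ hw
        have e' := eq_neg_of_add_eq_zero_right e
        refine (Submodule.smul_mem_iff P hr).1 (e' ▸ P.neg_mem (P.add_mem ?_ ?_))
        · exact P.smul_mem _ (Submodule.subset_span (by simp))
        · exact P.smul_mem _ (Submodule.subset_span (by simp))
    let B := basisOfLinearIndependentOfCardEqFinrank hli (by simp [hn])
    intro p
    refine ⟨B.repr p 0, B.repr p 1, B.repr p 2, ?_⟩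
    conv_lhs => rw [← B.sum_repr p]
    simp [Fin.sum_univ_three, B]
  obtain ⟨p0, q0, c, hxw⟩ := hfull (x w)
  have indw : ∀ p q r : K, p • v + q • x v + r • w = 0 → p = 0 ∧ q = 0 ∧ r = 0 := fun p q r e => by
    rcases eq_or_ne r 0 with rfl | hr
    · rw [zero_smul, add_zero] at e
      exact ⟨(hind p q e).1, (hind p q e).2, rfl⟩
    · refine absurd ?_ hw
      refine (Submodule.smul_mem_iff P hr).1 (eq_neg_of_add_eq_zero_right e ▸ P.neg_mem (P.add_mem ?_ ?_))
      · exact P.smul_mem _ (Submodule.subset_span (by simp))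
      · exact P.smul_mem _ (Submodule.subset_span (by simp))
  -- the candidates `w + k v + l x v`
  have cand : ∀ k l : K, ∃ A B : K,
      x (w + k • v + l • x v) = A • v + B • x v + c • w ∧
      A = p0 + l * α ∧ B = q0 + k + l * β := fun k l => ⟨_, _, by
    rw [map_add, map_add, map_smul, map_smul, hxw, hab]; module, rfl, rfl⟩
  have crit : ∀ k l : K, (p0 + l * α - c * k) * (p0 + l * α - c * k + β * (q0 + k + l * β - c * l)) -
      α * (q0 + k + l * β - c * l) ^ 2 ≠ 0 → False := by
    intro k l hD
    set u := w + k • v + l • x v with hu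
    set A := p0 + l * α - c * k
    set B := q0 + k + l * β - c * l
    have h1 : x u = c • u + A • v + B • x v := by
      simp only [hu, map_add, map_smul, hxw, hab, A, B]; module
    have h2 : x (x u) = (c * c) • u + (c * A + B * α) • v + (c * B + A + B * β) • x v := by
      rw [h1, map_add, map_add, map_smul, map_smul, map_smul, h1, hab]; module
    refine hcon u (li_three fun p q r e => ?_)
    rw [h2, h1, hu] at e
    have e' : (k * (p + q * c + r * (c * c)) + q * A + r * (c * A + B * α)) • v +
        (l * (p + q * c + r * (c * c)) + q * B + r * (c * B + A + B * β)) • x v +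
        (p + q * c + r * (c * c)) • w = 0 := by rw [← e]; module
    obtain ⟨ev, exv, ew⟩ := indw _ _ _ e'
    rw [ew, mul_zero, zero_add] at ev exv
    have hr : r * (A * (A + β * B) - α * B ^ 2) = 0 := by linear_combination A * exv - B * ev
    have hr0 : r = 0 := (mul_eq_zero.1 hr).resolve_right hD
    subst hr0
    have hAB : A ≠ 0 ∨ B ≠ 0 := by
      by_contra hh; push Not at hh; exact hD (by rw [hh.1, hh.2]; ring)
    have hq : q = 0 := by
      rcases hAB with h | h
      · exact (mul_eq_zero.1 (by linear_combination ev : q * A = 0)).resolve_right h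
      · exact (mul_eq_zero.1 (by linear_combination exv : q * B = 0)).resolve_right h
    subst hq
    exact ⟨by linear_combination ew, rfl, rfl⟩
  -- all vanish: pseudo
  apply hp
  have hf : c * c - β * c - α = 0 := by
    by_contra hf
    have key : ∀ k l : K, (p0 + l * α - c * k) * (p0 + l * α - c * k + β * (q0 + k + l * β - c * l)) -
        α * (q0 + k + l * β - c * l) ^ 2 = 0 := fun k l => not_not.1 (crit k l)
    -- `A` and `B` take all values
    obtain ⟨k, l, hA, hB⟩ : ∃ k l : K, p0 + l * α - c * k = 1 ∧ q0 + k + l * β - c * l = 0 := by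
      have hD : α + c * β - c * c ≠ 0 := fun e => hf (by linear_combination -e)
      refine ⟨-q0 - (β - c) * ((1 - p0 - c * q0) * (α + c * β - c * c)⁻¹),
        (1 - p0 - c * q0) * (α + c * β - c * c)⁻¹, ?_, by ring⟩
      linear_combination (1 - p0 - c * q0) * mul_inv_cancel₀ hD
    have := key k l
    rw [hA, hB] at this
    simp at this
  refine ⟨c, ?_⟩
  have hz : (x - c • 1) (x v) = (β - c) • (x v - c • v) := by
    simp only [RegUnipProd.sub_smul_one_apply, hab]
    rw [show α = c * c - β * c by linear_combination -hf]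
    module
  have hmem : (x - c • 1) w ∈ Submodule.span K {x v - c • v} := by
    refine Submodule.mem_span_singleton.2 ⟨q0, ?_⟩
    simp only [RegUnipProd.sub_smul_one_apply, hxw]
    have hpq : p0 + c * q0 = 0 := by
      have h := not_not.1 (crit (-q0) 0)
      have h' : (p0 + c * q0) ^ 2 = 0 := by linear_combination h
      exact (pow_eq_zero_iff (by norm_num : (2 : ℕ) ≠ 0)).1 h'
    rw [show p0 = -(c * q0) by linear_combination hpq]
    module
  refine le_trans (Submodule.finrank_mono ?_) (RegUnipProd.finrank_span_singleton_le (x v - c • v))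
  rintro _ ⟨p, rfl⟩
  obtain ⟨a, b, d, rfl⟩ := hfull p
  rw [map_add, map_add, map_smul, map_smul, map_smul, hz]
  refine add_mem (add_mem (Submodule.smul_mem _ _ (Submodule.mem_span_singleton_self _))
    (Submodule.smul_mem _ _ (Submodule.smul_mem _ _ (Submodule.mem_span_singleton_self _))))
    (Submodule.smul_mem _ _ hmem)

end CfsgLib.PSLCover
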